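import Mathlib
import Groth.Prelude.Def_HTop2

set_option autoImplicit false
universe u
open CategoryTheory AlgebraicGeometry

namespace Groth.Agent.Lib.helper7

theorem uh_isUnivHomeo_iff {X Y : Scheme.{u}} (f : X ⟶ Y) :
    FlatMor.IsUnivHomeo f ↔ UniversallyInjective f ∧ Surjective f ∧ UniversallyClosed f := by
  constructor
  · intro h
    refine ⟨⟨?_⟩, ?_, ⟨?_⟩⟩
    · intro X' Y' i₁ i₂ f' H
      exact (h i₁ i₂ f' H).injective
    · exact ⟨(h (𝟙 X) (𝟙 Y) f IsPullback.of_id_snd).surjective⟩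
    · intro X' Y' i₁ i₂ f' H
      exact (h i₁ i₂ f' H).isClosedMap
  · rintro ⟨h1, h2, h3⟩ X' Y' i₁ i₂ f' H
    have h2' : Surjective f' := MorphismProperty.of_isPullback H.flip h2
    have h4 : IsHomeomorph f' := by
      rw [isHomeomorph_iff_continuous_isClosedMap_bijective]
      exact ⟨f'.continuous, h3.1 i₁ i₂ f' H, h1.1 i₁ i₂ f' H, f'.surjective⟩
    exact h4

theorem uh_resmap_comm {R S : CommRingCat.{u}} (φ : R ⟶ S) (y : Spec S) :
    CommRingCat.ofHom (algebraMap R ((Spec.map φ) y).asIdeal.ResidueField) ≫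
      (Scheme.Spec.residueFieldIso R (Spec.map φ y)).inv ≫ (Spec.map φ).residueFieldMap y =
    φ ≫ CommRingCat.ofHom (algebraMap S y.asIdeal.ResidueField) ≫
      (Scheme.Spec.residueFieldIso S y).inv := by
  apply Spec.map_injective
  simp only [Spec.map_comp, Category.assoc]
  rw [Scheme.Spec.map_residueFieldIso_inv_eq_fromSpecResidueField,
    Scheme.Spec.map_residueFieldIso_inv_eq_fromSpecResidueField_assoc]
  exact Scheme.Hom.SpecMap_residueFieldMap_fromSpecResidueField (Spec.map φ) y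

theorem uh_iso_inv_hom_apply {A B : CommRingCat.{u}} (i : A ≅ B) (z : A) :
    i.inv.hom (i.hom.hom z) = z := by
  have h := congrArg CommRingCat.Hom.hom i.hom_inv_id
  exact congrFun (congrArg DFunLike.coe h) z

theorem uh_iso_hom_inv_apply {A B : CommRingCat.{u}} (i : A ≅ B) (z : B) :
    i.hom.hom (i.inv.hom z) = z := by
  have h := congrArg CommRingCat.Hom.hom i.inv_hom_id
  exact congrFun (congrArg DFunLike.coe h) z

theorem uh_resmap {R S : Type u} [CommRing R] [CommRing S] (φ : R →+* S) (y : PrimeSpectrum S) :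
    ∃ (e₁ : (Spec (CommRingCat.of R)).residueField ((Spec.map (CommRingCat.ofHom φ)) y) ≃+*
              (PrimeSpectrum.comap φ y).asIdeal.ResidueField)
      (e₂ : (Spec (CommRingCat.of S)).residueField y ≃+* y.asIdeal.ResidueField),
      ∀ z, e₂ (((Spec.map (CommRingCat.ofHom φ)).residueFieldMap y).hom z) =
        Ideal.ResidueField.map (PrimeSpectrum.comap φ y).asIdeal y.asIdeal φ rfl (e₁ z) := by
  obtain ⟨i₁, hi₁⟩ : ∃ i, i = Scheme.Spec.residueFieldIso (CommRingCat.of R)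
    (Spec.map (CommRingCat.ofHom φ) y) := ⟨_, rfl⟩
  obtain ⟨i₂, hi₂⟩ : ∃ i, i = Scheme.Spec.residueFieldIso (CommRingCat.of S) y := ⟨_, rfl⟩
  refine ⟨i₁.commRingCatIsoToRingEquiv, i₂.commRingCatIsoToRingEquiv, ?_⟩
  have key := uh_resmap_comm (CommRingCat.ofHom φ) y
  rw [← hi₁, ← hi₂] at key
  have h1 : ((i₂.hom.hom).comp ((Spec.map (CommRingCat.ofHom φ)).residueFieldMap y).hom).comp
      i₁.inv.hom
      = Ideal.ResidueField.map (PrimeSpectrum.comap φ y).asIdeal y.asIdeal φ rfl := by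
    apply Ideal.ResidueField.ringHom_ext
    ext r
    have h2 := ConcreteCategory.congr_hom key r
    have h3 : ((Spec.map (CommRingCat.ofHom φ)).residueFieldMap y).hom
        (i₁.inv.hom (algebraMap R (PrimeSpectrum.comap φ y).asIdeal.ResidueField r)) =
        i₂.inv.hom (algebraMap S y.asIdeal.ResidueField (φ r)) := h2
    simp only [RingHom.comp_apply]
    refine (congrArg i₂.hom.hom h3).trans ?_
    rw [uh_iso_hom_inv_apply i₂]
    exact (Ideal.ResidueField.map_algebraMap _ _ φ rfl r).symm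
  intro z
  have h4 := congrFun (congrArg DFunLike.coe h1) (i₁.hom.hom z)
  simp only [RingHom.comp_apply] at h4
  rw [uh_iso_inv_hom_apply i₁ z] at h4
  exact h4

theorem uh_pow_mem_of_isPurelyInseparable {F E : Type u} [Field F] [Field E] (g : F →+* E)
    (hg : g.IsPurelyInseparable) (x : E) : ∃ n : ℕ, x ^ ringExpChar F ^ n ∈ g.range := by
  letI := g.toAlgebra
  have h1 : IsPurelyInseparable F E := hg
  exact (isPurelyInseparable_iff_pow_mem F (ringExpChar F)).mp h1 x

theorem uh_isPurelyInseparable_of_surjective {F E : Type u} [Field F] [Field E] (g : F →+* E)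
    (hg : Function.Surjective g) : g.IsPurelyInseparable := by
  letI := g.toAlgebra
  have h1 : IsPurelyInseparable F E := by
    rw [isPurelyInseparable_iff_pow_mem F (ringExpChar F)]
    intro x
    obtain ⟨w, hw⟩ := hg x
    exact ⟨0, w, by rw [pow_zero, pow_one]; exact hw⟩
  exact h1

theorem uh_transfer_pow {K₁ K₂ L₁ L₂ : Type u} [Field K₁] [Field K₂] [Field L₁] [Field L₂]
    (g : K₁ →+* K₂) (m : L₁ →+* L₂) (e₁ : K₁ ≃+* L₁) (e₂ : K₂ ≃+* L₂)
    (hc : ∀ z, e₂ (g z) = m (e₁ z)) (hg : g.IsPurelyInseparable) (x : L₂) :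
    ∃ n : ℕ, x ^ ringExpChar L₁ ^ n ∈ Set.range m := by
  obtain ⟨n, w, hw⟩ := uh_pow_mem_of_isPurelyInseparable g hg (e₂.symm x)
  have hq : ringExpChar L₁ = ringExpChar K₁ := by
    haveI := expChar_of_injective_ringHom (f := e₁.toRingHom) e₁.injective (ringExpChar K₁)
    exact ringExpChar.eq L₁ (ringExpChar K₁)
  refine ⟨n, e₁ w, ?_⟩
  rw [← hc, hw, map_pow, RingEquiv.apply_symm_apply, hq]

theorem uh_transfer_bij {K₁ K₂ L₁ L₂ : Type u} [Field K₁] [Field K₂] [Field L₁] [Field L₂]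
    (g : K₁ →+* K₂) (m : L₁ →+* L₂) (e₁ : K₁ ≃+* L₁) (e₂ : K₂ ≃+* L₂)
    (hc : ∀ z, e₂ (g z) = m (e₁ z)) : Function.Bijective g ↔ Function.Bijective m := by
  constructor
  · intro hg
    have h1 : (m : L₁ → L₂) = (e₂ : K₂ → L₂) ∘ (g : K₁ → K₂) ∘ (e₁.symm : L₁ → K₁) := by
      funext z
      simp only [Function.comp_apply]
      rw [hc, RingEquiv.apply_symm_apply]
    rw [h1]
    exact e₂.bijective.comp (hg.comp e₁.symm.bijective)
  · intro hm
    have h1 : (g : K₁ → K₂) = (e₂.symm : L₂ → K₂) ∘ (m : L₁ → L₂) ∘ (e₁ : K₁ → L₁) := by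
      funext z
      simp only [Function.comp_apply]
      rw [← hc, RingEquiv.symm_apply_apply]
    rw [h1]
    exact e₂.symm.bijective.comp (hm.comp e₁.bijective)

/-- ring-level criterion ⇒ universal homeomorphism with iso residue fields. -/
theorem uh_of_ring {R S : Type u} [CommRing R] [CommRing S] (φ : R →+* S)
    (hint : φ.IsIntegral) (hbij : Function.Bijective (PrimeSpectrum.comap φ))
    (hres : ∀ y : PrimeSpectrum S, Function.Bijective
      (Ideal.ResidueField.map (PrimeSpectrum.comap φ y).asIdeal y.asIdeal φ rfl)) :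
    FlatMor.IsUnivHomeo (Spec.map (CommRingCat.ofHom φ)) ∧
      HTop.ResidueFieldsIso (Spec.map (CommRingCat.ofHom φ)) := by
  have hb : ∀ y : PrimeSpectrum S, Function.Bijective
      ((Spec.map (CommRingCat.ofHom φ)).residueFieldMap y).hom := by
    intro y
    obtain ⟨e₁, e₂, hc⟩ := uh_resmap φ y
    exact (uh_transfer_bij _ _ e₁ e₂ hc).mpr (hres y)
  refine ⟨?_, ?_⟩
  · rw [uh_isUnivHomeo_iff]
    refine ⟨?_, ⟨hbij.2⟩, ?_⟩
    · have h6 := (tfae_universallyInjective (Spec.map (CommRingCat.ofHom φ))).out 0 2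
      refine h6.mpr ⟨hbij.1, ?_⟩
      intro y
      exact uh_isPurelyInseparable_of_surjective _ (hb y).2
    · haveI : IsIntegralHom (Spec.map (CommRingCat.ofHom φ)) :=
        IsIntegralHom.SpecMap_iff.mpr hint
      infer_instance
  · intro y
    exact (ConcreteCategory.isIso_iff_bijective _).mpr (hb y)

/-- universal homeomorphism ⇒ ring-level facts. -/
theorem uh_to_ring {R S : Type u} [CommRing R] [CommRing S] (φ : R →+* S)
    (h : FlatMor.IsUnivHomeo (Spec.map (CommRingCat.ofHom φ))) :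
    φ.IsIntegral ∧ Function.Bijective (PrimeSpectrum.comap φ) ∧
      ∀ y : PrimeSpectrum S, ∀ x : y.asIdeal.ResidueField,
        ∃ n : ℕ, x ^ (ringExpChar (PrimeSpectrum.comap φ y).asIdeal.ResidueField) ^ n ∈
          Set.range (Ideal.ResidueField.map (PrimeSpectrum.comap φ y).asIdeal y.asIdeal φ rfl) := by
  rw [uh_isUnivHomeo_iff] at h
  obtain ⟨h1, h2, h3⟩ := h
  have h4 := ((tfae_universallyInjective (Spec.map (CommRingCat.ofHom φ))).out 0 2).mp h1
  refine ⟨?_, ⟨h4.1, h2.surj⟩, ?_⟩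
  · have h5 : IsIntegralHom (Spec.map (CommRingCat.ofHom φ)) :=
      IsIntegralHom.iff_universallyClosed_and_isAffineHom.mpr ⟨h3, inferInstance⟩
    exact IsIntegralHom.SpecMap_iff.mp h5
  · intro y x
    obtain ⟨e₁, e₂, hc⟩ := uh_resmap φ y
    exact uh_transfer_pow _ _ e₁ e₂ hc (h4.2 y) x

theorem uh_resIso_to_ring {R S : Type u} [CommRing R] [CommRing S] (φ : R →+* S)
    (h : HTop.ResidueFieldsIso (Spec.map (CommRingCat.ofHom φ))) (y : PrimeSpectrum S) :
    Function.Bijective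
      (Ideal.ResidueField.map (PrimeSpectrum.comap φ y).asIdeal y.asIdeal φ rfl) := by
  obtain ⟨e₁, e₂, hc⟩ := uh_resmap φ y
  exact (uh_transfer_bij _ _ e₁ e₂ hc).mp ((ConcreteCategory.isIso_iff_bijective _).mp (h y))

theorem uh_resIso_of_ring {R S : Type u} [CommRing R] [CommRing S] (φ : R →+* S)
    (hres : ∀ y : PrimeSpectrum S, Function.Bijective
      (Ideal.ResidueField.map (PrimeSpectrum.comap φ y).asIdeal y.asIdeal φ rfl)) :
    HTop.ResidueFieldsIso (Spec.map (CommRingCat.ofHom φ)) := by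
  intro y
  obtain ⟨e₁, e₂, hc⟩ := uh_resmap φ y
  exact (ConcreteCategory.isIso_iff_bijective _).mpr ((uh_transfer_bij _ _ e₁ e₂ hc).mpr (hres y))

end Groth.Agent.Lib.helper7
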