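import Mathlib
import Groth.Prelude.Def_W4c1chowmix47Eta

set_option autoImplicit false

namespace Groth.Agent.Lib.helper7

open EtaPt

universe u

section EtaPtBasics

variable (η : EtaPt.FieldEndo.{u})

theorem ep_map_bijective {K L : Type u} [Field K] [Field L] (e : K →+* L)
    (he : Function.Bijective e) : Function.Bijective (η.map e) := by
  let e' : K ≃+* L := RingEquiv.ofBijective e he
  have h1 : e.comp (e'.symm : L →+* K) = RingHom.id L := by
    ext x
    exact e'.apply_symm_apply x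
  have h3 : (η.map e).comp (η.map (e'.symm : L →+* K)) = RingHom.id _ := by
    rw [← η.map_comp, h1, η.map_id]
  exact ⟨(η.map e).injective, fun b => ⟨η.map (e'.symm : L →+* K) b, RingHom.congr_fun h3 b⟩⟩

theorem ep_Nmap_apply_of_eq {A B : Type u} [CommRing A] [CommRing B] (f : A →+* B) (x : η.N A)
    (q : PrimeSpectrum B) (p : PrimeSpectrum A) (h : p.asIdeal = q.asIdeal.comap f) :
    η.Nmap f x q = η.map (Ideal.ResidueField.map p.asIdeal q.asIdeal f h) (x p) := by
  have hp : p = PrimeSpectrum.comap f q := PrimeSpectrum.ext h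
  subst hp
  rfl

theorem ep_t_apply {A : Type u} [CommRing A] (a : A) (p : PrimeSpectrum A) :
    η.t A a p = η.eta p.asIdeal.ResidueField (algebraMap A p.asIdeal.ResidueField a) := rfl

theorem ep_residueField_map_comp {A B C : Type u} [CommRing A] [CommRing B] [CommRing C]
    (f : A →+* B) (g : B →+* C) (I : Ideal A) [I.IsPrime] (J : Ideal B) [J.IsPrime]
    (K : Ideal C) [K.IsPrime] (h1 : I = J.comap f) (h2 : J = K.comap g)
    (h3 : I = K.comap (g.comp f)) :
    Ideal.ResidueField.map I K (g.comp f) h3 =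
      (Ideal.ResidueField.map J K g h2).comp (Ideal.ResidueField.map I J f h1) := by
  apply Ideal.ResidueField.ringHom_ext
  ext a
  simp only [RingHom.comp_apply, Ideal.ResidueField.map_algebraMap]

theorem ep_Nmap_comp {A B C : Type u} [CommRing A] [CommRing B] [CommRing C] (f : A →+* B)
    (g : B →+* C) : η.Nmap (g.comp f) = (η.Nmap g).comp (η.Nmap f) := by
  ext x r
  rw [RingHom.comp_apply]
  rw [ep_Nmap_apply_of_eq η (g.comp f) x r (PrimeSpectrum.comap f (PrimeSpectrum.comap g r))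
    (Ideal.comap_comap f g)]
  rw [ep_Nmap_apply_of_eq η g (η.Nmap f x) r (PrimeSpectrum.comap g r) rfl]
  rw [ep_Nmap_apply_of_eq η f x (PrimeSpectrum.comap g r)
    (PrimeSpectrum.comap f (PrimeSpectrum.comap g r)) rfl]
  rw [ep_residueField_map_comp f g (PrimeSpectrum.comap f (PrimeSpectrum.comap g r)).asIdeal
    (PrimeSpectrum.comap g r).asIdeal r.asIdeal rfl rfl (Ideal.comap_comap f g), η.map_comp]
  rfl

theorem ep_Nmap_mem_M {A B : Type u} [CommRing A] [CommRing B] (f : A →+* B) {x : η.N A}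
    (hx : x ∈ η.M A) : η.Nmap f x ∈ η.M B := by
  intro R _ _ _ hR g
  have h := hx R hR (g.comp f)
  rw [ep_Nmap_comp] at h
  exact h

/-- The generic point of a domain. -/
abbrev ep_bot (R : Type u) [CommRing R] [IsDomain R] : PrimeSpectrum R := ⟨⊥, Ideal.isPrime_bot⟩

theorem ep_t_bot_eq_zero {R : Type u} [CommRing R] [IsDomain R] {r : R}
    (h : η.t R r (ep_bot R) = 0) : r = 0 := by
  have h1 : η.eta _ (algebraMap R (ep_bot R).asIdeal.ResidueField r) = 0 := h
  have h2 := (map_eq_zero (η.eta _)).mp h1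
  have h3 := Ideal.algebraMap_residueField_eq_zero.mp h2
  exact (Ideal.mem_bot).mp h3

theorem ep_hom_ext {K L : Type u} [Field K] [Field L] (u v : η.obj K →+* L)
    (h : u.comp (η.eta K) = v.comp (η.eta K)) : u = v := by
  ext x
  obtain ⟨n, c, hc⟩ := η.exists_pow_mem_range_eta K x
  haveI : ExpChar L (ringExpChar K) :=
    expChar_of_injective_ringHom (u.comp (η.eta K)).injective (ringExpChar K)
  apply iterateFrobenius_inj L (ringExpChar K) n
  rw [iterateFrobenius_def, iterateFrobenius_def, ← map_pow, ← map_pow, ← hc]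
  exact RingHom.congr_fun h c

theorem ep_eta_obj (K : Type u) [Field K] : η.eta (η.obj K) = η.map (η.eta K) :=
  ep_hom_ext η _ _ (η.eta_natural (η.eta K)).symm

theorem ep_bijective_eta_obj (K : Type u) [Field K] : Function.Bijective (η.eta (η.obj K)) := by
  rw [ep_eta_obj]
  exact η.bijective_map_eta K

theorem ep_bijective_eta_of_ringEquiv {K L : Type u} [Field K] [Field L] (e : K ≃+* L)
    (h : Function.Bijective (η.eta K)) : Function.Bijective (η.eta L) := by
  have hnat := η.eta_natural (e : K →+* L)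
  have hfun : ⇑(η.eta L) = ⇑((η.map (e : K →+* L)).comp (η.eta K)) ∘ ⇑e.symm := by
    funext y
    rw [hnat]
    simp
  rw [hfun]
  exact ((ep_map_bijective η _ e.bijective).comp h).comp e.symm.bijective

theorem ep_InV_of_isFractionRing (R : Type u) [CommRing R] [IsDomain R] (K : Type u) [Field K]
    [Algebra R K] [IsFractionRing R K] (h : Function.Bijective (η.eta K)) : η.InV R :=
  ep_bijective_eta_of_ringEquiv η (FractionRing.algEquiv R K).symm.toRingEquiv h

theorem ep_bijective_eta_of_InV (R : Type u) [CommRing R] [IsDomain R] (K : Type u) [Field K]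
    [Algebra R K] [IsFractionRing R K] (h : η.InV R) : Function.Bijective (η.eta K) :=
  ep_bijective_eta_of_ringEquiv η (FractionRing.algEquiv R K).toRingEquiv h

/-- The structure map `A → F(κ(p))`. -/
noncomputable def ep_phi {A : Type u} [CommRing A] (p : PrimeSpectrum A) :
    A →+* η.obj p.asIdeal.ResidueField :=
  (η.eta p.asIdeal.ResidueField).comp (algebraMap A p.asIdeal.ResidueField)

theorem ep_phi_eq_zero_iff {A : Type u} [CommRing A] (p : PrimeSpectrum A) (a : A) :
    ep_phi η p a = 0 ↔ a ∈ p.asIdeal := by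
  unfold ep_phi
  rw [RingHom.comp_apply, map_eq_zero, Ideal.algebraMap_residueField_eq_zero]

theorem ep_eval_valuationSubring {A : Type u} [CommRing A] (p : PrimeSpectrum A)
    (V : ValuationSubring (η.obj p.asIdeal.ResidueField)) (g : A →+* ↥V)
    (hg : ∀ a : A, ((g a : ↥V) : η.obj p.asIdeal.ResidueField) = ep_phi η p a)
    {x : η.N A} (hx : x ∈ η.M A) :
    ∃ hxV : x p ∈ V, η.Nmap g x = η.t ↥V ⟨x p, hxV⟩ := by
  have hInV : η.InV ↥V :=
    ep_InV_of_isFractionRing η ↥V (η.obj p.asIdeal.ResidueField) (ep_bijective_eta_obj η _)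
  obtain ⟨r, hr⟩ := hx ↥V hInV g
  have hker : p.asIdeal = (ep_bot ↥V).asIdeal.comap g := by
    ext a
    rw [Ideal.mem_comap]
    show a ∈ p.asIdeal ↔ g a ∈ (⊥ : Ideal ↥V)
    rw [Ideal.mem_bot, ← ep_phi_eq_zero_iff η p a, ← hg a]
    constructor
    · intro h
      exact Subtype.ext h
    · intro h
      exact congrArg Subtype.val h
  have h1 := congrFun hr (ep_bot ↥V)
  rw [ep_Nmap_apply_of_eq η g x (ep_bot ↥V) p hker, ep_t_apply] at h1
  let ι : η.obj p.asIdeal.ResidueField ≃ₐ[↥V] (ep_bot ↥V).asIdeal.ResidueField :=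
    IsLocalization.algEquiv (nonZeroDivisors ↥V) _ _
  let ι' : η.obj p.asIdeal.ResidueField →+* (ep_bot ↥V).asIdeal.ResidueField :=
    ι.toRingEquiv.toRingHom
  have ha : Ideal.ResidueField.map p.asIdeal (ep_bot ↥V).asIdeal g hker =
      ι'.comp (η.eta p.asIdeal.ResidueField) := by
    apply Ideal.ResidueField.ringHom_ext
    ext a
    rw [RingHom.comp_apply, Ideal.ResidueField.map_algebraMap, RingHom.comp_apply,
      RingHom.comp_apply]
    have h2 : η.eta _ (algebraMap A p.asIdeal.ResidueField a) =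
        algebraMap ↥V (η.obj p.asIdeal.ResidueField) (g a) := (hg a).symm
    rw [h2]
    exact (ι.commutes (g a)).symm
  have hb := (η.eta_natural ι').symm
  rw [ep_eta_obj η] at hb
  have h2 : ((η.map ι').comp (η.map (η.eta p.asIdeal.ResidueField)))
        ((r : ↥V) : η.obj p.asIdeal.ResidueField) =
      ((η.map ι').comp (η.map (η.eta p.asIdeal.ResidueField))) (x p) := by
    calc ((η.map ι').comp (η.map (η.eta p.asIdeal.ResidueField)))
          ((r : ↥V) : η.obj p.asIdeal.ResidueField)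
        = ((η.eta _).comp ι') ((r : ↥V) : η.obj p.asIdeal.ResidueField) :=
          (RingHom.congr_fun hb _).symm
      _ = η.eta _ (algebraMap ↥V (ep_bot ↥V).asIdeal.ResidueField r) := by
          rw [RingHom.comp_apply]
          exact congrArg _ (ι.commutes r)
      _ = η.map (Ideal.ResidueField.map p.asIdeal (ep_bot ↥V).asIdeal g hker) (x p) := h1
      _ = _ := by rw [ha, η.map_comp]
  have h3 : ((r : ↥V) : η.obj p.asIdeal.ResidueField) = x p := RingHom.injective _ h2
  refine ⟨h3 ▸ r.2, ?_⟩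
  rw [← hr]
  exact congrArg (η.t ↥V) (Subtype.ext h3)

theorem ep_isIntegralElem {A : Type u} [CommRing A] {x : η.N A} (hx : x ∈ η.M A)
    (p : PrimeSpectrum A) : (ep_phi η p).IsIntegralElem (x p) := by
  have hmem : x p ∈ (integralClosure ↥(Subring.closure (Set.range (ep_phi η p)))
      (η.obj p.asIdeal.ResidueField)).toSubring := by
    rw [← iInf_valuationSubring_superset, Subring.mem_iInf]
    rintro ⟨V, hV⟩
    have hV' : ∀ a, ep_phi η p a ∈ V := fun a => hV ⟨a, rfl⟩
    obtain ⟨hxV, -⟩ := ep_eval_valuationSubring η p V ((ep_phi η p).codRestrict V hV')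
      (fun a => rfl) hx
    exact hxV
  have hint : IsIntegral ↥(Subring.closure (Set.range (ep_phi η p))) (x p) := hmem
  obtain ⟨P, hPm, hP⟩ := hint
  let ψ : A →+* ↥(Subring.closure (Set.range (ep_phi η p))) :=
    (ep_phi η p).codRestrict _ (fun a => Subring.subset_closure ⟨a, rfl⟩)
  have hψ : Function.Surjective ψ := by
    rintro ⟨y, hy⟩
    rw [← RingHom.coe_range, Subring.closure_eq] at hy
    obtain ⟨a, rfl⟩ := hy
    exact ⟨a, Subtype.ext rfl⟩
  obtain ⟨P', hP'⟩ := Polynomial.map_surjective ψ hψ P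
  obtain ⟨P'', hP''map, -, hP''m⟩ := Polynomial.lifts_and_degree_eq_and_monic
    ((Polynomial.mem_lifts P).mpr ⟨P', hP'⟩) hPm
  refine ⟨P'', hP''m, ?_⟩
  have e0 : (algebraMap ↥(Subring.closure (Set.range (ep_phi η p)))
      (η.obj p.asIdeal.ResidueField)).comp ψ = ep_phi η p := RingHom.ext (fun a => rfl)
  have e : Polynomial.eval₂ ((algebraMap ↥(Subring.closure (Set.range (ep_phi η p)))
      (η.obj p.asIdeal.ResidueField)).comp ψ) (x p) P'' =
      Polynomial.eval₂ (algebraMap ↥(Subring.closure (Set.range (ep_phi η p)))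
        (η.obj p.asIdeal.ResidueField)) (x p) (P''.map ψ) :=
    (Polynomial.eval₂_map ψ _ (x p)).symm
  rw [e0] at e
  rw [e, hP''map]
  exact hP

theorem ep_mem_maximalIdeal_iff {S : Type u} [CommRing S] {Ω : Type u} [Field Ω]
    (V : ValuationSubring Ω) (f : S →+* Ω) (hV : ∀ z, f z ∈ V.toSubring)
    (hloc : IsLocalHom (f.codRestrict V.toSubring hV)) (z : S) :
    (⟨f z, hV z⟩ : ↥V) ∈ IsLocalRing.maximalIdeal ↥V ↔ ¬ IsUnit z := by
  rw [IsLocalRing.mem_maximalIdeal, mem_nonunits_iff]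
  constructor
  · intro h hz
    apply h
    have h2 : IsUnit ((f.codRestrict V.toSubring hV) z) := hz.map _
    exact h2
  · intro h hu
    apply h
    have h2 : IsUnit ((f.codRestrict V.toSubring hV) z) := hu
    exact hloc.map_nonunit z h2

theorem ep_eq_zero_of_le {A : Type u} [CommRing A] {x : η.N A} (hx : x ∈ η.M A)
    (p p' : PrimeSpectrum A) (hpp : p.asIdeal ≤ p'.asIdeal) (h0 : x p = 0) : x p' = 0 := by
  have hunit : ∀ y : p'.asIdeal.primeCompl, IsUnit (ep_phi η p (y : A)) := by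
    intro y
    apply IsUnit.mk0
    intro h
    exact y.2 (hpp ((ep_phi_eq_zero_iff η p _).mp h))
  let f : Localization.AtPrime p'.asIdeal →+* η.obj p.asIdeal.ResidueField :=
    IsLocalization.lift (M := p'.asIdeal.primeCompl) hunit
  have hf : ∀ a : A, f (algebraMap A _ a) = ep_phi η p a :=
    fun a => IsLocalization.lift_eq hunit a
  obtain ⟨V, hV, hloc⟩ := IsLocalRing.exists_factor_valuationRing f
  have hV' : ∀ a : A, ep_phi η p a ∈ V := fun a => by rw [← hf a]; exact hV _
  obtain ⟨hxV, hN⟩ := ep_eval_valuationSubring η p V ((ep_phi η p).codRestrict V hV')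
    (fun a => rfl) hx
  have hzero : η.Nmap ((ep_phi η p).codRestrict V hV') x = 0 := by
    rw [hN]
    have h00 : (⟨x p, hxV⟩ : ↥V) = 0 := Subtype.ext h0
    rw [h00, map_zero]
  have hm : p'.asIdeal = (IsLocalRing.closedPoint ↥V).asIdeal.comap
      ((ep_phi η p).codRestrict V hV') := by
    ext a
    rw [Ideal.mem_comap]
    show a ∈ p'.asIdeal ↔ (ep_phi η p).codRestrict V hV' a ∈ IsLocalRing.maximalIdeal ↥V
    have e : (ep_phi η p).codRestrict V hV' a = (⟨f (algebraMap A _ a), hV _⟩ : ↥V) :=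
      Subtype.ext (hf a).symm
    rw [e, ep_mem_maximalIdeal_iff V f hV hloc,
      IsLocalization.AtPrime.isUnit_to_map_iff (Localization.AtPrime p'.asIdeal) p'.asIdeal a,
      Ideal.mem_primeCompl_iff, not_not]
  have h1 := congrFun hzero (IsLocalRing.closedPoint ↥V)
  rw [ep_Nmap_apply_of_eq η _ x _ p' hm] at h1
  exact (map_eq_zero _).mp h1

theorem ep_eq_zero_of_minimalPrimes {A : Type u} [CommRing A] {x : η.N A} (hx : x ∈ η.M A)
    (h0 : ∀ p : PrimeSpectrum A, p.asIdeal ∈ minimalPrimes A → x p = 0) : x = 0 := by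
  funext p'
  obtain ⟨I, hI, hle⟩ := Ideal.exists_minimalPrimes_le (I := ⊥) (J := p'.asIdeal) bot_le
  exact ep_eq_zero_of_le η hx ⟨I, hI.1.1⟩ p' hle (h0 ⟨I, hI.1.1⟩ hI)

/-- Evaluation of `M A` at a prime. -/
noncomputable def ep_evM {A : Type u} [CommRing A] (p : PrimeSpectrum A) :
    η.M A →+* η.obj p.asIdeal.ResidueField :=
  (Pi.evalRingHom (fun p : PrimeSpectrum A => η.obj p.asIdeal.ResidueField) p).comp
    (η.M A).subtype

theorem ep_evM_apply {A : Type u} [CommRing A] (p : PrimeSpectrum A) (x : η.M A) :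
    ep_evM η p x = (x : η.N A) p := rfl

theorem ep_evM_q {A : Type u} [CommRing A] (p : PrimeSpectrum A) (a : A) :
    ep_evM η p (η.q A a) = ep_phi η p a := rfl

theorem ep_mem_iff {A : Type u} [CommRing A] (hA : (minimalPrimes A).Finite)
    (Q : PrimeSpectrum (η.M A)) (p : PrimeSpectrum A)
    (hp : p.asIdeal = Q.asIdeal.comap (η.q A)) (x : η.M A) :
    x ∈ Q.asIdeal ↔ (x : η.N A) p = 0 := by
  classical
  have hprod : (∏ I ∈ hA.toFinset,
      (if h : I.IsPrime then RingHom.ker (ep_evM η ⟨I, h⟩) else ⊤)) ≤ Q.asIdeal := by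
    refine le_trans Ideal.prod_le_inf ?_
    intro y hy
    have hy0 : (y : η.N A) = 0 := by
      apply ep_eq_zero_of_minimalPrimes η y.2
      intro p0 hp0
      have h1 := (Finset.inf_le (f := fun I : Ideal A =>
        (if h : I.IsPrime then RingHom.ker (ep_evM η ⟨I, h⟩) else ⊤))
        (hA.mem_toFinset.mpr hp0)) hy
      simp only [dif_pos p0.isPrime] at h1
      exact (RingHom.mem_ker).mp h1
    have hy1 : y = 0 := Subtype.ext hy0
    rw [hy1]
    exact Q.asIdeal.zero_mem
  obtain ⟨I, hI, hIQ⟩ := (Ideal.IsPrime.prod_le Q.isPrime).mp hprod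
  have hIm : I ∈ minimalPrimes A := hA.mem_toFinset.mp hI
  have hIp : I.IsPrime := hIm.1.1
  rw [dif_pos hIp] at hIQ
  have hunit : ∀ y : Q.asIdeal.primeCompl,
      IsUnit (ep_evM η (⟨I, hIp⟩ : PrimeSpectrum A) (y : η.M A)) := by
    intro y
    apply IsUnit.mk0
    intro h
    exact y.2 (hIQ (RingHom.mem_ker.mpr h))
  let f : Localization.AtPrime Q.asIdeal →+* η.obj I.ResidueField :=
    IsLocalization.lift (M := Q.asIdeal.primeCompl) hunit
  have hf : ∀ b : η.M A, f (algebraMap _ _ b) = ep_evM η (⟨I, hIp⟩ : PrimeSpectrum A) b :=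
    fun b => IsLocalization.lift_eq hunit b
  obtain ⟨V, hV, hloc⟩ := IsLocalRing.exists_factor_valuationRing f
  have hV' : ∀ a : A, ep_phi η (⟨I, hIp⟩ : PrimeSpectrum A) a ∈ V := fun a => by
    have h1 : ep_phi η (⟨I, hIp⟩ : PrimeSpectrum A) a = f (algebraMap _ _ (η.q A a)) :=
      (hf (η.q A a)).symm
    rw [h1]
    exact hV _
  obtain ⟨hxV, hN⟩ := ep_eval_valuationSubring η (⟨I, hIp⟩ : PrimeSpectrum A) V
    ((ep_phi η (⟨I, hIp⟩ : PrimeSpectrum A)).codRestrict V hV') (fun a => rfl) x.2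
  have hm : p.asIdeal = (IsLocalRing.closedPoint ↥V).asIdeal.comap
      ((ep_phi η (⟨I, hIp⟩ : PrimeSpectrum A)).codRestrict V hV') := by
    ext a
    rw [Ideal.mem_comap, hp, Ideal.mem_comap]
    show η.q A a ∈ Q.asIdeal ↔
      (ep_phi η (⟨I, hIp⟩ : PrimeSpectrum A)).codRestrict V hV' a ∈ IsLocalRing.maximalIdeal ↥V
    have e : (ep_phi η (⟨I, hIp⟩ : PrimeSpectrum A)).codRestrict V hV' a =
        (⟨f (algebraMap _ _ (η.q A a)), hV _⟩ : ↥V) := Subtype.ext (hf (η.q A a)).symm
    rw [e, ep_mem_maximalIdeal_iff V f hV hloc,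
      IsLocalization.AtPrime.isUnit_to_map_iff (Localization.AtPrime Q.asIdeal) Q.asIdeal,
      Ideal.mem_primeCompl_iff, not_not]
  have h1 := congrFun hN (IsLocalRing.closedPoint ↥V)
  rw [ep_Nmap_apply_of_eq η _ (x : η.N A) _ p hm, ep_t_apply] at h1
  have h2 : (x : η.N A) p = 0 ↔
      (⟨(x : η.N A) (⟨I, hIp⟩ : PrimeSpectrum A), hxV⟩ : ↥V) ∈ IsLocalRing.maximalIdeal ↥V := by
    rw [← map_eq_zero (η.map (Ideal.ResidueField.map p.asIdeal
      (IsLocalRing.closedPoint ↥V).asIdeal
      ((ep_phi η (⟨I, hIp⟩ : PrimeSpectrum A)).codRestrict V hV') hm)), h1, map_eq_zero,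
      Ideal.algebraMap_residueField_eq_zero]
    rfl
  have e2 : (⟨(x : η.N A) (⟨I, hIp⟩ : PrimeSpectrum A), hxV⟩ : ↥V) =
      (⟨f (algebraMap _ _ x), hV _⟩ : ↥V) := Subtype.ext (hf x).symm
  rw [h2, e2, ep_mem_maximalIdeal_iff V f hV hloc,
    IsLocalization.AtPrime.isUnit_to_map_iff (Localization.AtPrime Q.asIdeal) Q.asIdeal,
    Ideal.mem_primeCompl_iff, not_not]

end EtaPtBasics

end Groth.Agent.Lib.helper7
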