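import Mathlib
import Groth.Prelude.Def_W4c1chowmix47Eta
import Groth.Agent.Lib.helper7.EtaPt

set_option autoImplicit false

namespace Groth.Agent.Lib.helper7

open EtaPt

universe u

section EtaPtMore

variable (η : EtaPt.FieldEndo.{u})

theorem ep_hom_ext' {K K' L : Type u} [Field K] [Field K'] [Field L] (ι : K →+* K')
    (φ : K' →+* η.obj K) (hφ : φ.comp ι = η.eta K) (u v : K' →+* L)
    (h : u.comp ι = v.comp ι) : u = v := by
  ext y
  obtain ⟨n, c, hc⟩ := η.exists_pow_mem_range_eta K (φ y)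
  have h1 : ι c = y ^ ringExpChar K ^ n := by
    apply φ.injective
    rw [map_pow, ← hc]
    exact RingHom.congr_fun hφ c
  haveI : ExpChar L (ringExpChar K) :=
    expChar_of_injective_ringHom (u.comp ι).injective (ringExpChar K)
  apply iterateFrobenius_inj L (ringExpChar K) n
  rw [iterateFrobenius_def, iterateFrobenius_def, ← map_pow, ← map_pow, ← h1]
  exact RingHom.congr_fun h c

theorem ep_hom_ext_of_surjective {K K' L : Type u} [Field K] [Field K'] [Field L] (ι : K →+* K')
    (hι : Function.Surjective (η.map ι)) (u v : K' →+* L)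
    (h : u.comp ι = v.comp ι) : u = v := by
  ext y
  obtain ⟨z, hz⟩ := hι (η.eta K' y)
  obtain ⟨n, c, hc⟩ := η.exists_pow_mem_range_eta K z
  have h1 : ι c = y ^ ringExpChar K ^ n := by
    apply (η.eta K').injective
    rw [map_pow, ← hz, ← map_pow, ← hc]
    exact (RingHom.congr_fun (η.eta_natural ι) c).symm
  haveI : ExpChar L (ringExpChar K) :=
    expChar_of_injective_ringHom (u.comp ι).injective (ringExpChar K)
  apply iterateFrobenius_inj L (ringExpChar K) n
  rw [iterateFrobenius_def, iterateFrobenius_def, ← map_pow, ← map_pow, ← h1]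
  exact RingHom.congr_fun h c

/-- The canonical map `κ(Q) → F(κ(p))` for `Q` a prime of `M A` over `p`. -/
noncomputable def ep_resLift {A : Type u} [CommRing A] (hA : (minimalPrimes A).Finite)
    (Q : PrimeSpectrum (η.M A)) (p : PrimeSpectrum A)
    (hp : p.asIdeal = Q.asIdeal.comap (η.q A)) :
    Q.asIdeal.ResidueField →+* η.obj p.asIdeal.ResidueField :=
  Ideal.ResidueField.lift Q.asIdeal (ep_evM η p)
    (fun x hx => RingHom.mem_ker.mpr ((ep_mem_iff η hA Q p hp x).mp hx))
    (by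
      intro x hx
      show IsUnit (ep_evM η p x)
      apply IsUnit.mk0
      intro h
      exact hx ((ep_mem_iff η hA Q p hp x).mpr h))

theorem ep_resLift_algebraMap {A : Type u} [CommRing A] (hA : (minimalPrimes A).Finite)
    (Q : PrimeSpectrum (η.M A)) (p : PrimeSpectrum A)
    (hp : p.asIdeal = Q.asIdeal.comap (η.q A)) (x : η.M A) :
    ep_resLift η hA Q p hp (algebraMap (η.M A) Q.asIdeal.ResidueField x) = (x : η.N A) p := by
  unfold ep_resLift
  rw [Ideal.ResidueField.lift_algebraMap]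
  rfl

theorem ep_resLift_comp {A : Type u} [CommRing A] (hA : (minimalPrimes A).Finite)
    (Q : PrimeSpectrum (η.M A)) (p : PrimeSpectrum A)
    (hp : p.asIdeal = Q.asIdeal.comap (η.q A)) :
    (ep_resLift η hA Q p hp).comp (Ideal.ResidueField.map p.asIdeal Q.asIdeal (η.q A) hp) =
      η.eta p.asIdeal.ResidueField := by
  apply Ideal.ResidueField.ringHom_ext
  ext a
  show ep_resLift η hA Q p hp (Ideal.ResidueField.map p.asIdeal Q.asIdeal (η.q A) hp
    (algebraMap A p.asIdeal.ResidueField a)) = η.eta _ (algebraMap A p.asIdeal.ResidueField a)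
  rw [Ideal.ResidueField.map_algebraMap, ep_resLift_algebraMap]
  rfl

theorem ep_map_comp_resLift {A : Type u} [CommRing A] (hA : (minimalPrimes A).Finite)
    (Q : PrimeSpectrum (η.M A)) (p : PrimeSpectrum A)
    (hp : p.asIdeal = Q.asIdeal.comap (η.q A)) :
    (η.map (Ideal.ResidueField.map p.asIdeal Q.asIdeal (η.q A) hp)).comp
      (ep_resLift η hA Q p hp) = η.eta Q.asIdeal.ResidueField := by
  apply ep_hom_ext' η (Ideal.ResidueField.map p.asIdeal Q.asIdeal (η.q A) hp)
    (ep_resLift η hA Q p hp) (ep_resLift_comp η hA Q p hp)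
  rw [RingHom.comp_assoc, ep_resLift_comp, η.eta_natural]

theorem ep_Nmap_q_eq_t {A : Type u} [CommRing A] (hA : (minimalPrimes A).Finite) (x : η.M A) :
    η.Nmap (η.q A) (x : η.N A) = η.t (η.M A) x := by
  funext Q
  have hp : (PrimeSpectrum.comap (η.q A) Q).asIdeal = Q.asIdeal.comap (η.q A) := rfl
  rw [ep_Nmap_apply_of_eq η (η.q A) (x : η.N A) Q (PrimeSpectrum.comap (η.q A) Q) hp, ep_t_apply,
    ← ep_map_comp_resLift η hA Q (PrimeSpectrum.comap (η.q A) Q) hp, RingHom.comp_apply,
    ep_resLift_algebraMap]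

theorem ep_t_injective_of_isReduced (B : Type u) [CommRing B] [IsReduced B] :
    Function.Injective (η.t B) := by
  rw [injective_iff_map_eq_zero]
  intro b hb
  have hnil : IsNilpotent b := by
    rw [nilpotent_iff_mem_prime]
    intro J hJ
    have h1 : ep_phi η (⟨J, hJ⟩ : PrimeSpectrum B) b = 0 := congrFun hb ⟨J, hJ⟩
    exact (ep_phi_eq_zero_iff η ⟨J, hJ⟩ b).mp h1
  exact hnil.eq_zero

theorem ep_exists_factor {B R K : Type*} [CommRing B] [CommRing R] [CommRing K] (j : R →+* K)
    (hj : Function.Injective j) (G : B →+* K) (h : ∀ b, ∃ r, j r = G b) :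
    ∃ g' : B →+* R, ∀ b, j (g' b) = G b := by
  choose ρ hρ using h
  refine ⟨{ toFun := ρ
            map_one' := hj ?_
            map_mul' := fun x y => hj ?_
            map_zero' := hj ?_
            map_add' := fun x y => hj ?_ }, fun b => hρ b⟩
  · rw [hρ, map_one, map_one]
  · rw [hρ, map_mul, map_mul, hρ, hρ]
  · rw [hρ, map_zero, map_zero]
  · rw [hρ, map_add, map_add, hρ, hρ]

theorem ep_exists_rho {A R : Type u} [CommRing A] [CommRing R] [IsDomain R] [ValuationRing R]
    (hR : η.InV R) (g : A →+* R) :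
    ∃ ρ : η.M A →+* R, (∀ b : η.M A, η.t R (ρ b) = η.Nmap g (b : η.N A)) ∧
      ρ.comp (η.q A) = g := by
  obtain ⟨ρ, hρ⟩ := ep_exists_factor (η.t R) (ep_t_injective_of_isReduced η R)
    ((η.Nmap g).comp (η.M A).subtype) (fun b => RingHom.mem_range.mp (b.2 R hR g))
  refine ⟨ρ, hρ, ?_⟩
  ext a
  apply ep_t_injective_of_isReduced η R
  rw [RingHom.comp_apply, hρ]
  exact η.Nmap_t_apply g a

theorem ep_comap_surjective_of_Nmap_injective {A B : Type u} [CommRing A] [CommRing B]
    (f : A →+* B) (h : Function.Injective (η.Nmap f)) :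
    Function.Surjective (PrimeSpectrum.comap f) := by
  classical
  intro p
  by_contra hp
  have hp' : ∀ Q : PrimeSpectrum B, PrimeSpectrum.comap f Q ≠ p := fun Q hQ => hp ⟨Q, hQ⟩
  have h0 : η.Nmap f (Pi.single p 1 : η.N A) = η.Nmap f 0 := by
    rw [map_zero]
    funext Q
    rw [ep_Nmap_apply_of_eq η f _ Q (PrimeSpectrum.comap f Q) rfl, Pi.single_eq_of_ne (hp' Q),
      map_zero]
    rfl
  have h1 := congrFun (h h0) p
  rw [Pi.single_eq_same] at h1
  exact one_ne_zero h1

theorem ep_map_surjective_of_Nmap_surjective {A B : Type u} [CommRing A] [CommRing B]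
    (f : A →+* B) (h : Function.Surjective (η.Nmap f)) (Q : PrimeSpectrum B)
    (p : PrimeSpectrum A) (hp : p.asIdeal = Q.asIdeal.comap f) :
    Function.Surjective (η.map (Ideal.ResidueField.map p.asIdeal Q.asIdeal f hp)) := by
  classical
  intro y
  obtain ⟨X, hX⟩ := h (Pi.single Q y : η.N B)
  refine ⟨X p, ?_⟩
  have h1 := congrFun hX Q
  rw [ep_Nmap_apply_of_eq η f X Q p hp, Pi.single_eq_same] at h1
  exact h1

theorem ep_comap_injective_of_Nmap_surjective {A B : Type u} [CommRing A] [CommRing B]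
    (f : A →+* B) (h : Function.Surjective (η.Nmap f)) :
    Function.Injective (PrimeSpectrum.comap f) := by
  classical
  intro Q Q' hQQ
  by_contra hne
  obtain ⟨X, hX⟩ := h (Pi.single Q 1 : η.N B)
  have h1 := congrFun hX Q
  have h2 := congrFun hX Q'
  rw [ep_Nmap_apply_of_eq η f X Q (PrimeSpectrum.comap f Q) rfl, Pi.single_eq_same] at h1
  rw [ep_Nmap_apply_of_eq η f X Q' (PrimeSpectrum.comap f Q)
    (congrArg PrimeSpectrum.asIdeal hQQ), Pi.single_eq_of_ne (Ne.symm hne)] at h2
  have h3 : X (PrimeSpectrum.comap f Q) = 0 := (map_eq_zero _).mp h2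
  rw [h3, map_zero] at h1
  exact zero_ne_one h1

theorem ep_lift_aux {A B R : Type u} [CommRing A] [CommRing B] [CommRing R] [IsDomain R]
    [IsIntegrallyClosed R] {K₁ K₂ L : Type u} [Field K₁] [Field K₂] [Field L] [Algebra R L]
    [IsFractionRing R L] (f : A →+* B) (hf : f.IsIntegral) (g : A →+* R)
    (a₁ : A →+* K₁) (b₂ : B →+* K₂) (ι : K₁ →+* K₂) (τ : K₁ →+* L)
    (h1 : ι.comp a₁ = b₂.comp f) (h2 : τ.comp a₁ = (algebraMap R L).comp g)
    (hι : Function.Bijective (η.map ι)) (hL : Function.Bijective (η.eta L)) :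
    ∃ g' : B →+* R, g'.comp f = g := by
  obtain ⟨σ, hσ⟩ : ∃ σ : K₂ →+* L, ∀ z : K₂, ∀ w : η.obj K₁,
      η.map ι w = η.eta K₂ z → η.eta L (σ z) = η.map τ w := by
    refine ⟨((RingEquiv.ofBijective (η.eta L) hL).symm : η.obj L →+* L).comp
      ((η.map τ).comp (((RingEquiv.ofBijective (η.map ι) hι).symm :
        η.obj K₂ →+* η.obj K₁).comp (η.eta K₂))), ?_⟩
    intro z w hw
    have e1 : (RingEquiv.ofBijective (η.map ι) hι).symm (η.eta K₂ z) = w := by
      rw [← hw]
      exact (RingEquiv.ofBijective (η.map ι) hι).symm_apply_apply w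
    show η.eta L ((RingEquiv.ofBijective (η.eta L) hL).symm (η.map τ
        ((RingEquiv.ofBijective (η.map ι) hι).symm (η.eta K₂ z)))) = η.map τ w
    rw [e1]
    exact (RingEquiv.ofBijective (η.eta L) hL).apply_symm_apply _
  have hGf : ∀ a : A, σ (b₂ (f a)) = algebraMap R L (g a) := by
    intro a
    apply hL.1
    have e3 : b₂ (f a) = ι (a₁ a) := (RingHom.congr_fun h1 a).symm
    have e4 : η.map ι (η.eta K₁ (a₁ a)) = η.eta K₂ (b₂ (f a)) := by
      rw [e3]
      exact RingHom.congr_fun (η.eta_natural ι) (a₁ a)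
    rw [hσ (b₂ (f a)) (η.eta K₁ (a₁ a)) e4]
    have e5 : η.map τ (η.eta K₁ (a₁ a)) = η.eta L (τ (a₁ a)) :=
      RingHom.congr_fun (η.eta_natural τ) (a₁ a)
    rw [e5]
    exact congrArg (η.eta L) (RingHom.congr_fun h2 a)
  have hcomp : (algebraMap R L).comp g = (σ.comp b₂).comp f :=
    RingHom.ext (fun a => (hGf a).symm)
  have hint : ∀ b : B, ∃ r : R, algebraMap R L r = (σ.comp b₂) b := by
    intro b
    apply IsIntegrallyClosed.isIntegral_iff.mp
    obtain ⟨P, hPm, hP⟩ := hf b
    refine ⟨P.map g, hPm.map g, ?_⟩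
    rw [Polynomial.eval₂_map, hcomp, ← Polynomial.hom_eval₂, hP, map_zero]
  obtain ⟨g', hg'⟩ := ep_exists_factor (algebraMap R L) (IsFractionRing.injective R L)
    (σ.comp b₂) hint
  refine ⟨g', ?_⟩
  ext a
  apply IsFractionRing.injective R L
  rw [RingHom.comp_apply, hg' (f a)]
  exact hGf a

theorem ep_lift_valuation {A B : Type u} [CommRing A] [CommRing B] (f : A →+* B)
    (hf : f.IsIntegral) (hN : Function.Bijective (η.Nmap f))
    (R : Type u) [CommRing R] [IsDomain R] [ValuationRing R] (hR : η.InV R) (g : A →+* R) :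
    ∃ g' : B →+* R, g'.comp f = g := by
  obtain ⟨Q₀, hQ₀⟩ := ep_comap_surjective_of_Nmap_injective η f hN.1
    (⟨RingHom.ker g, RingHom.ker_isPrime g⟩ : PrimeSpectrum A)
  haveI : (RingHom.ker g).IsPrime := RingHom.ker_isPrime g
  have hP : RingHom.ker g = Q₀.asIdeal.comap f := (congrArg PrimeSpectrum.asIdeal hQ₀).symm
  have hg0 : RingHom.ker g = (ep_bot R).asIdeal.comap g := rfl
  exact ep_lift_aux η f hf g (algebraMap A (RingHom.ker g).ResidueField)
    (algebraMap B Q₀.asIdeal.ResidueField)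
    (Ideal.ResidueField.map (RingHom.ker g) Q₀.asIdeal f hP)
    (Ideal.ResidueField.map (RingHom.ker g) (ep_bot R).asIdeal g hg0)
    (RingHom.ext fun a => Ideal.ResidueField.map_algebraMap _ _ f hP a)
    (RingHom.ext fun a => Ideal.ResidueField.map_algebraMap _ _ g hg0 a)
    ⟨RingHom.injective _, ep_map_surjective_of_Nmap_surjective η f hN.2 Q₀
      (⟨RingHom.ker g, RingHom.ker_isPrime g⟩ : PrimeSpectrum A) hP⟩
    (ep_bijective_eta_of_InV η R _ hR)

theorem ep_mem_M_of_Nmap_mem {A B : Type u} [CommRing A] [CommRing B] (g : A →+* B)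
    (hg : g.IsIntegral) (hN : Function.Bijective (η.Nmap g)) {x : η.N A}
    (h : η.Nmap g x ∈ η.M B) : x ∈ η.M A := by
  intro R _ _ _ hR k
  obtain ⟨k', hk'⟩ := ep_lift_valuation η g hg hN R hR k
  have h2 : η.Nmap (k'.comp g) x = η.Nmap k' (η.Nmap g x) := by
    rw [ep_Nmap_comp]
    rfl
  rw [hk'] at h2
  rw [h2]
  exact h R hR k'

theorem ep_exists_theta {A B : Type u} [CommRing A] [CommRing B] (g : A →+* B)
    (hg : g.IsIntegral) (hN : Function.Bijective (η.Nmap g)) :
    ∃ θ : B →+* η.M A, ∀ b, η.Nmap g ((θ b : η.M A) : η.N A) = η.t B b := by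
  have hsurj : ∀ b : B, ∃ x : η.M A, ((η.Nmap g).comp (η.M A).subtype) x = η.t B b := by
    intro b
    obtain ⟨x, hx⟩ := hN.2 (η.t B b)
    have hxM : x ∈ η.M A := by
      apply ep_mem_M_of_Nmap_mem η g hg hN
      rw [hx]
      exact η.t_mem_M B b
    exact ⟨⟨x, hxM⟩, hx⟩
  exact ep_exists_factor ((η.Nmap g).comp (η.M A).subtype)
    (fun x y h => Subtype.ext (hN.1 h)) (η.t B) hsurj

theorem ep_ringHom_ext_of_comap_injective {A B : Type u} [CommRing A] [CommRing B] (g : A →+* B)
    (hinj : Function.Injective (PrimeSpectrum.comap g)) (p : PrimeSpectrum A)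
    (u v : B →+* η.obj p.asIdeal.ResidueField) (hu : u.comp g = ep_phi η p)
    (hv : v.comp g = ep_phi η p) : u = v := by
  haveI hku : (RingHom.ker u).IsPrime := RingHom.ker_isPrime u
  haveI hkv : (RingHom.ker v).IsPrime := RingHom.ker_isPrime v
  have hpu : p.asIdeal = (RingHom.ker u).comap g := by
    ext a
    have e : u (g a) = ep_phi η p a := RingHom.congr_fun hu a
    rw [Ideal.mem_comap, RingHom.mem_ker, e, ep_phi_eq_zero_iff]
  have hpv : p.asIdeal = (RingHom.ker v).comap g := by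
    ext a
    have e : v (g a) = ep_phi η p a := RingHom.congr_fun hv a
    rw [Ideal.mem_comap, RingHom.mem_ker, e, ep_phi_eq_zero_iff]
  have hker : RingHom.ker u = RingHom.ker v := by
    have h1 : (⟨RingHom.ker u, hku⟩ : PrimeSpectrum B) = ⟨RingHom.ker v, hkv⟩ := by
      apply hinj
      apply PrimeSpectrum.ext
      show (RingHom.ker u).comap g = (RingHom.ker v).comap g
      rw [← hpu, ← hpv]
    exact congrArg PrimeSpectrum.asIdeal h1
  have hunit_u : (RingHom.ker u).primeCompl ≤ (IsUnit.submonoid _).comap u := by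
    intro x hx
    show IsUnit (u x)
    exact IsUnit.mk0 _ (fun h => hx (RingHom.mem_ker.mpr h))
  have hunit_v : (RingHom.ker u).primeCompl ≤ (IsUnit.submonoid _).comap v := by
    intro x hx
    show IsUnit (v x)
    refine IsUnit.mk0 _ (fun h => hx ?_)
    rw [hker]
    exact RingHom.mem_ker.mpr h
  obtain ⟨ubar, hubar⟩ : ∃ ub : (RingHom.ker u).ResidueField →+* η.obj p.asIdeal.ResidueField,
      ∀ b, ub (algebraMap B _ b) = u b :=
    ⟨Ideal.ResidueField.lift (RingHom.ker u) u le_rfl hunit_u,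
      fun b => Ideal.ResidueField.lift_algebraMap _ _ _ _ b⟩
  obtain ⟨vbar, hvbar⟩ : ∃ vb : (RingHom.ker u).ResidueField →+* η.obj p.asIdeal.ResidueField,
      ∀ b, vb (algebraMap B _ b) = v b :=
    ⟨Ideal.ResidueField.lift (RingHom.ker u) v (le_of_eq hker) hunit_v,
      fun b => Ideal.ResidueField.lift_algebraMap _ _ _ _ b⟩
  have hub : ubar.comp (Ideal.ResidueField.map p.asIdeal (RingHom.ker u) g hpu) =
      η.eta p.asIdeal.ResidueField := by
    apply Ideal.ResidueField.ringHom_ext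
    ext a
    show ubar (Ideal.ResidueField.map p.asIdeal (RingHom.ker u) g hpu
      (algebraMap A p.asIdeal.ResidueField a)) = η.eta _ (algebraMap A p.asIdeal.ResidueField a)
    rw [Ideal.ResidueField.map_algebraMap, hubar]
    exact RingHom.congr_fun hu a
  have hvb : vbar.comp (Ideal.ResidueField.map p.asIdeal (RingHom.ker u) g hpu) =
      η.eta p.asIdeal.ResidueField := by
    apply Ideal.ResidueField.ringHom_ext
    ext a
    show vbar (Ideal.ResidueField.map p.asIdeal (RingHom.ker u) g hpu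
      (algebraMap A p.asIdeal.ResidueField a)) = η.eta _ (algebraMap A p.asIdeal.ResidueField a)
    rw [Ideal.ResidueField.map_algebraMap, hvbar]
    exact RingHom.congr_fun hv a
  have hbar : ubar = vbar := ep_hom_ext' η _ ubar hub ubar vbar (hub.trans hvb.symm)
  ext b
  rw [← hubar b, ← hvbar b, hbar]

theorem ep_field_check {K₀ Kq : Type u} [Field K₀] [Field Kq] (ιq : K₀ →+* Kq) (x₀ : η.obj K₀)
    (c : K₀) (n : ℕ) (hc : η.eta K₀ c = x₀ ^ ringExpChar K₀ ^ n) (s : Kq)
    (hs : s ^ ringExpChar K₀ ^ n = ιq c) : η.eta Kq s = η.map ιq x₀ := by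
  haveI : ExpChar (η.obj Kq) (ringExpChar K₀) :=
    expChar_of_injective_ringHom ((η.map ιq).comp (η.eta K₀)).injective (ringExpChar K₀)
  apply iterateFrobenius_inj (η.obj Kq) (ringExpChar K₀) n
  rw [iterateFrobenius_def, iterateFrobenius_def, ← map_pow, ← map_pow, hs, ← hc]
  exact (RingHom.congr_fun (η.eta_natural ιq) c).symm

theorem ep_field_root {R L K₀ : Type u} [CommRing R] [IsDomain R] [IsIntegrallyClosed R] [Field L]
    [Algebra R L] [IsFractionRing R L] [Field K₀] (hL : Function.Surjective (η.eta L))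
    (ι₀ : K₀ →+* L) (x₀ : η.obj K₀) (c : K₀) (n : ℕ)
    (hc : η.eta K₀ c = x₀ ^ ringExpChar K₀ ^ n) (r₀ : R) (hr₀ : ι₀ c = algebraMap R L r₀) :
    ∃ r : R, r ^ ringExpChar K₀ ^ n = r₀ := by
  obtain ⟨ℓ, hℓ⟩ := hL (η.map ι₀ x₀)
  have hℓpow : ℓ ^ ringExpChar K₀ ^ n = algebraMap R L r₀ := by
    apply (η.eta L).injective
    rw [map_pow, hℓ, ← map_pow, ← hc, ← hr₀]
    exact RingHom.congr_fun (η.eta_natural ι₀) c
  have hpos : 0 < ringExpChar K₀ ^ n := pow_pos (expChar_pos K₀ (ringExpChar K₀)) n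
  have hint : IsIntegral R ℓ := by
    apply IsIntegral.of_pow hpos
    rw [hℓpow]
    exact isIntegral_algebraMap
  obtain ⟨r, hr⟩ := IsIntegrallyClosed.isIntegral_iff.mp hint
  refine ⟨r, IsFractionRing.injective R L ?_⟩
  rw [map_pow, hr, hℓpow]

end EtaPtMore

end Groth.Agent.Lib.helper7
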