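import Mathlib
import Groth.Prelude.Def_W4c1chowmix47Eta
import Groth.Agent.Lib.helper7.EtaPt
import Groth.Agent.Lib.helper7.EtaPt2

set_option autoImplicit false

namespace Groth.Agent.Lib.helper7

open EtaPt

universe u

section EtaPtDescent

variable (η : EtaPt.FieldEndo.{u})

theorem ep_bijective_eta_of_isAlgClosed (Ω : Type u) [Field Ω] [IsAlgClosed Ω] :
    Function.Bijective (η.eta Ω) := by
  refine ⟨(η.eta Ω).injective, fun y => ?_⟩
  obtain ⟨n, c, hc⟩ := η.exists_pow_mem_range_eta Ω y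
  have hpos : 0 < ringExpChar Ω ^ n := pow_pos (expChar_pos Ω _) n
  obtain ⟨d, hd⟩ := IsAlgClosed.exists_pow_nat_eq c hpos
  refine ⟨d, ?_⟩
  haveI : ExpChar (η.obj Ω) (ringExpChar Ω) :=
    expChar_of_injective_ringHom (η.eta Ω).injective _
  apply iterateFrobenius_inj (η.obj Ω) (ringExpChar Ω) n
  rw [iterateFrobenius_def, iterateFrobenius_def, ← map_pow, hd, hc]

theorem ep_field_lift {k L Ω : Type u} [Field k] [Field L] [Field Ω] [IsAlgClosed Ω]
    (i : k →+* L) (τ : k →+* Ω) (halg : ∀ z : L, i.IsIntegralElem z) :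
    ∃ σ : L →+* Ω, σ.comp i = τ := by
  letI alg1 : Algebra k L := i.toAlgebra
  letI alg2 : Algebra k Ω := τ.toAlgebra
  haveI : Algebra.IsAlgebraic k L := ⟨fun z => IsIntegral.isAlgebraic (halg z)⟩
  let σ₀ : L →ₐ[k] Ω := IsAlgClosed.lift
  refine ⟨σ₀.toRingHom, ?_⟩
  ext z
  exact σ₀.commutes z

theorem ep_residue_isIntegralElem {A B : Type u} [CommRing A] [CommRing B] (f : A →+* B)
    (hf : f.IsIntegral) (P : Ideal A) [P.IsPrime] (Q : Ideal B) [Q.IsPrime] (h : P = Q.comap f)
    (z : Q.ResidueField) : (Ideal.ResidueField.map P Q f h).IsIntegralElem z := by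
  letI alg1 : Algebra P.ResidueField Q.ResidueField := (Ideal.ResidueField.map P Q f h).toAlgebra
  have hB : ∀ b : B, IsIntegral P.ResidueField (algebraMap B Q.ResidueField b) := by
    intro b
    obtain ⟨p, hpm, hp⟩ := hf b
    refine ⟨p.map (algebraMap A P.ResidueField), hpm.map _, ?_⟩
    rw [Polynomial.eval₂_map]
    have hcomp : (algebraMap P.ResidueField Q.ResidueField).comp (algebraMap A P.ResidueField) =
        (algebraMap B Q.ResidueField).comp f :=
      RingHom.ext (fun a => Ideal.ResidueField.map_algebraMap P Q f h a)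
    rw [hcomp, ← Polynomial.hom_eval₂, hp, map_zero]
  obtain ⟨x, y, -, hxy⟩ := IsFractionRing.div_surjective (A := B ⧸ Q) z
  obtain ⟨b, rfl⟩ := Ideal.Quotient.mk_surjective x
  obtain ⟨s, rfl⟩ := Ideal.Quotient.mk_surjective y
  rw [Ideal.algebraMap_quotient_residueField_mk, Ideal.algebraMap_quotient_residueField_mk,
    div_eq_mul_inv] at hxy
  have hz : IsIntegral P.ResidueField z := by
    rw [← hxy]
    exact IsIntegral.mul (hB b) (IsIntegral.inv (hB s))
  exact hz

theorem ep_exists_valuation_over {R Ω : Type u} [CommRing R] [IsDomain R] [Field Ω]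
    (j' : R →+* Ω) (hj' : Function.Injective j') (q : PrimeSpectrum R) :
    ∃ (V : ValuationSubring Ω) (hV : ∀ r, j' r ∈ V),
      q.asIdeal = (IsLocalRing.closedPoint ↥V).asIdeal.comap (j'.codRestrict V hV) := by
  have hunit : ∀ y : q.asIdeal.primeCompl, IsUnit (j' (y : R)) := by
    intro y
    apply IsUnit.mk0
    intro h
    have h0 : (y : R) = 0 := hj' (by rw [h, map_zero])
    apply y.2
    rw [h0]
    exact q.asIdeal.zero_mem
  let f' : Localization.AtPrime q.asIdeal →+* Ω :=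
    IsLocalization.lift (M := q.asIdeal.primeCompl) hunit
  have hf' : ∀ r : R, f' (algebraMap R _ r) = j' r := fun r => IsLocalization.lift_eq hunit r
  obtain ⟨V, hV, hloc⟩ := IsLocalRing.exists_factor_valuationRing f'
  have hV' : ∀ r : R, j' r ∈ V := fun r => by rw [← hf' r]; exact hV _
  refine ⟨V, hV', ?_⟩
  ext a
  rw [Ideal.mem_comap]
  show a ∈ q.asIdeal ↔ j'.codRestrict V hV' a ∈ IsLocalRing.maximalIdeal ↥V
  have e : j'.codRestrict V hV' a = (⟨f' (algebraMap R _ a), hV _⟩ : ↥V) :=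
    Subtype.ext (hf' a).symm
  rw [e, ep_mem_maximalIdeal_iff V f' hV hloc,
    IsLocalization.AtPrime.isUnit_to_map_iff (Localization.AtPrime q.asIdeal) q.asIdeal a,
    Ideal.mem_primeCompl_iff, not_not]

theorem ep_generic_eval {A : Type u} [CommRing A] (p : PrimeSpectrum A) {Ω : Type u} [Field Ω]
    (ψ : p.asIdeal.ResidueField →+* Ω) (V : ValuationSubring Ω) (g : A →+* ↥V)
    (hg : ∀ a : A, ((g a : ↥V) : Ω) = ψ (algebraMap A p.asIdeal.ResidueField a))
    (x : η.N A) (v : ↥V) (hx : η.Nmap g x = η.t ↥V v) :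
    η.eta Ω (v : Ω) = η.map ψ (x p) := by
  have hker : p.asIdeal = (ep_bot ↥V).asIdeal.comap g := by
    ext a
    rw [Ideal.mem_comap]
    show a ∈ p.asIdeal ↔ g a ∈ (⊥ : Ideal ↥V)
    have h1 : a ∈ p.asIdeal ↔ ((g a : ↥V) : Ω) = 0 := by
      rw [hg a, map_eq_zero, Ideal.algebraMap_residueField_eq_zero]
    rw [Ideal.mem_bot, h1]
    constructor
    · intro h
      exact Subtype.ext h
    · intro h
      exact congrArg Subtype.val h
  have h1 := congrFun hx (ep_bot ↥V)
  rw [ep_Nmap_apply_of_eq η g x (ep_bot ↥V) p hker, ep_t_apply] at h1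
  let ι : Ω ≃ₐ[↥V] (ep_bot ↥V).asIdeal.ResidueField :=
    IsLocalization.algEquiv (nonZeroDivisors ↥V) _ _
  let ι' : Ω →+* (ep_bot ↥V).asIdeal.ResidueField := ι.toRingEquiv.toRingHom
  have ha : Ideal.ResidueField.map p.asIdeal (ep_bot ↥V).asIdeal g hker = ι'.comp ψ := by
    apply Ideal.ResidueField.ringHom_ext
    ext a
    rw [RingHom.comp_apply, Ideal.ResidueField.map_algebraMap, RingHom.comp_apply,
      RingHom.comp_apply]
    have h2 : ψ (algebraMap A p.asIdeal.ResidueField a) = algebraMap ↥V Ω (g a) := (hg a).symm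
    rw [h2]
    exact (ι.commutes (g a)).symm
  apply (η.map ι').injective
  calc η.map ι' (η.eta Ω (v : Ω)) = η.eta _ (ι' (v : Ω)) :=
        RingHom.congr_fun (η.eta_natural ι') _
    _ = η.eta _ (algebraMap ↥V (ep_bot ↥V).asIdeal.ResidueField v) := congrArg _ (ι.commutes v)
    _ = η.map (Ideal.ResidueField.map p.asIdeal (ep_bot ↥V).asIdeal g hker) (x p) := h1.symm
    _ = η.map ι' (η.map ψ (x p)) := by
        rw [ha, η.map_comp]
        rfl

theorem ep_core_16 {A B : Type u} [CommRing A] [CommRing B] (f : A →+* B) (hf : f.IsIntegral)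
    (x : η.N A) (hy : η.Nmap f x ∈ η.M B)
    (R : Type u) [CommRing R] [IsDomain R] [ValuationRing R] (hR : η.InV R) (g : A →+* R)
    (Ω : Type u) [Field Ω] [IsAlgClosed Ω] (J : R →+* Ω) (hJ : Function.Injective J)
    (G : B →+* Ω) (hG : G.comp f = J.comp g) :
    η.Nmap g x ∈ (η.t R).range := by
  have hΩ : Function.Bijective (η.eta Ω) := ep_bijective_eta_of_isAlgClosed η Ω
  have star : ∀ q : PrimeSpectrum R, ∃ (V : ValuationSubring Ω) (hV : ∀ r, J r ∈ V) (v : ↥V),
      q.asIdeal = (IsLocalRing.closedPoint ↥V).asIdeal.comap (J.codRestrict V hV) ∧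
        η.Nmap (J.codRestrict V hV) (η.Nmap g x) = η.t ↥V v := by
    intro q
    obtain ⟨V, hV, hq⟩ := ep_exists_valuation_over J hJ q
    have hGV : ∀ b : B, G b ∈ V := by
      intro b
      obtain ⟨P, hPm, hP⟩ := hf b
      have hint : IsIntegral ↥V (G b) := by
        refine ⟨P.map ((J.codRestrict V hV).comp g), hPm.map _, ?_⟩
        rw [Polynomial.eval₂_map]
        have hc : (algebraMap ↥V Ω).comp ((J.codRestrict V hV).comp g) = G.comp f := by
          rw [hG]
          exact RingHom.ext (fun a => rfl)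
        rw [hc, ← Polynomial.hom_eval₂, hP, map_zero]
      obtain ⟨w, hw⟩ := IsIntegrallyClosed.isIntegral_iff.mp hint
      rw [← hw]
      exact w.2
    have hcomp : (G.codRestrict V hGV).comp f = (J.codRestrict V hV).comp g :=
      RingHom.ext (fun a => Subtype.ext (RingHom.congr_fun hG a))
    have hInV : η.InV ↥V := ep_InV_of_isFractionRing η ↥V Ω hΩ
    obtain ⟨v, hv⟩ := hy ↥V hInV (G.codRestrict V hGV)
    refine ⟨V, hV, v, hq, ?_⟩
    have h2 : η.Nmap ((G.codRestrict V hGV).comp f) x =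
        η.Nmap (G.codRestrict V hGV) (η.Nmap f x) := by
      rw [ep_Nmap_comp]
      rfl
    have h3 : η.Nmap ((J.codRestrict V hV).comp g) x =
        η.Nmap (J.codRestrict V hV) (η.Nmap g x) := by
      rw [ep_Nmap_comp]
      rfl
    rw [← h3, ← hcomp, h2]
    exact hv.symm
  have hK : Function.Bijective (η.eta (ep_bot R).asIdeal.ResidueField) :=
    ep_bijective_eta_of_InV η R _ hR
  obtain ⟨ℓ, hℓ⟩ := hK.2 (η.Nmap g x (ep_bot R))
  obtain ⟨ψ, hψ⟩ : ∃ ψ : (ep_bot R).asIdeal.ResidueField →+* Ω,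
      ∀ r : R, ψ (algebraMap R (ep_bot R).asIdeal.ResidueField r) = J r :=
    ⟨IsFractionRing.lift hJ, fun r => IsFractionRing.lift_algebraMap hJ r⟩
  have star2 : ∀ (V : ValuationSubring Ω) (hV : ∀ r, J r ∈ V) (v : ↥V),
      η.Nmap (J.codRestrict V hV) (η.Nmap g x) = η.t ↥V v → (v : Ω) = ψ ℓ := by
    intro V hV v hv
    have h1 := ep_generic_eval η (ep_bot R) ψ V (J.codRestrict V hV) (fun r => (hψ r).symm)
      (η.Nmap g x) v hv
    rw [← hℓ] at h1
    have h2 : η.map ψ (η.eta _ ℓ) = η.eta Ω (ψ ℓ) := RingHom.congr_fun (η.eta_natural ψ) ℓ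
    rw [h2] at h1
    exact hΩ.1 h1
  have hℓR : ∃ r : R, algebraMap R (ep_bot R).asIdeal.ResidueField r = ℓ := by
    rcases ValuationRing.isInteger_or_isInteger R ℓ with ⟨r, hr⟩ | ⟨s, hs⟩
    · exact ⟨r, hr⟩
    · by_cases hℓ0 : ℓ = 0
      · exact ⟨0, by rw [map_zero, hℓ0]⟩
      · by_cases hu : IsUnit s
        · obtain ⟨u, rfl⟩ := hu
          refine ⟨((u⁻¹ : Rˣ) : R), ?_⟩
          rw [map_units_inv, hs, inv_inv]
        · exfalso
          obtain ⟨V, hV, v, hq, hv⟩ := star (IsLocalRing.closedPoint R)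
          have hvℓ := star2 V hV v hv
          have hsm : s ∈ (IsLocalRing.closedPoint R).asIdeal := by
            show s ∈ IsLocalRing.maximalIdeal R
            rw [IsLocalRing.mem_maximalIdeal, mem_nonunits_iff]
            exact hu
          rw [hq, Ideal.mem_comap] at hsm
          have hsm' : J.codRestrict V hV s ∈ IsLocalRing.maximalIdeal ↥V := hsm
          rw [IsLocalRing.mem_maximalIdeal, mem_nonunits_iff] at hsm'
          apply hsm'
          have hvs : v * J.codRestrict V hV s = 1 := by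
            apply Subtype.ext
            show (v : Ω) * J s = 1
            rw [hvℓ, ← hψ s, hs, ← map_mul, mul_inv_cancel₀ hℓ0, map_one]
          exact ⟨⟨J.codRestrict V hV s, v, (mul_comm _ _).trans hvs, hvs⟩, rfl⟩
  obtain ⟨r, hr⟩ := hℓR
  refine RingHom.mem_range.mpr ⟨r, funext fun q => ?_⟩
  obtain ⟨V, hV, v, hq, hv⟩ := star q
  have hvℓ := star2 V hV v hv
  have hvr : v = J.codRestrict V hV r := by
    apply Subtype.ext
    show (v : Ω) = J r
    rw [hvℓ, ← hr, hψ]
  rw [hvr, ← η.Nmap_t_apply (J.codRestrict V hV) r] at hv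
  have h1 := congrFun hv (IsLocalRing.closedPoint ↥V)
  rw [ep_Nmap_apply_of_eq η _ (η.Nmap g x) _ q hq,
    ep_Nmap_apply_of_eq η _ (η.t R r) _ q hq] at h1
  exact ((η.map _).injective h1).symm

theorem ep_mem_M_of_Nmap_mem_of_surjective {A B : Type u} [CommRing A] [CommRing B] (f : A →+* B)
    (hf : f.IsIntegral) (hs : Function.Surjective (PrimeSpectrum.comap f)) (x : η.N A)
    (hy : η.Nmap f x ∈ η.M B) : x ∈ η.M A := by
  intro R _ _ _ hR g
  obtain ⟨Q₀, hQ₀⟩ := hs ⟨RingHom.ker g, RingHom.ker_isPrime g⟩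
  haveI : (RingHom.ker g).IsPrime := RingHom.ker_isPrime g
  have hP : RingHom.ker g = Q₀.asIdeal.comap f := (congrArg PrimeSpectrum.asIdeal hQ₀).symm
  have hg0 : RingHom.ker g = (ep_bot R).asIdeal.comap g := rfl
  obtain ⟨σ, hσ⟩ := ep_field_lift (Ideal.ResidueField.map (RingHom.ker g) Q₀.asIdeal f hP)
    ((algebraMap (ep_bot R).asIdeal.ResidueField
      (AlgebraicClosure (ep_bot R).asIdeal.ResidueField)).comp
      (Ideal.ResidueField.map (RingHom.ker g) (ep_bot R).asIdeal g hg0))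
    (ep_residue_isIntegralElem f hf _ _ hP)
  refine ep_core_16 η f hf x hy R hR g (AlgebraicClosure (ep_bot R).asIdeal.ResidueField)
    ((algebraMap (ep_bot R).asIdeal.ResidueField
      (AlgebraicClosure (ep_bot R).asIdeal.ResidueField)).comp
      (algebraMap R (ep_bot R).asIdeal.ResidueField))
    ?_ (σ.comp (algebraMap B Q₀.asIdeal.ResidueField)) ?_
  · intro a b hab
    apply IsFractionRing.injective R (ep_bot R).asIdeal.ResidueField
    exact (algebraMap (ep_bot R).asIdeal.ResidueField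
      (AlgebraicClosure (ep_bot R).asIdeal.ResidueField)).injective hab
  · ext a
    show σ (algebraMap B Q₀.asIdeal.ResidueField (f a)) =
      algebraMap (ep_bot R).asIdeal.ResidueField (AlgebraicClosure (ep_bot R).asIdeal.ResidueField)
        (algebraMap R (ep_bot R).asIdeal.ResidueField (g a))
    rw [← Ideal.ResidueField.map_algebraMap (RingHom.ker g) Q₀.asIdeal f hP a]
    have h1 := RingHom.congr_fun hσ (algebraMap A (RingHom.ker g).ResidueField a)
    rw [RingHom.comp_apply] at h1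
    rw [h1, RingHom.comp_apply, Ideal.ResidueField.map_algebraMap]

theorem ep_prime_prod {A B : Type u} [CommRing A] [CommRing B] (P : PrimeSpectrum (A × B)) :
    (∃ p : PrimeSpectrum A, P = PrimeSpectrum.comap (RingHom.fst A B) p) ∨
      ∃ q : PrimeSpectrum B, P = PrimeSpectrum.comap (RingHom.snd A B) q := by
  rcases (Ideal.ideal_prod_prime P.asIdeal).mp P.isPrime with ⟨p, hp, hP⟩ | ⟨q, hq, hP⟩
  · left
    refine ⟨⟨p, hp⟩, PrimeSpectrum.ext ?_⟩
    rw [hP]
    ext ⟨a, b⟩
    constructor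
    · intro h
      exact ((Ideal.mem_prod _ _).mp h).1
    · intro h
      exact (Ideal.mem_prod _ _).mpr ⟨h, Submodule.mem_top⟩
  · right
    refine ⟨⟨q, hq⟩, PrimeSpectrum.ext ?_⟩
    rw [hP]
    ext ⟨a, b⟩
    constructor
    · intro h
      exact ((Ideal.mem_prod _ _).mp h).2
    · intro h
      exact (Ideal.mem_prod _ _).mpr ⟨Submodule.mem_top, h⟩

end EtaPtDescent

end Groth.Agent.Lib.helper7
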