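import Mathlib
import Groth.Prelude.Def_HTop2
import Groth.Agent.Lib.helper7.UH
import Groth.Agent.Lib.helper7.EtaPt5

set_option autoImplicit false
universe u
open CategoryTheory AlgebraicGeometry
open scoped TensorProduct

namespace Groth.Agent.Lib.helper7

/-- Universally injective for Spec of a ring map: field-valued points. -/
theorem uh_universallyInjective_iff {R S : Type u} [CommRing R] [CommRing S] (φ : R →+* S) :
    UniversallyInjective (Spec.map (CommRingCat.ofHom φ)) ↔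
      ∀ (K : Type u) [Field K] (σ₁ σ₂ : S →+* K), σ₁.comp φ = σ₂.comp φ → σ₁ = σ₂ := by
  have h := (tfae_universallyInjective (Spec.map (CommRingCat.ofHom φ))).out 0 1
  rw [h]
  constructor
  · intro H K _ σ₁ σ₂ hσ
    have h1 : Spec.map (CommRingCat.ofHom σ₁) ≫ Spec.map (CommRingCat.ofHom φ) =
        Spec.map (CommRingCat.ofHom σ₂) ≫ Spec.map (CommRingCat.ofHom φ) := by
      rw [← Spec.map_comp, ← Spec.map_comp, ← CommRingCat.ofHom_comp, ← CommRingCat.ofHom_comp, hσ]
    have h2 := H K h1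
    have h3 := Spec.map_injective h2
    exact congrArg CommRingCat.Hom.hom h3
  · intro H K _ g₁ g₂ hg
    obtain ⟨ψ₁, rfl⟩ := Spec.map_surjective g₁
    obtain ⟨ψ₂, rfl⟩ := Spec.map_surjective g₂
    have hg' : Spec.map ψ₁ ≫ Spec.map (CommRingCat.ofHom φ) =
        Spec.map ψ₂ ≫ Spec.map (CommRingCat.ofHom φ) := hg
    rw [← Spec.map_comp, ← Spec.map_comp] at hg'
    have h3 := Spec.map_injective hg'
    have h4 : ψ₁.hom.comp φ = ψ₂.hom.comp φ := congrArg CommRingCat.Hom.hom h3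
    have h5 := H K ψ₁.hom ψ₂.hom h4
    have h6 : ψ₁ = ψ₂ := CommRingCat.hom_ext h5
    rw [h6]

theorem uh_iff_ring {R S : Type u} [CommRing R] [CommRing S] (φ : R →+* S) :
    FlatMor.IsUnivHomeo (Spec.map (CommRingCat.ofHom φ)) ↔
      φ.IsIntegral ∧ Function.Surjective (PrimeSpectrum.comap φ) ∧
        ∀ (K : Type u) [Field K] (σ₁ σ₂ : S →+* K), σ₁.comp φ = σ₂.comp φ → σ₁ = σ₂ := by
  rw [uh_isUnivHomeo_iff, uh_universallyInjective_iff]
  constructor
  · rintro ⟨h1, h2, h3⟩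
    refine ⟨?_, h2.surj, h1⟩
    exact IsIntegralHom.SpecMap_iff.mp
      (IsIntegralHom.iff_universallyClosed_and_isAffineHom.mpr ⟨h3, inferInstance⟩)
  · rintro ⟨h1, h2, h3⟩
    refine ⟨h3, ⟨h2⟩, ?_⟩
    haveI : IsIntegralHom (Spec.map (CommRingCat.ofHom φ)) := IsIntegralHom.SpecMap_iff.mpr h1
    infer_instance

theorem uh_extend_hom {R S Ω : Type u} [CommRing R] [CommRing S] [Field Ω] [IsAlgClosed Ω]
    (f : R →+* S) (hf : f.IsIntegral) (hs : Function.Surjective (PrimeSpectrum.comap f))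
    (τ : R →+* Ω) : ∃ σ : S →+* Ω, σ.comp f = τ := by
  haveI hp : (RingHom.ker τ).IsPrime := RingHom.ker_isPrime τ
  obtain ⟨Q, hQ⟩ := hs ⟨RingHom.ker τ, hp⟩
  have hQ' : RingHom.ker τ = Q.asIdeal.comap f := congrArg PrimeSpectrum.asIdeal hQ.symm
  have hunits : (RingHom.ker τ).primeCompl ≤ (IsUnit.submonoid Ω).comap τ := by
    intro x hx
    have h1 : τ x ≠ 0 := fun h => hx ((RingHom.mem_ker).mpr h)
    exact (IsUnit.mem_submonoid_iff _).mpr (IsUnit.mk0 _ h1)
  obtain ⟨τ', hτ'⟩ : ∃ τ' : (RingHom.ker τ).ResidueField →+* Ω,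
      ∀ r, τ' (algebraMap R _ r) = τ r :=
    ⟨Ideal.ResidueField.lift (RingHom.ker τ) τ le_rfl hunits,
      fun r => Ideal.ResidueField.lift_algebraMap _ τ le_rfl hunits r⟩
  obtain ⟨σ', hσ'⟩ := ep_field_lift (Ideal.ResidueField.map (RingHom.ker τ) Q.asIdeal f hQ') τ'
    (ep_residue_isIntegralElem f hf _ _ hQ')
  refine ⟨σ'.comp (algebraMap S Q.asIdeal.ResidueField), ?_⟩
  ext r
  rw [RingHom.comp_apply, RingHom.comp_apply,
    ← Ideal.ResidueField.map_algebraMap (RingHom.ker τ) Q.asIdeal f hQ' r,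
    ← RingHom.comp_apply σ', hσ', hτ']

theorem uh_sigma_eq_of_isNilpotent {A B K : Type u} [CommRing A] [CommRing B] [Algebra A B]
    [Field K] (σ₁ σ₂ : B →+* K) (h : σ₁.comp (algebraMap A B) = σ₂.comp (algebraMap A B)) (b : B)
    (hb : IsNilpotent (b ⊗ₜ[A] (1 : B) - (1 : B) ⊗ₜ[A] b)) : σ₁ b = σ₂ b := by
  letI : Algebra A K := (σ₁.comp (algebraMap A B)).toAlgebra
  let s₁ : B →ₐ[A] K := { σ₁ with commutes' := fun a => rfl }
  let s₂ : B →ₐ[A] K :=
    { σ₂ with commutes' := fun a => (congrFun (congrArg DFunLike.coe h) a).symm }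
  have h1 : IsNilpotent ((Algebra.TensorProduct.productMap s₁ s₂)
      (b ⊗ₜ[A] (1 : B) - (1 : B) ⊗ₜ[A] b)) := hb.map _
  have h2 : (Algebra.TensorProduct.productMap s₁ s₂) (b ⊗ₜ[A] (1 : B) - (1 : B) ⊗ₜ[A] b) =
      σ₁ b - σ₂ b := by
    rw [map_sub, Algebra.TensorProduct.productMap_apply_tmul,
      Algebra.TensorProduct.productMap_apply_tmul, map_one, map_one, mul_one, one_mul]
    rfl
  rw [h2] at h1
  exact sub_eq_zero.mp (IsNilpotent.eq_zero h1)

theorem uh_exists_E (A B : Type u) [CommRing A] [CommRing B] [Algebra A B] :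
    ∃ E : Subalgebra A B,
      ∀ b : B, b ∈ E ↔ IsNilpotent (b ⊗ₜ[A] (1 : B) - (1 : B) ⊗ₜ[A] b) := by
  refine ⟨{ carrier := {b | IsNilpotent (b ⊗ₜ[A] (1 : B) - (1 : B) ⊗ₜ[A] b)}
            mul_mem' := ?_
            one_mem' := ?_
            add_mem' := ?_
            zero_mem' := ?_
            algebraMap_mem' := ?_ }, fun b => Iff.rfl⟩
  · intro a b ha hb
    have ha' : a ⊗ₜ[A] (1 : B) - (1 : B) ⊗ₜ[A] a ∈ nilradical (B ⊗[A] B) := mem_nilradical.mpr ha
    have hb' : b ⊗ₜ[A] (1 : B) - (1 : B) ⊗ₜ[A] b ∈ nilradical (B ⊗[A] B) := mem_nilradical.mpr hb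
    have h1 : (a * b) ⊗ₜ[A] (1 : B) - (1 : B) ⊗ₜ[A] (a * b) =
        (a ⊗ₜ[A] (1 : B)) * (b ⊗ₜ[A] (1 : B) - (1 : B) ⊗ₜ[A] b) +
          (a ⊗ₜ[A] (1 : B) - (1 : B) ⊗ₜ[A] a) * ((1 : B) ⊗ₜ[A] b) := by
      simp only [mul_sub, sub_mul, Algebra.TensorProduct.tmul_mul_tmul, mul_one, one_mul]
      abel
    show IsNilpotent _
    rw [h1]
    exact mem_nilradical.mp (Ideal.add_mem _ (Ideal.mul_mem_left _ _ hb')
      (Ideal.mul_mem_right _ _ ha'))
  · show IsNilpotent _
    rw [sub_self]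
    exact IsNilpotent.zero
  · intro a b ha hb
    have ha' : a ⊗ₜ[A] (1 : B) - (1 : B) ⊗ₜ[A] a ∈ nilradical (B ⊗[A] B) := mem_nilradical.mpr ha
    have hb' : b ⊗ₜ[A] (1 : B) - (1 : B) ⊗ₜ[A] b ∈ nilradical (B ⊗[A] B) := mem_nilradical.mpr hb
    have h1 : (a + b) ⊗ₜ[A] (1 : B) - (1 : B) ⊗ₜ[A] (a + b) =
        (a ⊗ₜ[A] (1 : B) - (1 : B) ⊗ₜ[A] a) + (b ⊗ₜ[A] (1 : B) - (1 : B) ⊗ₜ[A] b) := by
      rw [TensorProduct.add_tmul, TensorProduct.tmul_add]
      abel
    show IsNilpotent _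
    rw [h1]
    exact mem_nilradical.mp (Ideal.add_mem _ ha' hb')
  · show IsNilpotent _
    rw [TensorProduct.zero_tmul, TensorProduct.tmul_zero, sub_self]
    exact IsNilpotent.zero
  · intro r
    show IsNilpotent _
    rw [Algebra.algebraMap_eq_smul_one, TensorProduct.smul_tmul, sub_self]
    exact IsNilpotent.zero

theorem uh_wn (A B : Type u) [CommRing A] [CommRing B] [Algebra A B]
    (hinj : Function.Injective (algebraMap A B)) [Algebra.IsIntegral A B]
    (E : Subalgebra A B)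
    (hE : ∀ b : B, b ∈ E ↔ IsNilpotent (b ⊗ₜ[A] (1 : B) - (1 : B) ⊗ₜ[A] b)) :
    FlatMor.IsUnivHomeo (Spec.map (CommRingCat.ofHom (algebraMap A E))) ∧
      ∀ C : Subalgebra A B,
        FlatMor.IsUnivHomeo (Spec.map (CommRingCat.ofHom (algebraMap A C))) → C ≤ E := by
  have hcompE : (E.val : E →+* B).comp (algebraMap A E) = algebraMap A B :=
    AlgHom.comp_algebraMap E.val
  have hintAB : (algebraMap A B).IsIntegral := fun b => Algebra.IsIntegral.isIntegral b
  refine ⟨?_, ?_⟩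
  · rw [uh_iff_ring]
    have hint : (algebraMap A E).IsIntegral := by
      intro e
      exact (isIntegral_algHom_iff E.val Subtype.val_injective).mp
        (Algebra.IsIntegral.isIntegral (e : B))
    have hinjE : Function.Injective (algebraMap A E) := by
      intro a a' h
      apply hinj
      have h1 := congrArg (E.val : E →+* B) h
      exact h1
    refine ⟨hint, hint.comap_surjective hinjE, ?_⟩
    intro K _ σ₁ σ₂ hσ
    have hintEB : (E.val : E →+* B).IsIntegral := by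
      have h1 : ((E.val : E →+* B).comp (algebraMap A E)).IsIntegral := by
        rw [hcompE]; exact hintAB
      exact RingHom.IsIntegral.tower_top _ _ h1
    have hsEB : Function.Surjective (PrimeSpectrum.comap (E.val : E →+* B)) :=
      hintEB.comap_surjective Subtype.val_injective
    obtain ⟨s₁, hs₁⟩ := uh_extend_hom (E.val : E →+* B) hintEB hsEB
      ((algebraMap K (AlgebraicClosure K)).comp σ₁)
    obtain ⟨s₂, hs₂⟩ := uh_extend_hom (E.val : E →+* B) hintEB hsEB
      ((algebraMap K (AlgebraicClosure K)).comp σ₂)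
    have hs12 : s₁.comp (algebraMap A B) = s₂.comp (algebraMap A B) := by
      rw [← hcompE, ← RingHom.comp_assoc, ← RingHom.comp_assoc, hs₁, hs₂, RingHom.comp_assoc,
        RingHom.comp_assoc, hσ]
    ext e
    apply (algebraMap K (AlgebraicClosure K)).injective
    have h1 := uh_sigma_eq_of_isNilpotent s₁ s₂ hs12 (e : B) ((hE (e : B)).mp e.2)
    have h2 : s₁ (e : B) = (algebraMap K (AlgebraicClosure K)) (σ₁ e) :=
      congrFun (congrArg DFunLike.coe hs₁) e
    have h3 : s₂ (e : B) = (algebraMap K (AlgebraicClosure K)) (σ₂ e) :=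
      congrFun (congrArg DFunLike.coe hs₂) e
    rw [← h2, ← h3, h1]
  · intro C hC b hb
    rw [hE, nilpotent_iff_mem_prime]
    intro J hJ
    haveI := hJ
    have hC3 := ((uh_iff_ring (algebraMap A C)).mp hC).2.2
    have hcompC : (C.val : C →+* B).comp (algebraMap A C) = algebraMap A B :=
      AlgHom.comp_algebraMap C.val
    have hkey : ((algebraMap (B ⊗[A] B) J.ResidueField).comp
          (Algebra.TensorProduct.includeLeft : B →ₐ[A] B ⊗[A] B).toRingHom).comp (C.val : C →+* B) =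
        ((algebraMap (B ⊗[A] B) J.ResidueField).comp
          (Algebra.TensorProduct.includeRight : B →ₐ[A] B ⊗[A] B).toRingHom).comp
            (C.val : C →+* B) := by
      apply hC3
      rw [RingHom.comp_assoc, RingHom.comp_assoc, hcompC]
      ext a
      simp only [RingHom.comp_apply]
      congr 1
      exact ((Algebra.TensorProduct.includeLeft : B →ₐ[A] B ⊗[A] B).commutes a).trans
        ((Algebra.TensorProduct.includeRight : B →ₐ[A] B ⊗[A] B).commutes a).symm
    have h1 := congrFun (congrArg DFunLike.coe hkey) ⟨b, hb⟩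
    have h2 : algebraMap (B ⊗[A] B) J.ResidueField (b ⊗ₜ[A] (1 : B)) =
        algebraMap (B ⊗[A] B) J.ResidueField ((1 : B) ⊗ₜ[A] b) := h1
    rw [← Ideal.algebraMap_residueField_eq_zero, map_sub, h2, sub_self]

end Groth.Agent.Lib.helper7
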