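import Mathlib

set_option autoImplicit false
open CategoryTheory AlgebraicGeometry Topology
open scoped Set.Notation
universe u

namespace Groth.Agent.Lib.helper7

/-- Preimages of constructible sets under morphisms of affine schemes are constructible. -/
theorem isConstructible_preimage_of_affine {X Y : Scheme.{u}} [IsAffine X] [IsAffine Y] (f : X ⟶ Y)
    {T : Set Y} (hT : IsConstructible T) : IsConstructible (f.base ⁻¹' T) := by
  have hq : QuasiCompact f := (HasAffineProperty.iff_of_isAffine (P := @QuasiCompact)).mpr inferInstance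
  refine hT.preimage f.continuous (fun s hs hs' => ?_)
  have hc : IsCompact s := hs'.isCompact
  have : IsCompact (f.base ⁻¹' s) := hq.1 s hs hc
  exact this.isRetrocompact (hs.preimage f.continuous)

/-- Preimages of locally constructible sets under morphisms of schemes are locally constructible. -/
theorem isLocallyConstructible_preimage {X Y : Scheme.{u}} (f : X ⟶ Y)
    {T : Set Y} (hT : IsLocallyConstructible T) : IsLocallyConstructible (f.base ⁻¹' T) := by
  intro x
  obtain ⟨V, hV, hxV, -⟩ := exists_isAffineOpen_mem_and_subset (X := Y) (x := f.base x) (U := ⊤) trivial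
  obtain ⟨U, hU, hxU, hUV⟩ := exists_isAffineOpen_mem_and_subset (X := X) (x := x) (U := f ⁻¹ᵁ V) hxV
  refine ⟨U, U.2.mem_nhds hxU, U.2, ?_⟩
  have iU : IsAffine U.toScheme := hU
  have iV : IsAffine V.toScheme := hV
  have hTV : IsConstructible (X := ↥V.toScheme) (V.ι.base ⁻¹' T) :=
    (hT.preimage_of_isOpenEmbedding V.ι.isOpenEmbedding).isConstructible
  have h1 := isConstructible_preimage_of_affine (f.resLE V U hUV) hTV
  have h2 : (f.resLE V U hUV).base ⁻¹' (V.ι.base ⁻¹' T) = U.ι.base ⁻¹' (f.base ⁻¹' T) := by
    ext z
    simp only [Set.mem_preimage]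
    have := congrArg (fun g => g.base z) (Scheme.Hom.resLE_comp_ι f hUV)
    simp only [Scheme.Hom.comp_base, TopCat.comp_app] at this
    rw [this]
  rw [h2] at h1
  exact h1

end Groth.Agent.Lib.helper7
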