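import Mathlib

set_option autoImplicit false

open TensorProduct

namespace Groth.Agent.Lib.helper7

universe u v

section
variable {A : Type u} [CommRing A]

/-- The multiplication map `I ⊗ P → P`. -/
noncomputable def af_mu (I : Ideal A) (P : Type v) [AddCommGroup P] [Module A P] :
    I ⊗[A] P →ₗ[A] P :=
  (TensorProduct.lid A P).toLinearMap ∘ₗ (LinearMap.rTensor P I.subtype)

lemma af_mu_tmul (I : Ideal A) (P : Type v) [AddCommGroup P] [Module A P] (a : I) (p : P) :
    af_mu I P (a ⊗ₜ p) = (a : A) • p := by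
  simp [af_mu]

lemma af_mu_injective (I : Ideal A) (P : Type v) [AddCommGroup P] [Module A P]
    [Module.Flat A P] : Function.Injective (af_mu I P) := by
  unfold af_mu
  rw [LinearMap.coe_comp]
  exact (TensorProduct.lid A P).injective.comp
    (Module.Flat.iff_rTensor_injective'.mp inferInstance I)

lemma af_exists_of_mem_smul (I : Ideal A) (P : Type v) [AddCommGroup P] [Module A P] (x : P)
    (hx : x ∈ I • (⊤ : Submodule A P)) : ∃ ξ : I ⊗[A] P, af_mu I P ξ = x := by
  refine Submodule.smul_induction_on hx ?_ ?_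
  · intro a ha p _
    exact ⟨(⟨a, ha⟩ : I) ⊗ₜ p, af_mu_tmul I P _ _⟩
  · rintro _ _ ⟨ξ, rfl⟩ ⟨η, rfl⟩
    exact ⟨ξ + η, map_add _ _ _⟩

lemma af_mu_nat (I : Ideal A) {P L : Type v} [AddCommGroup P] [Module A P] [AddCommGroup L]
    [Module A L] (h : P →ₗ[A] L) (ξ : I ⊗[A] P) :
    af_mu I L (LinearMap.lTensor I h ξ) = h (af_mu I P ξ) := by
  induction ξ using TensorProduct.induction_on with
  | zero => simp
  | tmul a p => rw [LinearMap.lTensor_tmul, af_mu_tmul, af_mu_tmul, map_smul]
  | add y z hy hz => rw [map_add, map_add, hy, hz, map_add, map_add]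

lemma af_lTensor_residue_injective (m : Ideal A) [m.IsMaximal] (Q : Type u) [AddCommGroup Q]
    [Module A Q] {P L : Type v} [AddCommGroup P] [Module A P] [AddCommGroup L] [Module A L]
    (h : P →ₗ[A] L) (hinj : Function.Injective (h.lTensor (A ⧸ m))) :
    Function.Injective ((h.lTensor (A ⧸ m)).lTensor Q) := by
  have hinj' : Function.Injective (h.baseChange (A ⧸ m)) := by
    rw [LinearMap.baseChange_eq_ltensor]; exact hinj
  letI : Field (A ⧸ m) := Ideal.Quotient.field m
  have hker : LinearMap.ker (h.baseChange (A ⧸ m)) = ⊥ :=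
    LinearMap.ker_eq_bot_of_injective hinj'
  obtain ⟨g, hg⟩ := LinearMap.exists_leftInverse_of_injective (h.baseChange (A ⧸ m)) hker
  let ρ : (A ⧸ m) ⊗[A] L →ₗ[A] (A ⧸ m) ⊗[A] P := g.restrictScalars A
  have hρ : ρ ∘ₗ (h.lTensor (A ⧸ m)) = LinearMap.id := by
    apply LinearMap.ext
    intro z
    have h1 := LinearMap.congr_fun hg z
    have h2 : (h.baseChange (A ⧸ m)) z = (h.lTensor (A ⧸ m)) z :=
      congrFun (LinearMap.baseChange_eq_ltensor (A := A ⧸ m) (f := h)) z
    rw [LinearMap.comp_apply, LinearMap.id_apply] at h1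
    show g ((h.lTensor (A ⧸ m)) z) = z
    rw [← h2]; exact h1
  have h2 : (ρ.lTensor Q) ∘ₗ ((h.lTensor (A ⧸ m)).lTensor Q) = LinearMap.id := by
    rw [← LinearMap.lTensor_comp, hρ, LinearMap.lTensor_id]
  exact Function.LeftInverse.injective (g := ρ.lTensor Q) (fun x => LinearMap.congr_fun h2 x)

lemma af_mk_eq_zero_iff (m : Ideal A) (P : Type v) [AddCommGroup P] [Module A P] (p : P) :
    (1 : A ⧸ m) ⊗ₜ[A] p = 0 ↔ p ∈ m • (⊤ : Submodule A P) := by
  have h0 := TensorProduct.quotTensorEquivQuotSMul_mk_one_tmul (M := P) m p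
  constructor
  · intro h1
    rw [h1, map_zero] at h0
    exact (Submodule.Quotient.mk_eq_zero _).mp h0.symm
  · intro hp
    apply (TensorProduct.quotTensorEquivQuotSMul P m).injective
    rw [map_zero]
    exact h0.trans ((Submodule.Quotient.mk_eq_zero _).mpr hp)

lemma af_injective_of_residue (m : Ideal A) [m.IsMaximal] {n : ℕ} (hn : m ^ n = ⊥)
    {P L : Type v} [AddCommGroup P] [Module A P] [AddCommGroup L] [Module A L]
    [Module.Flat A P] [Module.Flat A L] (h : P →ₗ[A] L)
    (hinj : Function.Injective (h.lTensor (A ⧸ m))) : Function.Injective h := by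
  rw [injective_iff_map_eq_zero]
  intro x hx
  have key : ∀ j : ℕ, x ∈ (m ^ j) • (⊤ : Submodule A P) := by
    intro j
    induction j with
    | zero => simp
    | succ j ih =>
      obtain ⟨ξ, hξ⟩ := af_exists_of_mem_smul (m ^ j) P x ih
      have h1 : LinearMap.lTensor (↥(m ^ j)) h ξ = 0 := by
        apply af_mu_injective (m ^ j) L
        rw [af_mu_nat, hξ, hx, map_zero]
      let πP : P →ₗ[A] (A ⧸ m) ⊗[A] P := TensorProduct.mk A (A ⧸ m) P 1
      let πL : L →ₗ[A] (A ⧸ m) ⊗[A] L := TensorProduct.mk A (A ⧸ m) L 1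
      have hnat : (h.lTensor (A ⧸ m)) ∘ₗ πP = πL ∘ₗ h := by
        ext p; simp [πP, πL]
      have h2 : (LinearMap.lTensor ↥(m ^ j) πP) ξ = 0 := by
        apply af_lTensor_residue_injective m (↥(m ^ j)) h hinj
        rw [← LinearMap.comp_apply, ← LinearMap.lTensor_comp, hnat, LinearMap.lTensor_comp,
          LinearMap.comp_apply, h1, map_zero, map_zero]
      have hex : Function.Exact ((m • (⊤ : Submodule A P)).subtype) πP := by
        intro p
        rw [show πP p = (1 : A ⧸ m) ⊗ₜ[A] p from rfl, af_mk_eq_zero_iff]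
        simp
      have hsurj : Function.Surjective πP :=
        TensorProduct.mk_surjective A P (A ⧸ m) Ideal.Quotient.mk_surjective
      have hex' := lTensor_exact ↥(m ^ j) hex hsurj
      obtain ⟨ζ, hζ⟩ := (hex' ξ).mp h2
      have hgen : ∀ ζ : ↥(m ^ j) ⊗[A] ↥(m • (⊤ : Submodule A P)),
          af_mu (m ^ j) P (LinearMap.lTensor ↥(m ^ j) (m • (⊤ : Submodule A P)).subtype ζ)
            ∈ (m ^ (j + 1)) • (⊤ : Submodule A P) := by
        intro ζ
        induction ζ using TensorProduct.induction_on with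
        | zero => simp
        | tmul a p' =>
          rw [LinearMap.lTensor_tmul, af_mu_tmul, pow_succ, Submodule.mul_smul]
          exact Submodule.smul_mem_smul a.2 p'.2
        | add y z hy hz => rw [map_add, map_add]; exact Submodule.add_mem _ hy hz
      rw [← hξ, ← hζ]
      exact hgen ζ
  have h3 := key n
  rw [hn, Submodule.bot_smul] at h3
  exact (Submodule.mem_bot A).mp h3

lemma af_surjective_of_residue (m : Ideal A) {n : ℕ} (hn : m ^ n = ⊥)
    {P L : Type v} [AddCommGroup P] [Module A P] [AddCommGroup L] [Module A L]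
    (h : P →ₗ[A] L)
    (hsurj : Function.Surjective (h.lTensor (A ⧸ m))) : Function.Surjective h := by
  have hbase : LinearMap.range h ⊔ m • (⊤ : Submodule A L) = ⊤ := by
    rw [eq_top_iff]
    intro y _
    obtain ⟨z, hz⟩ := hsurj ((1 : A ⧸ m) ⊗ₜ[A] y)
    obtain ⟨p, rfl⟩ := TensorProduct.mk_surjective A P (A ⧸ m) Ideal.Quotient.mk_surjective z
    have h1 : (1 : A ⧸ m) ⊗ₜ[A] (y - h p) = 0 := by
      rw [TensorProduct.tmul_sub, ← hz]; simp
    have h2 := (af_mk_eq_zero_iff m L (y - h p)).mp h1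
    have h3 : y = h p + (y - h p) := by abel
    rw [h3]
    exact Submodule.add_mem_sup ⟨p, rfl⟩ h2
  have hstep : ∀ j : ℕ, LinearMap.range h ⊔ (m ^ j) • (⊤ : Submodule A L) = ⊤ := by
    intro j
    induction j with
    | zero => simp
    | succ j ih =>
      rw [eq_top_iff]
      calc ⊤ = LinearMap.range h ⊔ m • (⊤ : Submodule A L) := hbase.symm
        _ = LinearMap.range h ⊔ m • (LinearMap.range h ⊔ (m ^ j) • (⊤ : Submodule A L)) := by
            rw [ih]
        _ = LinearMap.range h ⊔ (m • LinearMap.range h ⊔ m • (m ^ j) • (⊤ : Submodule A L)) := by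
            rw [Submodule.smul_sup]
        _ ≤ LinearMap.range h ⊔ (m ^ (j + 1)) • (⊤ : Submodule A L) := by
          refine sup_le le_sup_left (sup_le (le_sup_of_le_left Submodule.smul_le_right)
            (le_sup_of_le_right ?_))
          rw [← Submodule.mul_smul, ← pow_succ']
  have h4 := hstep n
  rw [hn, Submodule.bot_smul, sup_bot_eq] at h4
  exact LinearMap.range_eq_top.mp h4

end

end Groth.Agent.Lib.helper7
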