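import Mathlib

/-!
Characters of the additive group in characteristic `p` (helper7): coefficient analysis of
polynomials `f` with `f(x+y) = f(x) f(y)` (possibly truncated), used for S13357 / S13374.
-/

namespace Groth.Agent.Lib.helper7

open Polynomial

section Binom

variable (p : ℕ) [hp : Fact p.Prime]

lemma cpc_choose_B1 : ∀ (k i j : ℕ), i < p ^ k →
    Nat.choose (i + j * p ^ k) i ≡ 1 [MOD p] := by
  intro k
  induction k with
  | zero =>
    intro i j hi
    have : i = 0 := by simpa using hi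
    subst this
    simp [Nat.ModEq]
  | succ k ih =>
    intro i j hi
    have hp0 := hp.out.pos
    have e : i + j * p ^ (k + 1) = i + p * (j * p ^ k) := by ring
    have h1 : (i + j * p ^ (k + 1)) % p = i % p := by
      rw [e, Nat.add_mul_mod_self_left]
    have h2 : (i + j * p ^ (k + 1)) / p = i / p + j * p ^ k := by
      rw [e, Nat.add_mul_div_left _ _ hp0]
    have hL := Choose.choose_modEq_choose_mod_mul_choose_div_nat
      (n := i + j * p ^ (k + 1)) (k := i) (p := p)
    rw [h1, h2, Nat.choose_self, one_mul] at hL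
    refine hL.trans (ih (i / p) j ?_)
    rw [Nat.div_lt_iff_lt_mul hp0]
    rw [pow_succ] at hi
    exact hi

lemma cpc_choose_B2 : ∀ (k j : ℕ), Nat.choose (j * p ^ k) (p ^ k) ≡ j [MOD p] := by
  intro k
  induction k with
  | zero =>
    intro j
    simp [Nat.ModEq]
  | succ k ih =>
    intro j
    have hp0 := hp.out.pos
    have e1 : j * p ^ (k + 1) = p * (j * p ^ k) := by ring
    have e2 : p ^ (k + 1) = p * p ^ k := by ring
    have h1 : (j * p ^ (k + 1)) % p = 0 := by rw [e1]; exact Nat.mul_mod_right _ _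
    have h2 : (p ^ (k + 1)) % p = 0 := by rw [e2]; exact Nat.mul_mod_right _ _
    have h3 : (j * p ^ (k + 1)) / p = j * p ^ k := Nat.div_eq_of_eq_mul_right hp0 e1
    have h4 : (p ^ (k + 1)) / p = p ^ k := Nat.div_eq_of_eq_mul_right hp0 e2
    have hL := Choose.choose_modEq_choose_mod_mul_choose_div_nat
      (n := j * p ^ (k + 1)) (k := p ^ (k + 1)) (p := p)
    rw [h1, h2, h3, h4, Nat.choose_self, one_mul] at hL
    exact hL.trans (ih j)

variable {A : Type*} [CommRing A] [CharP A p]

lemma cpc_isUnit_natCast (m : ℕ) (h : ¬ p ∣ m) : IsUnit ((m : ℕ) : A) := by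
  have h1 : IsUnit ((m : ℕ) : ZMod p) := by
    rw [isUnit_iff_ne_zero, Ne, ZMod.natCast_eq_zero_iff]
    exact h
  have h2 := h1.map (ZMod.castHom (dvd_refl p) A)
  rwa [map_natCast] at h2

lemma cpc_isUnit_factorial (j : ℕ) (hj : j < p) : IsUnit ((j.factorial : ℕ) : A) := by
  apply cpc_isUnit_natCast p
  rw [hp.out.dvd_factorial]
  omega

omit hp [CharP A p] in
lemma cpc_inv_id (U V W Cc : A) (hU : IsUnit U) (hV : IsUnit V)
    (hW : IsUnit W) (hfac : W = Cc * U * V) :
    Ring.inverse U * Ring.inverse V = Ring.inverse W * Cc := by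
  have e1 := Ring.inverse_mul_cancel _ hW
  have e2 := Ring.mul_inverse_cancel _ hU
  have e3 := Ring.mul_inverse_cancel _ hV
  linear_combination (-(Ring.inverse U * Ring.inverse V)) * e1
    + (Ring.inverse W * Ring.inverse U * Ring.inverse V) * hfac
    + (Ring.inverse W * Cc * V * Ring.inverse V) * e2 + (Ring.inverse W * Cc) * e3

/-- truncated exponential `∑_{j<p} (a x^q)^j / j!` -/
noncomputable def cpcE (a : A) (q : ℕ) : A[X] :=
  ∑ j ∈ Finset.range p, C (Ring.inverse ((j.factorial : ℕ) : A) * a ^ j) * X ^ (j * q)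

lemma cpc_L1 (n : ℕ) (f : A[X])
    (Hlt : ∀ i j, i + j < p ^ n →
      (((i + j).choose i : ℕ) : A) * f.coeff (i + j) = f.coeff i * f.coeff j)
    (k i j : ℕ) (hi : i < p ^ k) (hlt : i + j * p ^ k < p ^ n) :
    f.coeff (i + j * p ^ k) = f.coeff i * f.coeff (j * p ^ k) := by
  have h := Hlt i (j * p ^ k) hlt
  rw [CharP.natCast_eq_natCast' A p (cpc_choose_B1 p k i j hi), Nat.cast_one, one_mul] at h
  exact h

lemma cpc_L2 (n : ℕ) (f : A[X]) (h0 : f.coeff 0 = 1)
    (Hlt : ∀ i j, i + j < p ^ n →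
      (((i + j).choose i : ℕ) : A) * f.coeff (i + j) = f.coeff i * f.coeff j)
    (k : ℕ) : ∀ j, j < p → j * p ^ k < p ^ n →
    f.coeff (j * p ^ k) = Ring.inverse ((j.factorial : ℕ) : A) * f.coeff (p ^ k) ^ j := by
  intro j
  induction j with
  | zero =>
    intro _ _
    simp [h0]
  | succ j ih =>
    intro hj hlt
    have e : (j + 1) * p ^ k = j * p ^ k + p ^ k := by ring
    rw [e] at hlt ⊢
    have ih' := ih (by omega) (by omega)
    have h := Hlt (j * p ^ k) (p ^ k) hlt
    have hb : (((j * p ^ k + p ^ k).choose (j * p ^ k) : ℕ) : A) = ((j + 1 : ℕ) : A) := by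
      apply CharP.natCast_eq_natCast' A p
      rw [Nat.choose_symm_add, ← e]
      exact cpc_choose_B2 p k (j + 1)
    rw [hb, ih'] at h
    have hu : IsUnit (((j + 1 : ℕ)) : A) := by
      apply cpc_isUnit_natCast p
      intro hd
      have := Nat.le_of_dvd (by omega) hd
      omega
    have hfac : (((j + 1).factorial : ℕ) : A) = ((j + 1 : ℕ) : A) * ((j.factorial : ℕ) : A) := by
      rw [Nat.factorial_succ, Nat.cast_mul]
    rw [hfac, Ring.mul_inverse_rev, pow_succ]
    have e1 := Ring.inverse_mul_cancel _ hu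
    linear_combination (Ring.inverse (((j + 1 : ℕ)) : A)) * h
      - (f.coeff (j * p ^ k + p ^ k)) * e1

lemma cpc_B3 (k : ℕ) :
    ((((p - 1) * p ^ k + p ^ k).choose ((p - 1) * p ^ k) : ℕ) : A) = 0 := by
  have e : (p - 1) * p ^ k + p ^ k = p * p ^ k := by
    have h1 : p - 1 + 1 = p := Nat.sub_add_cancel hp.out.one_le
    calc (p - 1) * p ^ k + p ^ k = (p - 1 + 1) * p ^ k := by ring
      _ = p * p ^ k := by rw [h1]
  rw [Nat.choose_symm_add, e, CharP.natCast_eq_natCast' A p (cpc_choose_B2 p k p),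
    CharP.cast_eq_zero]

lemma cpc_L3 (n : ℕ) (f : A[X]) (h0 : f.coeff 0 = 1)
    (Hlt : ∀ i j, i + j < p ^ n →
      (((i + j).choose i : ℕ) : A) * f.coeff (i + j) = f.coeff i * f.coeff j)
    (k : ℕ) (hk : (p - 1) * p ^ k < p ^ n)
    (hz : f.coeff ((p - 1) * p ^ k) * f.coeff (p ^ k) = 0) :
    f.coeff (p ^ k) ^ p = 0 := by
  have hp1 := hp.out.one_le
  have hL2 := cpc_L2 p n f h0 Hlt k (p - 1) (by omega) hk
  rw [hL2] at hz
  have hv : IsUnit (((p - 1).factorial : ℕ) : A) := cpc_isUnit_factorial p (p - 1) (by omega)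
  have e2 := Ring.mul_inverse_cancel _ hv
  have hpow : f.coeff (p ^ k) ^ p = f.coeff (p ^ k) ^ (p - 1) * f.coeff (p ^ k) := by
    rw [← pow_succ, Nat.sub_add_cancel hp1]
  rw [hpow]
  linear_combination ((((p - 1).factorial : ℕ) : A)) * hz
    - (f.coeff (p ^ k) ^ (p - 1) * f.coeff (p ^ k)) * e2

lemma cpc_PC (n : ℕ) (f : A[X]) (h0 : f.coeff 0 = 1)
    (Hlt : ∀ i j, i + j < p ^ n →
      (((i + j).choose i : ℕ) : A) * f.coeff (i + j) = f.coeff i * f.coeff j) :
    ∀ k, k ≤ n → ∀ m,
      (∏ l ∈ Finset.range k, cpcE p (f.coeff (p ^ l)) (p ^ l)).coeff m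
        = if m < p ^ k then f.coeff m else 0 := by
  intro k
  induction k with
  | zero =>
    intro _ m
    rw [Finset.prod_range_zero, pow_zero]
    by_cases hm : m = 0
    · subst hm
      simp [h0]
    · simp [Polynomial.coeff_one, hm]
  | succ k ih =>
    intro hk m
    have ihk := ih (by omega)
    have hq : 0 < p ^ k := Nat.pow_pos hp.out.pos
    have hQ : p ^ (k + 1) ≤ p ^ n := Nat.pow_le_pow_right hp.out.pos hk
    have e : p ^ (k + 1) = p * p ^ k := pow_succ' _ _
    have hE : cpcE p (f.coeff (p ^ k)) (p ^ k) = ∑ j ∈ Finset.range p,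
        C (Ring.inverse ((j.factorial : ℕ) : A) * f.coeff (p ^ k) ^ j) * X ^ (j * p ^ k) := rfl
    rw [Finset.prod_range_succ, hE, Finset.mul_sum, Polynomial.finsetSum_coeff]
    have hterm : ∀ j ∈ Finset.range p,
        ((∏ l ∈ Finset.range k, cpcE p (f.coeff (p ^ l)) (p ^ l)) *
          (C (Ring.inverse ((j.factorial : ℕ) : A) * f.coeff (p ^ k) ^ j) *
            X ^ (j * p ^ k))).coeff m = if j = m / p ^ k then f.coeff m else 0 := by
      intro j hj
      rw [Finset.mem_range] at hj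
      rw [mul_comm (C _) (X ^ _), ← mul_assoc, Polynomial.coeff_mul_C,
        Polynomial.coeff_mul_X_pow', ihk]
      by_cases hjm : j = m / p ^ k
      · rw [if_pos hjm]
        have h1 : j * p ^ k ≤ m := by rw [hjm]; exact Nat.div_mul_le_self m (p ^ k)
        have h2 : m - j * p ^ k < p ^ k := by
          have hmod := Nat.mod_lt m hq
          have h3 := Nat.mod_add_div m (p ^ k)
          rw [← hjm, mul_comm (p ^ k) j] at h3
          omega
        rw [if_pos h1, if_pos h2]
        have hmQ : m < p ^ n := by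
          have h4 : m < (j + 1) * p ^ k := by rw [add_mul, one_mul]; omega
          have h5 : (j + 1) * p ^ k ≤ p * p ^ k := Nat.mul_le_mul_right _ (by omega)
          omega
        have hm_eq : (m - j * p ^ k) + j * p ^ k = m := by omega
        have hL1 := cpc_L1 p n f Hlt k (m - j * p ^ k) j h2 (by omega)
        have hL2 := cpc_L2 p n f h0 Hlt k j hj (by omega)
        rw [hm_eq] at hL1
        rw [hL1, hL2]
      · rw [if_neg hjm]
        by_cases h1 : j * p ^ k ≤ m
        · rw [if_pos h1]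
          by_cases h2 : m - j * p ^ k < p ^ k
          · exfalso
            apply hjm
            symm
            apply Nat.div_eq_of_lt_le h1
            rw [add_mul, one_mul]
            omega
          · rw [if_neg h2, zero_mul]
        · rw [if_neg h1, zero_mul]
    rw [Finset.sum_congr rfl hterm, Finset.sum_ite_eq']
    have hiff : m / p ^ k ∈ Finset.range p ↔ m < p ^ (k + 1) := by
      rw [Finset.mem_range, Nat.div_lt_iff_lt_mul hq, e]
    simp only [hiff]

theorem cpc_prod_eq (n : ℕ) (f : A[X]) (hdeg : ∀ m, p ^ n ≤ m → f.coeff m = 0)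
    (h0 : f.coeff 0 = 1)
    (Hlt : ∀ i j, i + j < p ^ n →
      (((i + j).choose i : ℕ) : A) * f.coeff (i + j) = f.coeff i * f.coeff j) :
    f = ∏ k ∈ Finset.range n, cpcE p (f.coeff (p ^ k)) (p ^ k) := by
  ext m
  rw [cpc_PC p n f h0 Hlt n le_rfl m]
  split_ifs with hm
  · rfl
  · exact hdeg m (not_lt.mp hm)

theorem cpc_core (n : ℕ) (f : A[X]) (hdeg : ∀ m, p ^ n ≤ m → f.coeff m = 0)
    (h0 : f.coeff 0 = 1)
    (H : ∀ i j, i < p ^ n → j < p ^ n →
      (((i + j).choose i : ℕ) : A) * f.coeff (i + j) = f.coeff i * f.coeff j) :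
    (∀ k, f.coeff (p ^ k) ^ p = 0) ∧
      f = ∏ k ∈ Finset.range n, cpcE p (f.coeff (p ^ k)) (p ^ k) := by
  have Hlt : ∀ i j, i + j < p ^ n →
      (((i + j).choose i : ℕ) : A) * f.coeff (i + j) = f.coeff i * f.coeff j :=
    fun i j hij => H i j (by omega) (by omega)
  refine ⟨?_, cpc_prod_eq p n f hdeg h0 Hlt⟩
  intro k
  have hp1 := hp.out.one_lt
  by_cases hk : p ^ n ≤ p ^ k
  · rw [hdeg _ hk, zero_pow hp.out.ne_zero]
  · have hk' : p ^ k < p ^ n := not_le.mp hk
    have hkn : k < n := (Nat.pow_lt_pow_iff_right hp1).mp hk'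
    have hle : p ^ (k + 1) ≤ p ^ n := Nat.pow_le_pow_right hp.out.pos hkn
    have hq : 0 < p ^ k := Nat.pow_pos hp.out.pos
    have e : (p - 1) * p ^ k + p ^ k = p ^ (k + 1) := by
      have h1 : p - 1 + 1 = p := Nat.sub_add_cancel hp.out.one_le
      calc (p - 1) * p ^ k + p ^ k = (p - 1 + 1) * p ^ k := by ring
        _ = p * p ^ k := by rw [h1]
        _ = p ^ (k + 1) := (pow_succ' _ _).symm
    have hlt1 : (p - 1) * p ^ k < p ^ n := by omega
    apply cpc_L3 p n f h0 Hlt k hlt1
    have h := H ((p - 1) * p ^ k) (p ^ k) hlt1 hk'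
    rw [cpc_B3, zero_mul] at h
    exact h.symm

end Binom

section Extract

variable {A : Type*} [CommRing A]

lemma cpc_coeff_lhs (f : A[X]) (i j : ℕ) :
    ((aeval (C (X : A[X]) + (X : A[X][X])) f).coeff j).coeff i
      = (((i + j).choose i : ℕ) : A) * f.coeff (i + j) := by
  induction f using Polynomial.induction_on' with
  | add g h hg hh => rw [map_add, coeff_add, coeff_add, hg, hh, coeff_add, mul_add]
  | monomial m a =>
    have hC : algebraMap A A[X][X] a = C (C a) := rfl
    rw [aeval_monomial, hC, coeff_C_mul, coeff_C_mul, add_comm (C X) X, coeff_X_add_C_pow,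
      ← C_eq_natCast, coeff_mul_C, coeff_X_pow, coeff_monomial]
    by_cases hm : m = i + j
    · subst hm
      rw [if_pos rfl, if_pos (by omega), Nat.choose_symm_add]
      ring
    · rw [if_neg hm, mul_zero]
      by_cases h2 : i = m - j
      · rw [if_pos h2]
        have : m < j := by omega
        rw [Nat.choose_eq_zero_of_lt this]
        simp
      · rw [if_neg h2]
        simp

lemma cpc_coeff_rhs (f : A[X]) (i j : ℕ) :
    (((aeval (C (X : A[X])) f : A[X][X]) * aeval (X : A[X][X]) f).coeff j).coeff i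
      = f.coeff i * f.coeff j := by
  have h1 : (aeval (C (X : A[X])) f : A[X][X]) = C f := by
    have h := Polynomial.aeval_algHom_apply (Polynomial.CAlgHom (R := A) (A := A[X]))
      (X : A[X]) f
    rw [Polynomial.aeval_X_left_apply] at h
    exact h
  have h2 : (aeval (X : A[X][X]) f : A[X][X]) = f.map (algebraMap A A[X]) := by
    rw [← Polynomial.aeval_map_algebraMap A[X] (X : A[X][X]) f, Polynomial.aeval_X_left_apply]
  rw [h1, h2, coeff_C_mul, coeff_map, ← Polynomial.C_eq_algebraMap, coeff_mul_C]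

lemma cpc_H_of_trunc (f : A[X]) (Q : ℕ) (U V : A[X][X])
    (h : U * (C (X : A[X])) ^ Q + V * (X : A[X][X]) ^ Q
      = aeval (C (X : A[X]) + (X : A[X][X])) f
        - aeval (C (X : A[X])) f * aeval (X : A[X][X]) f)
    (i j : ℕ) (hi : i < Q) (hj : j < Q) :
    (((i + j).choose i : ℕ) : A) * f.coeff (i + j) = f.coeff i * f.coeff j := by
  have h2 := congrArg (fun w => (w.coeff j).coeff i) h
  simp only [coeff_add, coeff_sub] at h2
  rw [cpc_coeff_lhs, cpc_coeff_rhs] at h2
  have e1 : ((U * (C (X : A[X])) ^ Q).coeff j).coeff i = 0 := by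
    rw [← C_pow, coeff_mul_C, coeff_mul_X_pow', if_neg (by omega)]
  have e2 : ((V * (X : A[X][X]) ^ Q).coeff j) = 0 := by
    rw [coeff_mul_X_pow', if_neg (by omega)]
  rw [e1, e2, coeff_zero, add_zero] at h2
  exact sub_eq_zero.mp h2.symm

end Extract

section Converse

lemma cpc_exp_add {B : Type*} [CommRing B] (P : ℕ) (ι : ℕ → B) (α X' Y' : B)
    (hι : ∀ i j, i + j < P → ι i * ι j = ι (i + j) * (((i + j).choose i : ℕ) : B))
    (hα : α ^ P = 0) :
    ∑ m ∈ Finset.range P, ι m * α ^ m * (X' + Y') ^ m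
      = (∑ i ∈ Finset.range P, ι i * α ^ i * X' ^ i) *
        (∑ j ∈ Finset.range P, ι j * α ^ j * Y' ^ j) := by
  obtain ⟨w, hw⟩ : ∃ w : ℕ → ℕ → B, ∀ i j,
      w i j = (ι i * α ^ i * X' ^ i) * (ι j * α ^ j * Y' ^ j) := ⟨_, fun _ _ => rfl⟩
  have hw0 : ∀ i j, P ≤ i + j → w i j = 0 := by
    intro i j hij
    have h1 : α ^ i * α ^ j = 0 := by
      rw [← pow_add]
      obtain ⟨d, hd⟩ := Nat.exists_eq_add_of_le hij
      rw [hd, pow_add, hα, zero_mul]
    rw [hw]
    linear_combination (ι i * X' ^ i * ι j * Y' ^ j) * h1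
  have hL : ∀ m ∈ Finset.range P, ι m * α ^ m * (X' + Y') ^ m
      = ∑ k ∈ Finset.range (m + 1), w k (m - k) := by
    intro m hm
    rw [Finset.mem_range] at hm
    rw [add_pow, Finset.mul_sum]
    apply Finset.sum_congr rfl
    intro k hk
    rw [Finset.mem_range] at hk
    have hkm : k + (m - k) = m := by omega
    have h1 := hι k (m - k) (by omega)
    rw [hkm] at h1
    have h2 : α ^ m = α ^ k * α ^ (m - k) := by rw [← pow_add, hkm]
    rw [hw, h2]
    linear_combination (-(α ^ k * α ^ (m - k) * X' ^ k * Y' ^ (m - k))) * h1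
  rw [Finset.sum_congr rfl hL, Finset.sum_range_diag_flip, Finset.sum_mul_sum]
  apply Finset.sum_congr rfl
  intro i hi
  rw [Finset.mem_range] at hi
  rw [Finset.sum_congr rfl (fun j _ => (hw i j).symm)]
  apply Finset.sum_subset
  · intro j hj
    rw [Finset.mem_range] at hj ⊢
    omega
  · intro j hj hnj
    rw [Finset.mem_range] at hj hnj
    exact hw0 i j (by omega)

variable (p : ℕ) [hp : Fact p.Prime] {A : Type*} [CommRing A] [CharP A p]

lemma cpc_aeval_E {B : Type*} [CommRing B] [Algebra A B] (a : A) (q : ℕ) (z : B) :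
    aeval z (cpcE p a q) = ∑ j ∈ Finset.range p,
      algebraMap A B (Ring.inverse ((j.factorial : ℕ) : A)) * (algebraMap A B a) ^ j
        * (z ^ q) ^ j := by
  rw [cpcE, map_sum]
  apply Finset.sum_congr rfl
  intro j _
  rw [map_mul, aeval_C, map_pow, aeval_X, map_mul, map_pow, pow_mul']

lemma cpc_E_fe {B : Type*} [CommRing B] [Algebra A B] [CharP B p] (a : A) (ha : a ^ p = 0)
    (k : ℕ) (x y : B) :
    aeval (x + y) (cpcE p a (p ^ k))
      = aeval x (cpcE p a (p ^ k)) * aeval y (cpcE p a (p ^ k)) := by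
  rw [cpc_aeval_E, cpc_aeval_E, cpc_aeval_E, add_pow_char_pow]
  refine cpc_exp_add p (fun j => algebraMap A B (Ring.inverse ((j.factorial : ℕ) : A)))
    (algebraMap A B a) (x ^ p ^ k) (y ^ p ^ k) ?_ ?_
  · intro i j hij
    have hU : IsUnit ((i.factorial : ℕ) : A) := cpc_isUnit_factorial p i (by omega)
    have hV : IsUnit ((j.factorial : ℕ) : A) := cpc_isUnit_factorial p j (by omega)
    have hW : IsUnit (((i + j).factorial : ℕ) : A) := cpc_isUnit_factorial p (i + j) hij
    have hfac : (((i + j).factorial : ℕ) : A)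
        = (((i + j).choose i : ℕ) : A) * ((i.factorial : ℕ) : A) * ((j.factorial : ℕ) : A) := by
      rw [← Nat.cast_mul, ← Nat.cast_mul, Nat.choose_symm_add,
        Nat.add_choose_mul_factorial_mul_factorial]
    have key := cpc_inv_id _ _ _ _ hU hV hW hfac
    show algebraMap A B _ * algebraMap A B _ = algebraMap A B _ * _
    rw [← map_mul, key, map_mul, map_natCast]
  · rw [← map_pow, ha, map_zero]

end Converse

end Groth.Agent.Lib.helper7
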