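import Mathlib
import Groth.Agent.Lib.helper7.CharPChar

/-!
Power series version of the coefficient extraction for additive characters (helper7), for S13373.
-/

namespace Groth.Agent.Lib.helper7

open Polynomial

lemma cpc_prod_H (p : ℕ) [hp : Fact p.Prime] {A : Type*} [CommRing A] [CharP A p]
    (a : ℕ → A) (ha : ∀ n, a n ^ p = 0) (m : ℕ) (i j : ℕ) :
    (((i + j).choose i : ℕ) : A) * (∏ n ∈ Finset.range m, cpcE p (a n) (p ^ n)).coeff (i + j)
      = (∏ n ∈ Finset.range m, cpcE p (a n) (p ^ n)).coeff i *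
        (∏ n ∈ Finset.range m, cpcE p (a n) (p ^ n)).coeff j := by
  have hfe : aeval (C (X : A[X]) + (X : A[X][X])) (∏ n ∈ Finset.range m, cpcE p (a n) (p ^ n))
      = aeval (C (X : A[X])) (∏ n ∈ Finset.range m, cpcE p (a n) (p ^ n)) *
        aeval (X : A[X][X]) (∏ n ∈ Finset.range m, cpcE p (a n) (p ^ n)) := by
    rw [map_prod, map_prod, map_prod, ← Finset.prod_mul_distrib]
    apply Finset.prod_congr rfl
    intro n _
    exact cpc_E_fe p (a n) (ha n) n _ _
  have h2 := congrArg (fun w => (w.coeff j).coeff i) hfe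
  beta_reduce at h2
  rw [cpc_coeff_lhs, cpc_coeff_rhs] at h2
  exact h2

lemma cpc_ps_lhs {A : Type*} [CommRing A] (χ : PowerSeries A) (e : Fin 2 →₀ ℕ) :
    MvPowerSeries.coeff e (PowerSeries.subst
      (MvPowerSeries.X 0 + MvPowerSeries.X 1 : MvPowerSeries (Fin 2) A) χ)
      = (((e 0 + e 1).choose (e 0) : ℕ) : A) * PowerSeries.coeff (e 0 + e 1) χ := by
  have hs : PowerSeries.HasSubst
      (MvPowerSeries.X 0 + MvPowerSeries.X 1 : MvPowerSeries (Fin 2) A) :=
    (PowerSeries.HasSubst.X 0).add (PowerSeries.HasSubst.X 1)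
  rw [PowerSeries.coeff_subst hs]
  have hpow : ∀ d : ℕ, MvPowerSeries.coeff e
      ((MvPowerSeries.X 0 + MvPowerSeries.X 1 : MvPowerSeries (Fin 2) A) ^ d)
      = if d = e 0 + e 1 then (((e 0 + e 1).choose (e 0) : ℕ) : A) else 0 := by
    intro d
    rw [add_pow, map_sum]
    have hterm : ∀ k ∈ Finset.range (d + 1), MvPowerSeries.coeff e
        ((MvPowerSeries.X 0 : MvPowerSeries (Fin 2) A) ^ k * MvPowerSeries.X 1 ^ (d - k) *
          ((d.choose k : ℕ) : MvPowerSeries (Fin 2) A))
        = if k = e 0 ∧ d = e 0 + e 1 then ((d.choose k : ℕ) : A) else 0 := by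
      intro k hk
      rw [Finset.mem_range] at hk
      rw [MvPowerSeries.X_pow_eq, MvPowerSeries.X_pow_eq, MvPowerSeries.monomial_mul_monomial,
        one_mul]
      have hnat : ((d.choose k : ℕ) : MvPowerSeries (Fin 2) A)
          = MvPowerSeries.C (σ := Fin 2) ((d.choose k : ℕ) : A) := by
        rw [map_natCast]
      rw [hnat, MvPowerSeries.coeff_mul_C, MvPowerSeries.coeff_monomial]
      have hiff : e = Finsupp.single 0 k + Finsupp.single 1 (d - k)
          ↔ (k = e 0 ∧ d = e 0 + e 1) := by
        constructor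
        · intro h
          have h0 := DFunLike.congr_fun h 0
          have h1 := DFunLike.congr_fun h 1
          simp at h0 h1
          omega
        · rintro ⟨h0, h1⟩
          refine Finsupp.ext (Fin.forall_fin_two.mpr ⟨?_, ?_⟩)
          · simp [h0]
          · simp
            omega
      by_cases hc : k = e 0 ∧ d = e 0 + e 1
      · rw [if_pos (hiff.mpr hc), if_pos hc, one_mul]
      · rw [if_neg (fun h => hc (hiff.mp h)), if_neg hc, zero_mul]
    rw [Finset.sum_congr rfl hterm]
    by_cases hd : d = e 0 + e 1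
    · rw [if_pos hd, Finset.sum_eq_single (e 0)]
      · rw [if_pos ⟨rfl, hd⟩, hd]
      · intro k _ hk
        rw [if_neg (fun h => hk h.1)]
      · intro h
        exfalso
        apply h
        rw [Finset.mem_range]
        omega
    · rw [if_neg hd]
      apply Finset.sum_eq_zero
      intro k _
      rw [if_neg (fun h => hd h.2)]
  simp only [hpow, smul_eq_mul, mul_ite, mul_zero]
  rw [finsum_eq_single _ (e 0 + e 1)]
  · rw [if_pos rfl, mul_comm]
  · intro d hd
    rw [if_neg hd]

lemma cpc_ps_rhs {A : Type*} [CommRing A] (χ : PowerSeries A) (e : Fin 2 →₀ ℕ) :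
    MvPowerSeries.coeff e (PowerSeries.subst
        (MvPowerSeries.X 0 : MvPowerSeries (Fin 2) A) χ *
      PowerSeries.subst (MvPowerSeries.X 1 : MvPowerSeries (Fin 2) A) χ)
      = PowerSeries.coeff (e 0) χ * PowerSeries.coeff (e 1) χ := by
  classical
  rw [MvPowerSeries.coeff_mul]
  rw [Finset.sum_eq_single (Finsupp.single 0 (e 0), Finsupp.single 1 (e 1))]
  · rw [PowerSeries.coeff_subst_single, PowerSeries.coeff_subst_single]
    simp
  · rintro ⟨u, v⟩ huv hne
    rw [Finset.HasAntidiagonal.mem_antidiagonal] at huv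
    rw [PowerSeries.coeff_subst_single, PowerSeries.coeff_subst_single]
    by_cases hu : u = Finsupp.single 0 (u 0)
    · by_cases hv : v = Finsupp.single 1 (v 1)
      · exfalso
        apply hne
        have h0 := DFunLike.congr_fun huv 0
        have h1 := DFunLike.congr_fun huv 1
        have hv0 : v 0 = 0 := by
          rw [hv]
          simp
        have hu1 : u 1 = 0 := by
          rw [hu]
          simp
        simp only [Finsupp.add_apply] at h0 h1
        rw [hv0, add_zero] at h0
        rw [hu1, zero_add] at h1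
        rw [Prod.mk.injEq, ← h0, ← h1]
        exact ⟨hu, hv⟩
      · rw [if_neg hv, mul_zero]
    · rw [if_neg hu, zero_mul]
  · intro h
    exfalso
    apply h
    rw [Finset.HasAntidiagonal.mem_antidiagonal]
    refine Finsupp.ext (Fin.forall_fin_two.mpr ⟨?_, ?_⟩)
    · simp
    · simp

end Groth.Agent.Lib.helper7
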