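import Mathlib
import Groth.Prelude.Def_DeRham

set_option autoImplicit false
universe u

namespace Groth.Agent.Lib.helper7

open exteriorPower

/-- The wedge `a' ∧ b'` is a derivation in the first slot. -/
lemma dR_cons_mul {R A : Type u} [CommRing R] [CommRing A] [Algebra R A] (p : ℕ)
    (b' : Fin p → Ω[A⁄R]) (a a' : A) :
    ιMulti A (p + 1) (Fin.cons (KaehlerDifferential.D R A (a * a')) b' : Fin (p + 1) → Ω[A⁄R])
      = a • ιMulti A (p + 1) (Fin.cons (KaehlerDifferential.D R A a') b' : Fin (p + 1) → Ω[A⁄R])
        + a' • ιMulti A (p + 1)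
            (Fin.cons (KaehlerDifferential.D R A a) b' : Fin (p + 1) → Ω[A⁄R]) := by
  rw [Derivation.leibniz]
  have h1 := (ιMulti A (p + 1) (M := Ω[A⁄R])).toMultilinearMap.cons_add b'
    (a • KaehlerDifferential.D R A a') (a' • KaehlerDifferential.D R A a)
  have h2 := (ιMulti A (p + 1) (M := Ω[A⁄R])).toMultilinearMap.cons_smul b' a
    (KaehlerDifferential.D R A a')
  have h3 := (ιMulti A (p + 1) (M := Ω[A⁄R])).toMultilinearMap.cons_smul b' a'
    (KaehlerDifferential.D R A a)
  simp only [AlternatingMap.coe_multilinearMap] at h1 h2 h3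
  rw [h1, h2, h3]

lemma dR_cons_one {R A : Type u} [CommRing R] [CommRing A] [Algebra R A] (p : ℕ)
    (b' : Fin p → Ω[A⁄R]) :
    ιMulti A (p + 1) (Fin.cons (KaehlerDifferential.D R A (1 : A)) b' : Fin (p + 1) → Ω[A⁄R])
      = 0 := by
  apply AlternatingMap.map_coord_zero _ (0 : Fin (p + 1))
  rw [Fin.cons_zero]
  exact Derivation.map_one_eq_zero _

/-- The wedges of exact forms span the exterior powers of the Kähler differentials. -/
lemma dR_span_wedges (R A : Type u) [CommRing R] [CommRing A] [Algebra R A] (p : ℕ) :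
    Submodule.span A (Set.range (fun b' : Fin p → A =>
      (ιMulti A p (fun i => KaehlerDifferential.D R A (b' i)) : ↥(⋀[A]^p (Ω[A⁄R]))))) = ⊤ := by
  classical
  letI : LinearOrder A := IsWellOrder.linearOrder WellOrderingRel
  have hv : Submodule.span A (Set.range (fun a : A => KaehlerDifferential.D R A a)) = ⊤ :=
    KaehlerDifferential.span_range_derivation R A
  have h1 := exteriorPower.ιMulti_family_span_of_span (R := A) (n := p) hv
  rw [eq_top_iff, ← h1]
  apply Submodule.span_mono
  rintro _ ⟨s, rfl⟩
  exact ⟨fun i => (Set.powersetCard.ofFinEmbEquiv.symm s) i, rfl⟩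

/-- Additive induction on `p`-forms of the Kähler differentials: a property that holds on the
generators `b₀ db₁ ∧ … ∧ db_p`, at zero, and is stable under addition, holds everywhere. -/
theorem dR_gen_induction {R A : Type u} [CommRing R] [CommRing A] [Algebra R A] (p : ℕ)
    (P : ↥(⋀[A]^p (Ω[A⁄R])) → Prop)
    (hgen : ∀ (a : A) (b : Fin p → A), P (DeRham.gen (KaehlerDifferential.D R A) p a b))
    (hzero : P 0) (hadd : ∀ x y, P x → P y → P (x + y)) : ∀ x, P x := by
  have main : ∀ m ∈ Submodule.span A (Set.range (fun b' : Fin p → A =>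
      (ιMulti A p (fun i => KaehlerDifferential.D R A (b' i)) : ↥(⋀[A]^p (Ω[A⁄R]))))),
      ∀ c : A, P (c • m) := by
    intro m hm
    induction hm using Submodule.span_induction with
    | mem x hx =>
      obtain ⟨b', rfl⟩ := hx
      intro c
      exact hgen c b'
    | zero =>
      intro c
      rw [smul_zero]
      exact hzero
    | add x y _ _ ihx ihy =>
      intro c
      rw [smul_add]
      exact hadd _ _ (ihx c) (ihy c)
    | smul a x _ ih =>
      intro c
      rw [smul_smul]
      exact ih (c * a)
  intro x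
  have h := main x (by rw [dR_span_wedges]; trivial) 1
  rwa [one_smul] at h

/-- `Fin.cons` commutes with applying a function pointwise. -/
lemma dR_cons_comp {α β : Type*} {p : ℕ} (f : α → β) (a : α) (b : Fin p → α) :
    (Fin.cons (f a) (fun i => f (b i)) : Fin (p + 1) → β)
      = fun i => f ((Fin.cons a b : Fin (p + 1) → α) i) := by
  funext i
  refine Fin.cases ?_ (fun j => ?_) i
  · rfl
  · rfl

end Groth.Agent.Lib.helper7
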