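import Mathlib

set_option autoImplicit false

open CategoryTheory Limits AlgebraicGeometry

namespace Groth.Agent.Lib.helper7

universe u

set_option backward.isDefEq.respectTransparency false in
lemma eo_isOpenImmersion_equalizer_ι_left {S : Scheme.{u}} {X Y : Over S}
    [IsOpenImmersion (pullback.diagonal Y.hom)]
    (f g : X ⟶ Y) : IsOpenImmersion (equalizer.ι f g).left := by
  refine MorphismProperty.of_isPullback (P := @IsOpenImmersion)
    ((Limits.isPullback_equalizer_prod f g).map (Over.forget _)).flip ?_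
  rw [← MorphismProperty.cancel_right_of_respectsIso @IsOpenImmersion _
    (Over.prodLeftIsoPullback Y Y).hom]
  convert! (inferInstance : IsOpenImmersion (pullback.diagonal Y.hom))
  ext1 <;> simp [← Over.comp_left]

lemma eo_rigid {C D D' : Scheme.{u}} (f : D ⟶ C) [IsSeparated f]
    [IsOpenImmersion (pullback.diagonal f)]
    [ConnectedSpace D'] (a b : D' ⟶ D) (hab : a ≫ f = b ≫ f) {Z : Scheme.{u}} [Nonempty Z]
    (z : Z ⟶ D') (hz : z ≫ a = z ≫ b) : a = b := by
  let X' : Over C := Over.mk (a ≫ f)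
  let Y' : Over C := Over.mk f
  let Z' : Over C := Over.mk (z ≫ a ≫ f)
  let a' : X' ⟶ Y' := Over.homMk a
  let b' : X' ⟶ Y' := Over.homMk b hab.symm
  let z' : Z' ⟶ X' := Over.homMk z
  haveI : IsSeparated Y'.hom := ‹_›
  haveI : IsOpenImmersion (pullback.diagonal Y'.hom) := ‹_›
  haveI h1 : IsOpenImmersion (equalizer.ι a' b').left := eo_isOpenImmersion_equalizer_ι_left a' b'
  haveI h2 : IsClosedImmersion (equalizer.ι a' b').left := inferInstance
  let l : Z' ⟶ equalizer a' b' := equalizer.lift z' (by ext1; exact hz)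
  have hl : l.left ≫ (equalizer.ι a' b').left = z := by
    rw [← Over.comp_left, equalizer.lift_ι]; rfl
  have hsurj : Surjective (equalizer.ι a' b').left := by
    rw [surjective_iff]
    have hclopen : IsClopen (Set.range (equalizer.ι a' b').left) :=
      ⟨(Scheme.Hom.isClosedEmbedding _).isClosed_range,
        (Scheme.Hom.isOpenEmbedding _).isOpen_range⟩
    have hne : (Set.range (equalizer.ι a' b').left).Nonempty := by
      obtain ⟨p⟩ := ‹Nonempty Z›
      exact ⟨z p, l.left p, by rw [← hl]; rfl⟩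
    haveI : ConnectedSpace X'.left := ‹ConnectedSpace D'›
    have := hclopen.eq_univ hne
    exact Set.range_eq_univ.mp this
  haveI : IsIso (equalizer.ι a' b').left :=
    (isIso_iff_isOpenImmersion_and_surjective _).mpr ⟨h1, hsurj⟩
  rw [← cancel_epi (equalizer.ι a' b').left]
  exact congr($(equalizer.condition a' b').left)

set_option backward.isDefEq.respectTransparency false in
lemma eo_equalizer_ι_left_of_diagonal (P : MorphismProperty Scheme.{u})
    [P.IsStableUnderBaseChange]
    {S : Scheme.{u}} {X Y : Over S} (hY : P (pullback.diagonal Y.hom)) (f g : X ⟶ Y) :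
    P (equalizer.ι f g).left := by
  refine MorphismProperty.of_isPullback (P := P)
    ((Limits.isPullback_equalizer_prod f g).map (Over.forget _)).flip ?_
  rw [← MorphismProperty.cancel_right_of_respectsIso P _ (Over.prodLeftIsoPullback Y Y).hom]
  convert! hY
  ext1 <;> simp [← Over.comp_left]

lemma eo_exists_open_eq {X Y T : Scheme.{u}} [IsIntegral T] (f : Y ⟶ X) (ξ η : T ⟶ Y)
    (hf : ξ ≫ f = η ≫ f) (D : Set T) (hD : Dense D)
    (hpt : ∀ p ∈ D, T.fromSpecResidueField p ≫ ξ = T.fromSpecResidueField p ≫ η) :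
    ∃ U : T.Opens, (U : Set T).Nonempty ∧ U.ι ≫ ξ = U.ι ≫ η := by
  let T' : Over X := Over.mk (ξ ≫ f)
  let Y' : Over X := Over.mk f
  let ξ' : T' ⟶ Y' := Over.homMk ξ
  let η' : T' ⟶ Y' := Over.homMk η hf.symm
  have himm : IsImmersion (equalizer.ι ξ' η').left :=
    eo_equalizer_ι_left_of_diagonal @IsImmersion
      (inferInstanceAs (IsImmersion (pullback.diagonal f))) ξ' η'
  obtain ⟨e, he⟩ : ∃ e : (equalizer ξ' η').left ⟶ T, e = (equalizer.ι ξ' η').left := ⟨_, rfl⟩
  rw [← he] at himm
  have hcond : e ≫ ξ = e ≫ η := by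
    rw [he]; exact congr($(equalizer.condition ξ' η').left)
  have hDsub : D ⊆ Set.range e := by
    intro p hp
    let P' : Over X := Over.mk (T.fromSpecResidueField p ≫ ξ ≫ f)
    let ι' : P' ⟶ T' := Over.homMk (T.fromSpecResidueField p)
    let l : P' ⟶ equalizer ξ' η' := equalizer.lift ι' (by ext1; exact hpt p hp)
    have hl : l.left ≫ e = T.fromSpecResidueField p := by
      rw [he, ← Over.comp_left, equalizer.lift_ι]; rfl
    refine ⟨l.left (show ↥(Spec (T.residueField p)) from default), ?_⟩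
    rw [← Scheme.Hom.comp_apply, hl, Scheme.fromSpecResidueField_apply]
  have hdense : Dense (Set.range e) := hD.mono hDsub
  have hopen : IsOpen (Set.range e) := by
    obtain ⟨U, Z, hU, hZ, hUZ⟩ := himm.isLocallyClosed_range
    have hZuniv : Z = Set.univ := by
      have h1 : Set.range e ⊆ Z := hUZ ▸ Set.inter_subset_right
      have h2 := hdense.closure_eq
      exact Set.eq_univ_of_univ_subset (h2 ▸ closure_minimal h1 hZ)
    rw [hUZ, hZuniv, Set.inter_univ]; exact hU
  let U : T.Opens := ⟨Set.range e, hopen⟩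
  let e' : (equalizer ξ' η').left ⟶ U :=
    IsOpenImmersion.lift U.ι e (by rw [Scheme.Opens.range_ι]; exact le_rfl)
  have he' : e' ≫ U.ι = e := IsOpenImmersion.lift_fac _ _ _
  haveI : IsPreimmersion (e' ≫ U.ι) := by rw [he']; infer_instance
  haveI : IsPreimmersion e' := IsPreimmersion.of_comp e' U.ι
  have hsurj' : Function.Surjective e' := by
    intro u
    obtain ⟨x, hx⟩ : u.1 ∈ Set.range e := u.2
    refine ⟨x, ?_⟩
    apply U.ι.isOpenEmbedding.injective
    rw [← Scheme.Hom.comp_apply, he', hx]; rfl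
  haveI : IsClosedImmersion e' := IsClosedImmersion.of_isPreimmersion e'
    (by rw [Set.range_eq_univ.mpr hsurj']; exact isClosed_univ)
  haveI : Surjective e' := ⟨hsurj'⟩
  haveI : IsIso e' := isIso_of_isClosedImmersion_of_surjective e'
  refine ⟨U, ?_, ?_⟩
  · haveI : Nonempty T := inferInstance
    exact (hD.nonempty).mono hDsub
  · rw [← cancel_epi e', ← Category.assoc, ← Category.assoc, he']; exact hcond

lemma eo_immersion_iso_of_dense {E T : Scheme.{u}} [IsReduced T] (e : E ⟶ T)
    [himm : IsImmersion e] (hdense : Dense (Set.range e)) :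
    ∃ (U : T.Opens) (e' : E ⟶ U), (U : Set T) = Set.range e ∧ IsIso e' ∧ e' ≫ U.ι = e := by
  have hopen : IsOpen (Set.range e) := by
    obtain ⟨U, Z, hU, hZ, hUZ⟩ := himm.isLocallyClosed_range
    have hZuniv : Z = Set.univ := by
      have h1 : Set.range e ⊆ Z := hUZ ▸ Set.inter_subset_right
      have h2 := hdense.closure_eq
      exact Set.eq_univ_of_univ_subset (h2 ▸ closure_minimal h1 hZ)
    rw [hUZ, hZuniv, Set.inter_univ]; exact hU
  let U : T.Opens := ⟨Set.range e, hopen⟩
  let e' : E ⟶ U :=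
    IsOpenImmersion.lift U.ι e (by rw [Scheme.Opens.range_ι]; exact le_rfl)
  have he' : e' ≫ U.ι = e := IsOpenImmersion.lift_fac _ _ _
  haveI : IsPreimmersion (e' ≫ U.ι) := by rw [he']; infer_instance
  haveI : IsPreimmersion e' := IsPreimmersion.of_comp e' U.ι
  have hsurj' : Function.Surjective e' := by
    intro u
    obtain ⟨x, hx⟩ : u.1 ∈ Set.range e := u.2
    refine ⟨x, ?_⟩
    apply U.ι.isOpenEmbedding.injective
    rw [← Scheme.Hom.comp_apply, he', hx]; rfl
  haveI : IsClosedImmersion e' := IsClosedImmersion.of_isPreimmersion e'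
    (by rw [Set.range_eq_univ.mpr hsurj']; exact isClosed_univ)
  haveI : Surjective e' := ⟨hsurj'⟩
  haveI : IsIso e' := isIso_of_isClosedImmersion_of_surjective e'
  exact ⟨U, e', rfl, inferInstance, he'⟩

lemma eo_immersion_generic_lift {X Y T : Scheme.{u}} [IsIntegral T] (f : Y ⟶ X) [IsImmersion f]
    (s : T ⟶ X) (D : Set T) (hD : Dense D)
    (hpt : ∀ p ∈ D, ∃ l : Spec (T.residueField p) ⟶ Y, l ≫ f = T.fromSpecResidueField p ≫ s) :
    ∃ U : T.Opens, (U : Set T).Nonempty ∧ ∃ l : (U : Scheme.{u}) ⟶ Y, l ≫ f = U.ι ≫ s := by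
  haveI : IsImmersion (pullback.snd f s) := inferInstance
  have hDsub : D ⊆ Set.range (pullback.snd f s) := by
    intro p hp
    obtain ⟨l, hl⟩ := hpt p hp
    refine ⟨pullback.lift l (T.fromSpecResidueField p) hl
      (show ↥(Spec (T.residueField p)) from default), ?_⟩
    rw [← Scheme.Hom.comp_apply, pullback.lift_snd, Scheme.fromSpecResidueField_apply]
  obtain ⟨U, e', hU, hiso, he'⟩ := eo_immersion_iso_of_dense (pullback.snd f s) (hD.mono hDsub)
  refine ⟨U, ?_, inv e' ≫ pullback.fst f s, ?_⟩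
  · rw [hU]; exact hD.nonempty.mono hDsub
  · rw [Category.assoc, pullback.condition, ← he', Category.assoc, IsIso.inv_hom_id_assoc]

lemma eo_immersion_valuative {X Y : Scheme.{u}} (f : Y ⟶ X) [IsImmersion f]
    (S : ValuativeCommSq f)
    (l₀ : Spec (CommRingCat.of (IsLocalRing.ResidueField S.R)) ⟶ Y)
    (hl₀ : l₀ ≫ f = Spec.map (CommRingCat.ofHom (IsLocalRing.residue S.R)) ≫ S.i₂) :
    S.commSq.HasLift := by
  let g : Spec (CommRingCat.of S.K) ⟶ pullback f S.i₂ :=
    pullback.lift S.i₁ (Spec.map (CommRingCat.ofHom (algebraMap S.R S.K))) S.commSq.w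
  let c : Spec (CommRingCat.of (IsLocalRing.ResidueField S.R)) ⟶ pullback f S.i₂ :=
    pullback.lift l₀ (Spec.map (CommRingCat.ofHom (IsLocalRing.residue S.R))) hl₀
  have hdense : Dense (Set.range (pullback.snd f S.i₂)) := by
    have h1 : DenseRange (Spec.map (CommRingCat.ofHom (algebraMap S.R S.K))) := by
      have := (PrimeSpectrum.denseRange_comap_iff_ker_le_nilRadical
        (f := algebraMap S.R S.K)).mpr (by
        rw [(RingHom.injective_iff_ker_eq_bot _).mp (IsFractionRing.injective S.R S.K)]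
        exact bot_le)
      exact this
    refine Dense.mono ?_ h1
    rintro _ ⟨x, rfl⟩
    exact ⟨g x, by rw [← Scheme.Hom.comp_apply, pullback.lift_snd]⟩
  obtain ⟨U, e', hU, hiso, he'⟩ := eo_immersion_iso_of_dense (pullback.snd f S.i₂) hdense
  have hUtop : U = ⊤ := by
    refine (IsLocalRing.closed_point_mem_iff (R := S.R) (U := U)).mp ?_
    show IsLocalRing.closedPoint S.R ∈ (U : Set (Spec (CommRingCat.of S.R)))
    rw [hU]
    refine ⟨c (show ↥(Spec (CommRingCat.of (IsLocalRing.ResidueField S.R))) from default), ?_⟩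
    rw [← Scheme.Hom.comp_apply, pullback.lift_snd, Spec.map_apply]
    exact IsLocalRing.PrimeSpectrum.comap_residue _ _
  haveI : IsIso (pullback.snd f S.i₂) := by
    rw [← he']; subst hUtop
    haveI : IsIso (⊤ : (Spec (CommRingCat.of S.R)).Opens).ι :=
      (Scheme.topIso (Spec (CommRingCat.of S.R))).isIso_hom
    infer_instance
  refine ⟨⟨⟨inv (pullback.snd f S.i₂) ≫ pullback.fst f S.i₂, ?_, ?_⟩⟩⟩
  · haveI : Mono f := inferInstance
    rw [← cancel_mono f, Category.assoc, Category.assoc, pullback.condition,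
      IsIso.inv_hom_id_assoc]
    exact S.commSq.w.symm
  · rw [Category.assoc, pullback.condition, IsIso.inv_hom_id_assoc]

end Groth.Agent.Lib.helper7
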