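import Mathlib
import Groth.Prelude.Def_EtMil

set_option autoImplicit false
universe u
open TensorProduct

namespace Groth.Agent.Lib.helper7

section EtMilLemmas

variable {B' B A' A : Type u} [CommRing B'] [CommRing B] [CommRing A'] [CommRing A]
  [Algebra B' B] [Algebra B' A'] [Algebra B A] [Algebra A' A] [Algebra B' A]
  [IsScalarTower B' B A] [IsScalarTower B' A' A]

theorem etmil_surj (hsq : EtMil.IsFibreSquare B' B A' A) :
    Function.Surjective (algebraMap B' B) := by
  intro b
  obtain ⟨a', ha'⟩ := hsq.1 (algebraMap B A b)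
  obtain ⟨b', ⟨hb1, _⟩, _⟩ := hsq.2 b a' ha'.symm
  exact ⟨b', hb1⟩

theorem etmil_compat (j : B') (hj : algebraMap B' B j = 0) (a' : A') :
    algebraMap B A 0 = algebraMap A' A (a' * algebraMap B' A' j) := by
  have h1 : algebraMap A' A (algebraMap B' A' j) = 0 := by
    rw [← IsScalarTower.algebraMap_apply B' A' A, IsScalarTower.algebraMap_apply B' B A, hj,
      map_zero]
  rw [map_zero, map_mul, h1, mul_zero]

/-- The unique element over `(0, a' * φ j)`. -/
noncomputable def etmilLift (hsq : EtMil.IsFibreSquare B' B A' A) (j : B')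
    (hj : algebraMap B' B j = 0) (a' : A') : B' :=
  (hsq.2 0 (a' * algebraMap B' A' j) (etmil_compat j hj a')).choose

theorem etmilLift_spec1 (hsq : EtMil.IsFibreSquare B' B A' A) (j : B')
    (hj : algebraMap B' B j = 0) (a' : A') :
    algebraMap B' B (etmilLift hsq j hj a') = 0 :=
  (hsq.2 0 (a' * algebraMap B' A' j) (etmil_compat j hj a')).choose_spec.1.1

theorem etmilLift_spec2 (hsq : EtMil.IsFibreSquare B' B A' A) (j : B')
    (hj : algebraMap B' B j = 0) (a' : A') :
    algebraMap B' A' (etmilLift hsq j hj a') = a' * algebraMap B' A' j :=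
  (hsq.2 0 (a' * algebraMap B' A' j) (etmil_compat j hj a')).choose_spec.1.2

theorem etmilLift_unique (hsq : EtMil.IsFibreSquare B' B A' A) (j : B')
    (hj : algebraMap B' B j = 0) (a' : A') (y : B') (h1 : algebraMap B' B y = 0)
    (h2 : algebraMap B' A' y = a' * algebraMap B' A' j) : y = etmilLift hsq j hj a' :=
  (hsq.2 0 (a' * algebraMap B' A' j) (etmil_compat j hj a')).choose_spec.2 y ⟨h1, h2⟩

/-- The `B'`-linear map `A' → B'`, `a' ↦` the unique element over `(0, a' * φ j)`. -/
noncomputable def etmilMu (hsq : EtMil.IsFibreSquare B' B A' A) (j : B')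
    (hj : algebraMap B' B j = 0) : A' →ₗ[B'] B' where
  toFun a' := etmilLift hsq j hj a'
  map_add' x y := by
    symm
    apply etmilLift_unique hsq j hj
    · rw [map_add, etmilLift_spec1, etmilLift_spec1, add_zero]
    · rw [map_add, etmilLift_spec2, etmilLift_spec2, add_mul]
  map_smul' c x := by
    symm
    apply etmilLift_unique hsq j hj
    · rw [RingHom.id_apply, smul_eq_mul, map_mul, etmilLift_spec1, mul_zero]
    · rw [RingHom.id_apply, smul_eq_mul, map_mul, etmilLift_spec2, Algebra.smul_def, mul_assoc]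

theorem etmilMu_one (hsq : EtMil.IsFibreSquare B' B A' A) (j : B')
    (hj : algebraMap B' B j = 0) : etmilMu hsq j hj 1 = j := by
  symm
  apply etmilLift_unique hsq j hj
  · exact hj
  · rw [one_mul]

theorem etmil_smul_eq_zero (hsq : EtMil.IsFibreSquare B' B A' A)
    {L' : Type u} [AddCommGroup L'] [Module B' L'] (l : L')
    (h2 : ((1 : A') ⊗ₜ[B'] l : A' ⊗[B'] L') = 0) (j : B') (hj : algebraMap B' B j = 0) :
    j • l = 0 := by
  have h := congrArg (fun t => TensorProduct.lid B' L' ((etmilMu hsq j hj).rTensor L' t)) h2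
  simpa [etmilMu_one] using h

theorem etmil_mem_ker_smul (hsq : EtMil.IsFibreSquare B' B A' A)
    {L' : Type u} [AddCommGroup L'] [Module B' L'] (l : L')
    (h1 : ((1 : B) ⊗ₜ[B'] l : B ⊗[B'] L') = 0) :
    l ∈ (RingHom.ker (algebraMap B' B)) • (⊤ : Submodule B' L') := by
  have hex : Function.Exact ((RingHom.ker (algebraMap B' B)).subtype : _ →ₗ[B'] B')
      (Algebra.linearMap B' B) := by
    intro y
    constructor
    · intro hy
      exact ⟨⟨y, hy⟩, rfl⟩
    · rintro ⟨x, rfl⟩
      exact x.2
  have hsurj : Function.Surjective (Algebra.linearMap B' B) := etmil_surj hsq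
  have hex2 := rTensor_exact L' hex hsurj
  have h0 : ((Algebra.linearMap B' B).rTensor L') ((1 : B') ⊗ₜ[B'] l) = 0 := by
    rw [LinearMap.rTensor_tmul, Algebra.linearMap_apply, map_one, h1]
  obtain ⟨t, ht⟩ := (hex2 _).mp h0
  have key : ∀ t : (RingHom.ker (algebraMap B' B)) ⊗[B'] L',
      TensorProduct.lid B' L'
        (((RingHom.ker (algebraMap B' B)).subtype : _ →ₗ[B'] B').rTensor L' t) ∈
        (RingHom.ker (algebraMap B' B)) • (⊤ : Submodule B' L') := by
    intro t
    induction t using TensorProduct.induction_on with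
    | zero => simp
    | tmul x y =>
      rw [LinearMap.rTensor_tmul, TensorProduct.lid_tmul]
      exact Submodule.smul_mem_smul x.2 trivial
    | add x y hx hy =>
      rw [map_add, map_add]
      exact Submodule.add_mem _ hx hy
  have := key t
  rw [ht, TensorProduct.lid_tmul, one_smul] at this
  exact this

theorem etmil_subsingleton (hsq : EtMil.IsFibreSquare B' B A' A)
    (L' : Type u) [AddCommGroup L'] [Module B' L']
    [Subsingleton (B ⊗[B'] L')] [Subsingleton (A' ⊗[B'] L')] : Subsingleton L' := by
  refine ⟨fun x y => ?_⟩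
  have h0 : ∀ l : L', l = 0 := by
    intro l
    have hl := etmil_mem_ker_smul hsq l (Subsingleton.elim _ _)
    refine Submodule.smul_induction_on hl ?_ ?_
    · intro j hj x _
      exact etmil_smul_eq_zero hsq x (Subsingleton.elim _ _) j hj
    · intro x y hx hy
      rw [hx, hy, add_zero]
  rw [h0 x, h0 y]

end EtMilLemmas

end Groth.Agent.Lib.helper7
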