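import Mathlib
import Groth.Prelude.Def_W4c1chowmix47Eta
import Groth.Agent.Lib.helper7.EtaPt
import Groth.Agent.Lib.helper7.EtaPt2

set_option autoImplicit false

namespace Groth.Agent.Lib.helper7

open EtaPt

universe u

section EtaPtVal

variable (η : EtaPt.FieldEndo.{u})

theorem ep_map_phi {A B : Type u} [CommRing A] [CommRing B] (f : A →+* B) (q : PrimeSpectrum B)
    (p : PrimeSpectrum A) (h : p.asIdeal = q.asIdeal.comap f) (a : A) :
    η.map (Ideal.ResidueField.map p.asIdeal q.asIdeal f h) (ep_phi η p a) = ep_phi η q (f a) := by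
  show η.map (Ideal.ResidueField.map p.asIdeal q.asIdeal f h)
    (η.eta _ (algebraMap A p.asIdeal.ResidueField a)) =
    η.eta _ (algebraMap B q.asIdeal.ResidueField (f a))
  rw [← Ideal.ResidueField.map_algebraMap p.asIdeal q.asIdeal f h a]
  exact RingHom.congr_fun (η.eta_natural _) _

theorem ep_mem_M_of_pow {A : Type u} [CommRing A] (p : ℕ) (hp : p.Prime) (hpA : (p : A) = 0)
    (n : ℕ) (c : A) (x : η.N A) (hx : ∀ q : PrimeSpectrum A, x q ^ p ^ n = ep_phi η q c) :
    x ∈ η.M A := by
  intro R _ _ _ hR g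
  have hpR : (p : R) = 0 := by rw [← map_natCast g, hpA, map_zero]
  have hexp : ∀ q₁ : PrimeSpectrum R, ExpChar (η.obj q₁.asIdeal.ResidueField) p := by
    intro q₁
    haveI : CharP (η.obj q₁.asIdeal.ResidueField) p := by
      apply (CharP.charP_iff_prime_eq_zero hp).mpr
      rw [← map_natCast (ep_phi η q₁), hpR, map_zero]
    exact ExpChar.prime hp
  have hL : Function.Bijective (η.eta (ep_bot R).asIdeal.ResidueField) :=
    ep_bijective_eta_of_InV η R _ hR
  have hker : (PrimeSpectrum.comap g (ep_bot R)).asIdeal = (ep_bot R).asIdeal.comap g := rfl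
  obtain ⟨ℓ, hℓ⟩ := hL.2 (η.Nmap g x (ep_bot R))
  have hℓpow : ℓ ^ p ^ n = algebraMap R (ep_bot R).asIdeal.ResidueField (g c) := by
    apply hL.1
    have e : η.eta (ep_bot R).asIdeal.ResidueField
        (algebraMap R (ep_bot R).asIdeal.ResidueField (g c)) = ep_phi η (ep_bot R) (g c) := rfl
    rw [e, map_pow, hℓ,
      ep_Nmap_apply_of_eq η g x (ep_bot R) (PrimeSpectrum.comap g (ep_bot R)) hker,
      ← map_pow, hx, ep_map_phi]
  have hint : IsIntegral R ℓ := by
    apply IsIntegral.of_pow (pow_pos hp.pos n)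
    rw [hℓpow]
    exact isIntegral_algebraMap
  obtain ⟨r, hr⟩ := IsIntegrallyClosed.isIntegral_iff.mp hint
  have hrpow : r ^ p ^ n = g c := by
    apply IsFractionRing.injective R (ep_bot R).asIdeal.ResidueField
    rw [map_pow, hr, hℓpow]
  refine RingHom.mem_range.mpr ⟨r, funext fun q₁ => ?_⟩
  haveI := hexp q₁
  have hq₁ : (PrimeSpectrum.comap g q₁).asIdeal = q₁.asIdeal.comap g := rfl
  rw [ep_Nmap_apply_of_eq η g x q₁ (PrimeSpectrum.comap g q₁) hq₁]
  apply iterateFrobenius_inj (η.obj q₁.asIdeal.ResidueField) p n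
  rw [iterateFrobenius_def, iterateFrobenius_def, ← map_pow, hx, ep_map_phi]
  show ep_phi η q₁ r ^ p ^ n = ep_phi η q₁ (g c)
  rw [← map_pow, hrpow]

theorem ep_isIntegralElem_of_pow {A S : Type*} [CommRing A] [CommRing S] (φ : A →+* S) (y : S)
    (N : ℕ) (hN : N ≠ 0) (r : A) (h : y ^ N = φ r) : φ.IsIntegralElem y := by
  refine ⟨Polynomial.X ^ N - Polynomial.C r, Polynomial.monic_X_pow_sub_C r hN, ?_⟩
  rw [Polynomial.eval₂_sub, Polynomial.eval₂_pow, Polynomial.eval₂_X, Polynomial.eval₂_C, h,
    sub_self]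

theorem ep_ev_injOn (A : Type u) [CommRing A] [IsDomain A] {x y : η.N A} (hx : x ∈ η.M A)
    (hy : y ∈ η.M A) (hxy : x (ep_bot A) = y (ep_bot A)) : x = y := by
  have hz : x - y ∈ η.M A := Subring.sub_mem _ hx hy
  have h0 : (x - y) (ep_bot A) = 0 := by
    show x (ep_bot A) - y (ep_bot A) = 0
    exact sub_eq_zero.mpr hxy
  have h1 : x - y = 0 := by
    funext p'
    exact ep_eq_zero_of_le η hz (ep_bot A) p' bot_le h0
  exact sub_eq_zero.mp h1

theorem ep_exists_of_isIntegralElem (R : Type u) [CommRing R] [IsDomain R] [ValuationRing R]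
    (hη : η.InV R ∨ ∀ (k : Type u) [Field k], ringChar k = ringChar R →
      Function.Bijective (η.eta k) → PerfectField k)
    (y : η.obj (ep_bot R).asIdeal.ResidueField)
    (hy : (ep_phi η (ep_bot R)).IsIntegralElem y) :
    ∃ x ∈ η.M R, x (ep_bot R) = y := by
  have caseA : Function.Surjective (η.eta (ep_bot R).asIdeal.ResidueField) →
      ∃ x ∈ η.M R, x (ep_bot R) = y := by
    intro hsurj
    obtain ⟨ℓ, hℓ⟩ := hsurj y
    obtain ⟨P, hPm, hP⟩ := hy
    have hint : IsIntegral R ℓ := by
      refine ⟨P, hPm, ?_⟩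
      apply (η.eta (ep_bot R).asIdeal.ResidueField).injective
      rw [map_zero, Polynomial.hom_eval₂, hℓ]
      exact hP
    obtain ⟨r, hr⟩ := IsIntegrallyClosed.isIntegral_iff.mp hint
    refine ⟨η.t R r, η.t_mem_M R r, ?_⟩
    rw [ep_t_apply, hr, hℓ]
  rcases hη with hInV | hperf
  · exact caseA (ep_bijective_eta_of_InV η R _ hInV).2
  · rcases expChar_is_prime_or_one (ep_bot R).asIdeal.ResidueField
      (ringExpChar (ep_bot R).asIdeal.ResidueField) with hprime | hone
    · obtain ⟨n, c₀, hc₀⟩ := η.exists_pow_mem_range_eta (ep_bot R).asIdeal.ResidueField y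
      have hpc : ringChar (ep_bot R).asIdeal.ResidueField =
          ringExpChar (ep_bot R).asIdeal.ResidueField := by
        rcases le_total (ringChar (ep_bot R).asIdeal.ResidueField) 1 with h | h
        · exfalso
          have h3 : ringExpChar (ep_bot R).asIdeal.ResidueField = 1 := max_eq_right h
          rw [h3] at hprime
          exact Nat.not_prime_one hprime
        · exact (max_eq_left h).symm
      obtain ⟨p, hpdef⟩ : ∃ p, p = ringExpChar (ep_bot R).asIdeal.ResidueField := ⟨_, rfl⟩
      rw [← hpdef] at hc₀ hprime hpc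
      haveI hCK : CharP (ep_bot R).asIdeal.ResidueField p := ringChar.of_eq hpc
      have hpR : (p : R) = 0 := by
        apply IsFractionRing.injective R (ep_bot R).asIdeal.ResidueField
        rw [map_natCast, map_zero]
        exact CharP.cast_eq_zero _ p
      have hcharR : ringChar R = p := CharP.ringChar_of_prime_eq_zero hprime hpR
      have hp0 : ∀ q : PrimeSpectrum R, ((p : ℕ) : η.obj q.asIdeal.ResidueField) = 0 := by
        intro q
        rw [← map_natCast (ep_phi η q), hpR, map_zero]
      have hexp : ∀ q : PrimeSpectrum R, ExpChar (η.obj q.asIdeal.ResidueField) p := by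
        intro q
        haveI : CharP (η.obj q.asIdeal.ResidueField) p :=
          (CharP.charP_iff_prime_eq_zero hprime).mpr (hp0 q)
        exact ExpChar.prime hprime
      have hypow : (ep_phi η (ep_bot R)).IsIntegralElem (y ^ p ^ n) := by
        letI := (ep_phi η (ep_bot R)).toAlgebra
        exact IsIntegral.pow (R := R) hy (p ^ n)
      obtain ⟨P, hPm, hP⟩ := hypow
      have hint : IsIntegral R c₀ := by
        refine ⟨P, hPm, ?_⟩
        apply (η.eta (ep_bot R).asIdeal.ResidueField).injective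
        rw [map_zero, Polynomial.hom_eval₂, hc₀]
        exact hP
      obtain ⟨c, hc⟩ := IsIntegrallyClosed.isIntegral_iff.mp hint
      have hroot : ∀ q : PrimeSpectrum R, ∃ xq : η.obj q.asIdeal.ResidueField,
          xq ^ p ^ n = ep_phi η q c := by
        intro q
        haveI := hexp q
        haveI : PerfectField (η.obj q.asIdeal.ResidueField) :=
          hperf _ ((CharP.ringChar_of_prime_eq_zero hprime (hp0 q)).trans hcharR.symm)
            (ep_bijective_eta_obj η _)
        obtain ⟨a, ha⟩ :=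
          (bijective_iterateFrobenius (η.obj q.asIdeal.ResidueField) p n).2 (ep_phi η q c)
        refine ⟨a, ?_⟩
        rw [← iterateFrobenius_def]
        exact ha
      choose x hx using hroot
      refine ⟨x, ep_mem_M_of_pow η p hprime hpR n c x hx, ?_⟩
      haveI := hexp (ep_bot R)
      apply iterateFrobenius_inj (η.obj (ep_bot R).asIdeal.ResidueField) p n
      rw [iterateFrobenius_def, iterateFrobenius_def, hx, ← hc₀, ← hc]
      rfl
    · apply caseA
      intro z
      obtain ⟨m, d, hd⟩ := η.exists_pow_mem_range_eta (ep_bot R).asIdeal.ResidueField z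
      rw [hone, one_pow, pow_one] at hd
      exact ⟨d, hd⟩

theorem ep_val_dichotomy (R : Type u) [CommRing R] [IsDomain R] [ValuationRing R]
    (hη : η.InV R ∨ ∀ (k : Type u) [Field k], ringChar k = ringChar R →
      Function.Bijective (η.eta k) → PerfectField k)
    (y : η.obj (ep_bot R).asIdeal.ResidueField) :
    (∃ z ∈ η.M R, z (ep_bot R) = y) ∨ (y ≠ 0 ∧ ∃ z ∈ η.M R, z (ep_bot R) = y⁻¹) := by
  obtain ⟨n, c₀, hc₀⟩ := η.exists_pow_mem_range_eta (ep_bot R).asIdeal.ResidueField y
  have hN : ringExpChar (ep_bot R).asIdeal.ResidueField ^ n ≠ 0 :=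
    (pow_pos (expChar_pos (ep_bot R).asIdeal.ResidueField _) n).ne'
  have hleft : ∀ r : R, algebraMap R (ep_bot R).asIdeal.ResidueField r = c₀ →
      ∃ z ∈ η.M R, z (ep_bot R) = y := by
    intro r hr
    apply ep_exists_of_isIntegralElem η R hη y
    apply ep_isIntegralElem_of_pow (ep_phi η (ep_bot R)) y _ hN r
    rw [← hc₀, ← hr]
    rfl
  rcases ValuationRing.isInteger_or_isInteger R c₀ with ⟨r, hr⟩ | ⟨s, hs⟩
  · exact Or.inl (hleft r hr)
  · by_cases hc0 : c₀ = 0
    · exact Or.inl (hleft 0 (by rw [map_zero, hc0]))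
    · have hy0 : y ≠ 0 := by
        intro h
        rw [h, zero_pow hN] at hc₀
        exact hc0 ((map_eq_zero _).mp hc₀)
      refine Or.inr ⟨hy0, ?_⟩
      apply ep_exists_of_isIntegralElem η R hη y⁻¹
      apply ep_isIntegralElem_of_pow (ep_phi η (ep_bot R)) y⁻¹ _ hN s
      rw [inv_pow, ← hc₀, ← map_inv₀, ← hs]
      rfl

end EtaPtVal

end Groth.Agent.Lib.helper7
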