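import Mathlib
import Groth.Prelude.Def_W4c1chowmix47Eta
import Groth.Agent.Lib.helper7.EtaPt
import Groth.Agent.Lib.helper7.EtaPt2

set_option autoImplicit false

namespace Groth.Agent.Lib.helper7

open EtaPt

universe u

section EtaPtRel

variable (η : EtaPt.FieldEndo.{u})

theorem ep_Nmap_injective_of_comap_surjective {A B : Type u} [CommRing A] [CommRing B]
    (f : A →+* B) (hs : Function.Surjective (PrimeSpectrum.comap f)) :
    Function.Injective (η.Nmap f) := by
  intro x x' h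
  funext p
  obtain ⟨Q, rfl⟩ := hs p
  have h2 := congrFun h Q
  exact (η.map (Ideal.ResidueField.map (PrimeSpectrum.comap f Q).asIdeal Q.asIdeal f rfl)).injective
    h2

theorem ep_isNilpotent_of_t_eq_zero {B : Type u} [CommRing B] (b : B) (hb : η.t B b = 0) :
    IsNilpotent b := by
  rw [nilpotent_iff_mem_prime]
  intro J hJ
  have h1 : ep_phi η (⟨J, hJ⟩ : PrimeSpectrum B) b = 0 := congrFun hb ⟨J, hJ⟩
  exact (ep_phi_eq_zero_iff η ⟨J, hJ⟩ b).mp h1

theorem ep_exists_relTheta {A B : Type u} [CommRing A] [CommRing B] (f : A →+* B)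
    (hs : Function.Surjective (PrimeSpectrum.comap f)) :
    ∃ θ : η.rel f →+* η.M A,
      (∀ b : η.rel f, η.Nmap f ((θ b : η.M A) : η.N A) = η.t B (b : B)) ∧
        θ.comp (η.qRel f) = η.q A := by
  have hinj := ep_Nmap_injective_of_comap_surjective η f hs
  obtain ⟨θ, hθ⟩ := ep_exists_factor ((η.Nmap f).comp (η.M A).subtype)
    (fun x y h => Subtype.ext (hinj h))
    ((η.t B).comp (η.rel f).subtype) (fun b => by
      obtain ⟨x, hx, hxb⟩ := b.2
      exact ⟨⟨x, hx⟩, hxb⟩)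
  refine ⟨θ, hθ, ?_⟩
  apply RingHom.ext
  intro a
  apply Subtype.ext
  apply hinj
  exact (hθ (η.qRel f a)).trans (η.Nmap_t_apply f a).symm

theorem ep_Nmap_bijective_of {A B : Type u} [CommRing A] [CommRing B] (g : A →+* B)
    (hbij0 : Function.Bijective (PrimeSpectrum.comap g))
    (hres : ∀ Q : PrimeSpectrum B,
      ∃ φ : Q.asIdeal.ResidueField →+* η.obj (PrimeSpectrum.comap g Q).asIdeal.ResidueField,
        φ.comp (Ideal.ResidueField.map (PrimeSpectrum.comap g Q).asIdeal Q.asIdeal g rfl) =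
          η.eta (PrimeSpectrum.comap g Q).asIdeal.ResidueField) :
    Function.Bijective (η.Nmap g) := by
  obtain ⟨hinj, hsurj⟩ := hbij0
  have hbij : ∀ Q : PrimeSpectrum B, Function.Bijective
      (η.map (Ideal.ResidueField.map (PrimeSpectrum.comap g Q).asIdeal Q.asIdeal g rfl)) := by
    intro Q
    obtain ⟨φ, hφ⟩ := hres Q
    refine ⟨RingHom.injective _, ?_⟩
    have h1 : (η.map φ).comp (η.map (Ideal.ResidueField.map
        (PrimeSpectrum.comap g Q).asIdeal Q.asIdeal g rfl)) = η.map (η.eta _) := by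
      rw [← η.map_comp, hφ]
    intro y
    obtain ⟨z, hz⟩ := (η.bijective_map_eta _).2 (η.map φ y)
    refine ⟨z, (η.map φ).injective ?_⟩
    rw [← RingHom.comp_apply, h1, hz]
  constructor
  · intro x x' h
    funext p
    obtain ⟨Q, rfl⟩ := hsurj p
    have h2 := congrFun h Q
    exact (hbij Q).1 h2
  · intro y
    have hex : ∀ p : PrimeSpectrum A, ∃ xp : η.obj p.asIdeal.ResidueField,
        ∀ (Q : PrimeSpectrum B) (hQ : p = PrimeSpectrum.comap g Q),
          η.map (Ideal.ResidueField.map (PrimeSpectrum.comap g Q).asIdeal Q.asIdeal g rfl)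
            (hQ ▸ xp) = y Q := by
      intro p
      obtain ⟨Q₀, rfl⟩ := hsurj p
      obtain ⟨z, hz⟩ := (hbij Q₀).2 (y Q₀)
      refine ⟨z, ?_⟩
      intro Q hQ
      have hQQ : Q₀ = Q := hinj hQ
      subst hQQ
      exact hz
    choose x hx using hex
    exact ⟨x, funext fun Q => hx _ Q rfl⟩

theorem ep_rel_main {A B : Type u} [CommRing A] [CommRing B] (f : A →+* B)
    (hs : Function.Surjective (PrimeSpectrum.comap f)) (hq : (η.q A).IsIntegral)
    (hq3 : Function.Bijective (PrimeSpectrum.comap (η.q A))) :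
    ∃ θ : η.rel f →+* η.M A,
      (∀ b : η.rel f, η.Nmap f ((θ b : η.M A) : η.N A) = η.t B (b : B)) ∧
        θ.comp (η.qRel f) = η.q A ∧ (η.qRel f).IsIntegral ∧
          Function.Bijective (PrimeSpectrum.comap (η.qRel f)) ∧
            ∀ Q : PrimeSpectrum (η.rel f), ∃ Q' : PrimeSpectrum (η.M A),
              PrimeSpectrum.comap θ Q' = Q := by
  obtain ⟨θ, hθ, hθq⟩ := ep_exists_relTheta η f hs
  obtain ⟨hqinj, hqsurj⟩ := hq3
  have hnil : ∀ b : η.rel f, θ b = 0 → IsNilpotent b := by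
    intro b hb
    have h1 : η.t B (b : B) = 0 := by
      rw [← hθ b, hb]
      exact map_zero _
    obtain ⟨m, hm⟩ := ep_isNilpotent_of_t_eq_zero η (b : B) h1
    exact ⟨m, Subtype.ext hm⟩
  have hint : (η.qRel f).IsIntegral := by
    intro b
    obtain ⟨P, hPm, hP⟩ := hq (θ b)
    rw [← hθq, ← Polynomial.hom_eval₂] at hP
    obtain ⟨m, hm⟩ := hnil _ hP
    refine ⟨P ^ m, hPm.pow m, ?_⟩
    rw [Polynomial.eval₂_pow, hm]
  have hθint : θ.IsIntegral := RingHom.IsIntegral.tower_top (η.qRel f) θ (by rw [hθq]; exact hq)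
  have hlift : ∀ Q : PrimeSpectrum (η.rel f), ∃ Q' : PrimeSpectrum (η.M A),
      PrimeSpectrum.comap θ Q' = Q := by
    intro Q
    letI := θ.toAlgebra
    haveI : Algebra.IsIntegral (η.rel f) (η.M A) := ⟨hθint⟩
    have hker : (⊥ : Ideal (η.M A)).comap (algebraMap (η.rel f) (η.M A)) ≤ Q.asIdeal := by
      intro b hb
      have hb0 : θ b = 0 := (Ideal.mem_bot).mp (Ideal.mem_comap.mp hb)
      obtain ⟨m, hm⟩ := hnil b hb0
      apply Q.isPrime.mem_of_pow_mem m
      rw [hm]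
      exact Q.asIdeal.zero_mem
    obtain ⟨Q', -, hQ'p, hQ'⟩ := Ideal.exists_ideal_over_prime_of_isIntegral Q.asIdeal
      (⊥ : Ideal (η.M A)) hker
    exact ⟨⟨Q', hQ'p⟩, PrimeSpectrum.ext hQ'⟩
  have hcomp : ∀ Q' : PrimeSpectrum (η.M A), PrimeSpectrum.comap (η.q A) Q' =
      PrimeSpectrum.comap (η.qRel f) (PrimeSpectrum.comap θ Q') := by
    intro Q'
    apply PrimeSpectrum.ext
    show Q'.asIdeal.comap (η.q A) = (Q'.asIdeal.comap θ).comap (η.qRel f)
    rw [Ideal.comap_comap, hθq]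
  refine ⟨θ, hθ, hθq, hint, ⟨?_, ?_⟩, hlift⟩
  · intro Q₁ Q₂ h
    obtain ⟨Q₁', h₁⟩ := hlift Q₁
    obtain ⟨Q₂', h₂⟩ := hlift Q₂
    have h3 : PrimeSpectrum.comap (η.q A) Q₁' = PrimeSpectrum.comap (η.q A) Q₂' := by
      rw [hcomp, hcomp, h₁, h₂, h]
    rw [← h₁, ← h₂, hqinj h3]
  · intro p
    obtain ⟨Q, hQ⟩ := hqsurj p
    exact ⟨PrimeSpectrum.comap θ Q, by rw [← hcomp, hQ]⟩

end EtaPtRel

end Groth.Agent.Lib.helper7
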