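import Mathlib
import Groth.Prelude.Def_W4c1chowmix47Eta
import Groth.Agent.Lib.helper7.EtaPt
import Groth.Agent.Lib.helper7.EtaPt2
import Groth.Agent.Lib.helper7.EtaPt5

set_option autoImplicit false

namespace Groth.Agent.Lib.helper7

open EtaPt

universe u

section EtaPtAway

variable (η : EtaPt.FieldEndo.{u})

theorem ep_finite_minimalPrimes_away {A : Type u} [CommRing A] (hA : (minimalPrimes A).Finite)
    (f : A) : (minimalPrimes (Localization.Away f)).Finite := by
  have h1 : minimalPrimes (Localization.Away f) = Ideal.under A ⁻¹' minimalPrimes A := by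
    have h2 := IsLocalization.minimalPrimes_map (Submonoid.powers f) (Localization.Away f)
      (⊥ : Ideal A)
    rw [Ideal.map_bot] at h2
    exact h2
  rw [h1]
  apply Set.Finite.preimage _ hA
  apply Set.injOn_of_injective
  intro I J hIJ
  have hI := IsLocalization.map_comap (Submonoid.powers f) (Localization.Away f) I
  have hJ := IsLocalization.map_comap (Submonoid.powers f) (Localization.Away f) J
  rw [← hI, ← hJ]
  exact congrArg (Ideal.map (algebraMap A (Localization.Away f))) hIJ

theorem ep_away_mem {A : Type u} [CommRing A] (f : A)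
    (hq' : (η.q (Localization.Away f)).IsIntegral)
    (y : η.N (Localization.Away f)) (hy : y ∈ η.M (Localization.Away f))
    (x₀ : η.N A) (n₀ : ℕ)
    (hx₀ : y * η.t (Localization.Away f) (algebraMap A (Localization.Away f) f) ^ n₀ =
      η.Nmap (algebraMap A (Localization.Away f)) x₀) :
    ∃ k : ℕ, η.t A f ^ (k + 1) * x₀ ∈ η.M A := by
  letI alg1 : Algebra (Localization.Away f) (η.M (Localization.Away f)) :=
    (η.q (Localization.Away f)).toAlgebra
  letI alg2 : Algebra A (η.M (Localization.Away f)) :=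
    ((η.q (Localization.Away f)).comp (algebraMap A (Localization.Away f))).toAlgebra
  haveI : IsScalarTower A (Localization.Away f) (η.M (Localization.Away f)) :=
    IsScalarTower.of_algebraMap_eq (fun _ => rfl)
  obtain ⟨⟨m, hm⟩, hmint⟩ := IsIntegral.exists_multiple_integral_of_isLocalization
    (Submonoid.powers f) (⟨y, hy⟩ : η.M (Localization.Away f)) (hq' ⟨y, hy⟩)
  obtain ⟨k, rfl⟩ := (Submonoid.mem_powers_iff _ _).mp hm
  obtain ⟨PA, hPAm, hPA⟩ := hmint
  refine ⟨k, ?_⟩
  intro R _ _ _ hR g
  by_cases hgf : g f = 0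
  · refine RingHom.mem_range.mpr ⟨0, ?_⟩
    rw [map_zero, map_mul, map_pow, η.Nmap_t_apply, hgf, map_zero, zero_pow (Nat.succ_ne_zero k),
      zero_mul]
  · have hJ : Function.Injective (algebraMap R (ep_bot R).asIdeal.ResidueField) :=
      IsFractionRing.injective R (ep_bot R).asIdeal.ResidueField
    have perq : ∀ q : PrimeSpectrum R, g f ∉ q.asIdeal →
        ∃ (V : ValuationSubring (ep_bot R).asIdeal.ResidueField)
          (hV : ∀ r, algebraMap R (ep_bot R).asIdeal.ResidueField r ∈ V) (r₁ : R),
          q.asIdeal = (IsLocalRing.closedPoint ↥V).asIdeal.comap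
            ((algebraMap R (ep_bot R).asIdeal.ResidueField).codRestrict V hV) ∧
          η.Nmap ((algebraMap R (ep_bot R).asIdeal.ResidueField).codRestrict V hV)
            (η.Nmap g (η.t A f ^ (k + 1) * x₀)) =
            η.Nmap ((algebraMap R (ep_bot R).asIdeal.ResidueField).codRestrict V hV)
              (η.t R (g f ^ (n₀ + 1) * r₁)) := by
      intro q hq0
      obtain ⟨V, hV, hq⟩ := ep_exists_valuation_over
        (algebraMap R (ep_bot R).asIdeal.ResidueField) hJ q
      suffices hsuff : ∀ h : R →+* ↥V,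
          (∀ r : R, ((h r : ↥V) : (ep_bot R).asIdeal.ResidueField) =
            algebraMap R (ep_bot R).asIdeal.ResidueField r) →
          q.asIdeal = (IsLocalRing.closedPoint ↥V).asIdeal.comap h →
          ∃ r₁ : R, η.Nmap h (η.Nmap g (η.t A f ^ (k + 1) * x₀)) =
            η.Nmap h (η.t R (g f ^ (n₀ + 1) * r₁)) by
        obtain ⟨r₁, hr₁⟩ := hsuff _ (fun r => rfl) hq
        exact ⟨V, hV, r₁, hq, hr₁⟩
      intro h hhJ hq
      have hunit : IsUnit ((h.comp g) f) := by
        rw [← IsLocalRing.notMem_maximalIdeal]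
        intro hmem
        apply hq0
        rw [hq, Ideal.mem_comap]
        exact hmem
      obtain ⟨gV, hgV⟩ : ∃ gV : Localization.Away f →+* ↥V,
          gV.comp (algebraMap A (Localization.Away f)) = h.comp g :=
        ⟨IsLocalization.Away.lift f hunit, IsLocalization.Away.lift_comp f hunit⟩
      have hInV : η.InV ↥V := ep_InV_of_isFractionRing η ↥V (ep_bot R).asIdeal.ResidueField
        (ep_bijective_eta_of_InV η R (ep_bot R).asIdeal.ResidueField hR)
      obtain ⟨ρ, hρ, hρq⟩ := ep_exists_rho η hInV gV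
      have hgVf : gV (algebraMap A (Localization.Away f) f) = h (g f) := RingHom.congr_fun hgV f
      have ha : η.Nmap (h.comp g) x₀ = η.t ↥V (ρ ⟨y, hy⟩ * h (g f) ^ n₀) := by
        have s1 : η.Nmap (h.comp g) x₀ =
            η.Nmap gV (η.Nmap (algebraMap A (Localization.Away f)) x₀) := by
          rw [← hgV, ep_Nmap_comp]
          rfl
        have s2 : η.Nmap gV (y * η.t (Localization.Away f)
            (algebraMap A (Localization.Away f) f) ^ n₀) =
            η.Nmap gV y * η.Nmap gV (η.t (Localization.Away f)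
              (algebraMap A (Localization.Away f) f)) ^ n₀ := by
          rw [map_mul, map_pow]
        have s3 : η.Nmap gV y = η.t ↥V (ρ ⟨y, hy⟩) := (hρ ⟨y, hy⟩).symm
        have s4 : η.Nmap gV (η.t (Localization.Away f) (algebraMap A (Localization.Away f) f)) =
            η.t ↥V (h (g f)) := by
          rw [η.Nmap_t_apply, hgVf]
        have s5 : η.t ↥V (ρ ⟨y, hy⟩ * h (g f) ^ n₀) =
            η.t ↥V (ρ ⟨y, hy⟩) * η.t ↥V (h (g f)) ^ n₀ := by
          rw [map_mul, map_pow]
        rw [s1, ← hx₀, s2, s3, s4, s5]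
      have hb : η.Nmap h (η.Nmap g (η.t A f ^ (k + 1) * x₀)) =
          η.t ↥V (h (g f) ^ (k + 1) * (ρ ⟨y, hy⟩ * h (g f) ^ n₀)) := by
        have s1 : η.Nmap h (η.Nmap g (η.t A f ^ (k + 1) * x₀)) =
            η.Nmap (h.comp g) (η.t A f ^ (k + 1) * x₀) := by
          rw [ep_Nmap_comp]
          rfl
        have s2 : η.Nmap (h.comp g) (η.t A f ^ (k + 1) * x₀) =
            η.Nmap (h.comp g) (η.t A f) ^ (k + 1) * η.Nmap (h.comp g) x₀ := by
          rw [map_mul, map_pow]
        have s3 : η.Nmap (h.comp g) (η.t A f) = η.t ↥V (h (g f)) := η.Nmap_t_apply (h.comp g) f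
        have s4 : η.t ↥V (h (g f) ^ (k + 1) * (ρ ⟨y, hy⟩ * h (g f) ^ n₀)) =
            η.t ↥V (h (g f)) ^ (k + 1) * η.t ↥V (ρ ⟨y, hy⟩ * h (g f) ^ n₀) := by
          rw [map_mul, map_pow]
        rw [s1, s2, s3, ha, s4]
      have hz : ρ ((⟨f ^ k, hm⟩ : Submonoid.powers f) • (⟨y, hy⟩ : η.M (Localization.Away f))) =
          h (g f) ^ k * ρ ⟨y, hy⟩ := by
        rw [Submonoid.smul_def, Algebra.smul_def, map_mul]
        congr 1
        show ρ (η.q (Localization.Away f) (algebraMap A (Localization.Away f) (f ^ k))) =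
          h (g f) ^ k
        have e : ρ (η.q (Localization.Away f) (algebraMap A (Localization.Away f) (f ^ k))) =
            gV (algebraMap A (Localization.Away f) (f ^ k)) := RingHom.congr_fun hρq _
        rw [e, map_pow, map_pow, hgVf]
      have hint : IsIntegral R (algebraMap ↥V (ep_bot R).asIdeal.ResidueField
          (ρ ((⟨f ^ k, hm⟩ : Submonoid.powers f) • (⟨y, hy⟩ : η.M (Localization.Away f))))) := by
        refine ⟨PA.map g, hPAm.map g, ?_⟩
        rw [Polynomial.eval₂_map]
        have hc : (algebraMap R (ep_bot R).asIdeal.ResidueField).comp g =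
            (algebraMap ↥V (ep_bot R).asIdeal.ResidueField).comp
              (ρ.comp (algebraMap A (η.M (Localization.Away f)))) := by
          apply RingHom.ext
          intro a
          show algebraMap R (ep_bot R).asIdeal.ResidueField (g a) =
            ((ρ (η.q (Localization.Away f) (algebraMap A (Localization.Away f) a)) : ↥V) :
              (ep_bot R).asIdeal.ResidueField)
          have e : ρ (η.q (Localization.Away f) (algebraMap A (Localization.Away f) a)) =
              gV (algebraMap A (Localization.Away f) a) := RingHom.congr_fun hρq _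
          have e2 : gV (algebraMap A (Localization.Away f) a) = h (g a) :=
            RingHom.congr_fun hgV a
          rw [e, e2, hhJ]
        rw [hc, ← Polynomial.hom_eval₂, ← Polynomial.hom_eval₂, hPA, map_zero, map_zero]
      obtain ⟨r₁, hr₁⟩ := IsIntegrallyClosed.isIntegral_iff.mp hint
      have hr₁' : h r₁ = h (g f) ^ k * ρ ⟨y, hy⟩ := by
        rw [← hz]
        apply Subtype.ext
        rw [hhJ]
        exact hr₁
      refine ⟨r₁, ?_⟩
      have e : h (g f ^ (n₀ + 1) * r₁) =
          h (g f) ^ (k + 1) * (ρ ⟨y, hy⟩ * h (g f) ^ n₀) := by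
        rw [map_mul, map_pow, hr₁']
        ring
      rw [hb, η.Nmap_t_apply, e]
    have hbot : g f ∉ (ep_bot R).asIdeal := fun hmem => hgf (Ideal.mem_bot.mp hmem)
    obtain ⟨V₀, hV₀, r₁, hq₀, hN₀⟩ := perq (ep_bot R) hbot
    refine RingHom.mem_range.mpr ⟨g f ^ (n₀ + 1) * r₁, funext fun q => ?_⟩
    have gen : ∀ (V : ValuationSubring (ep_bot R).asIdeal.ResidueField)
        (hV : ∀ r, algebraMap R (ep_bot R).asIdeal.ResidueField r ∈ V) (Y Y' : η.N R),
        η.Nmap ((algebraMap R (ep_bot R).asIdeal.ResidueField).codRestrict V hV) Y =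
          η.Nmap ((algebraMap R (ep_bot R).asIdeal.ResidueField).codRestrict V hV) Y' →
        Y (ep_bot R) = Y' (ep_bot R) := by
      intro V hV Y Y' hYY
      have hker : (ep_bot R).asIdeal = (ep_bot ↥V).asIdeal.comap
          ((algebraMap R (ep_bot R).asIdeal.ResidueField).codRestrict V hV) := by
        ext a
        rw [Ideal.mem_comap]
        show a ∈ (⊥ : Ideal R) ↔
          (algebraMap R (ep_bot R).asIdeal.ResidueField).codRestrict V hV a ∈ (⊥ : Ideal ↥V)
        rw [Ideal.mem_bot, Ideal.mem_bot]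
        constructor
        · intro h
          rw [h, map_zero]
        · intro h
          apply hJ
          rw [map_zero]
          exact congrArg Subtype.val h
      have h1 := congrFun hYY (ep_bot ↥V)
      rw [ep_Nmap_apply_of_eq η _ Y _ (ep_bot R) hker,
        ep_Nmap_apply_of_eq η _ Y' _ (ep_bot R) hker] at h1
      exact (η.map _).injective h1
    by_cases hq0 : g f ∈ q.asIdeal
    · have hL : η.t R (g f ^ (n₀ + 1) * r₁) q = 0 :=
        (ep_phi_eq_zero_iff η q _).mpr
          (q.asIdeal.mul_mem_right _ (Ideal.pow_mem_of_mem _ hq0 _ (Nat.succ_pos _)))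
      have hR0 : η.t R (g f) q = 0 := (ep_phi_eq_zero_iff η q _).mpr hq0
      rw [hL, map_mul, map_pow, η.Nmap_t_apply]
      show 0 = (η.t R (g f) q) ^ (k + 1) * (η.Nmap g x₀ q)
      rw [hR0, zero_pow (Nat.succ_ne_zero k), zero_mul]
    · obtain ⟨V, hV, r₂, hq, hN⟩ := perq q hq0
      have e1 := gen V₀ hV₀ _ _ hN₀
      have e2 := gen V hV _ _ hN
      have hrr : g f ^ (n₀ + 1) * r₁ = g f ^ (n₀ + 1) * r₂ := by
        have h3 : η.t R (g f ^ (n₀ + 1) * r₁ - g f ^ (n₀ + 1) * r₂) (ep_bot R) = 0 := by
          rw [map_sub]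
          show η.t R (g f ^ (n₀ + 1) * r₁) (ep_bot R) - η.t R (g f ^ (n₀ + 1) * r₂) (ep_bot R) = 0
          rw [← e1, ← e2, sub_self]
        exact sub_eq_zero.mp (ep_t_bot_eq_zero η h3)
      rw [hrr]
      have h1 := congrFun hN (IsLocalRing.closedPoint ↥V)
      rw [ep_Nmap_apply_of_eq η _ _ _ q hq, ep_Nmap_apply_of_eq η _ _ _ q hq] at h1
      exact ((η.map _).injective h1).symm

end EtaPtAway

end Groth.Agent.Lib.helper7
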