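import Mathlib

set_option autoImplicit false

open CategoryTheory Limits AlgebraicGeometry TopologicalSpace

namespace Groth.Agent.Lib.helper7

universe u

lemma fp_flat_of_ker_bot {X Y T : Scheme.{u}} [IsAffine T] (f : X ⟶ Y) (g : Y ⟶ T)
    [QuasiCompact f] (hker : f.ker = ⊥)
    [IsDomain Γ(T, ⊤)] [IsPrincipalIdealRing Γ(T, ⊤)] [Flat (f ≫ g)] : Flat g := by
  refine HasRingHomProperty.of_iSup_eq_top (P := @Flat) (fun V : Y.affineOpens => V)
    (iSup_affineOpens_eq_top Y) (fun V => ?_)
  have hflatX : ∀ W : X.affineOpens, ((f ≫ g).appLE ⊤ W.1 le_top).hom.Flat := fun W =>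
    HasRingHomProperty.appLE (P := @Flat) (f ≫ g) inferInstance ⟨⊤, isAffineOpen_top T⟩ W le_top
  letI := (g.appLE ⊤ V.1 le_top).hom.toAlgebra
  haveI : Module.IsTorsionFree Γ(T, ⊤) Γ(Y, V.1) := by
    refine Module.IsTorsionFree.of_smul_eq_zero ?_
    intro r b hrb
    by_cases hr : r = 0
    · exact Or.inl hr
    · right
      have hbker : b ∈ RingHom.ker (f.app V.1).hom := by
        rw [RingHom.mem_ker]
        refine TopCat.Sheaf.eq_of_locally_eq' X.sheaf
          (fun W : {W : X.affineOpens // W.1 ≤ f ⁻¹ᵁ V.1} => W.1.1) (f ⁻¹ᵁ V.1)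
          (fun W => homOfLE W.2) ?_ _ _ ?_
        · intro x hx
          obtain ⟨W, hW, hxW, hWle⟩ := Opens.isBasis_iff_nbhd.mp X.isBasis_affineOpens hx
          exact Opens.mem_iSup.mpr ⟨⟨⟨W, hW⟩, hWle⟩, hxW⟩
        · intro W
          have h1 : (f.appLE V.1 W.1.1 W.2).hom b = 0 := by
            have hfl := hflatX W.1
            have hcomp : (f ≫ g).appLE ⊤ W.1.1 le_top
                = g.appLE ⊤ V.1 le_top ≫ f.appLE V.1 W.1.1 W.2 :=
              (Scheme.Hom.appLE_comp_appLE f g ⊤ V.1 W.1.1 le_top W.2).symm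
            letI := ((f ≫ g).appLE ⊤ W.1.1 le_top).hom.toAlgebra
            haveI : Module.Flat Γ(T, ⊤) Γ(X, W.1.1) := hfl
            have hreg : IsSMulRegular Γ(X, W.1.1) r :=
              Module.Flat.isSMulRegular_of_nonZeroDivisors (mem_nonZeroDivisors_of_ne_zero hr)
            apply hreg
            show ((f ≫ g).appLE ⊤ W.1.1 le_top).hom r * (f.appLE V.1 W.1.1 W.2).hom b
              = ((f ≫ g).appLE ⊤ W.1.1 le_top).hom r * 0
            rw [mul_zero, hcomp, CommRingCat.hom_comp, RingHom.comp_apply, ← map_mul]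
            have : (g.appLE ⊤ V.1 le_top).hom r * b = 0 := hrb
            rw [this, map_zero]
          have h3 : (X.presheaf.map (homOfLE W.2).op).hom ((f.app V.1).hom b) = 0 := by
            simpa [Scheme.Hom.appLE] using h1
          change (X.presheaf.map (homOfLE W.2).op).hom ((f.app V.1).hom b)
            = (X.presheaf.map (homOfLE W.2).op).hom 0
          rw [h3, map_zero]
      have h2 : f.ker.ideal V = ⊥ := by rw [hker]; rfl
      rw [Scheme.Hom.ker_apply] at h2
      rw [h2] at hbker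
      exact (Submodule.mem_bot _).mp hbker
  exact inferInstanceAs (Module.Flat Γ(T, ⊤) Γ(Y, V.1))

end Groth.Agent.Lib.helper7
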