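import Mathlib

/-!
Graded modules generated in bounded degree over a standard graded algebra.
-/

namespace Groth.Agent.Lib.helper7

universe u

section
variable {R : Type u} [CommRing R] {A : Type u} [CommRing A] [Algebra R A]
  (𝒜 : ℕ → Submodule R A) [GradedAlgebra 𝒜]
  {M : Type u} [AddCommGroup M] [Module R M] [Module A M] [IsScalarTower R A M]
  (ℳ : ℕ → Submodule R M) [DirectSum.Decomposition ℳ]

theorem grspan_mul_smul (I J : Submodule R A) (N : Submodule R M) :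
    (I * J) • N = I • (J • N) :=
  Submodule.smul_assoc I J N

theorem grspan_split (hA : ∀ n : ℕ, 𝒜 (n + 1) = 𝒜 1 * 𝒜 n) (a b : ℕ) :
    𝒜 (a + b) ≤ 𝒜 a * 𝒜 b := by
  induction a with
  | zero =>
    rw [Nat.zero_add]
    intro x hx
    have h := Submodule.mul_mem_mul (SetLike.one_mem_graded 𝒜) hx
    rwa [one_mul] at h
  | succ a ih =>
    have e : a + 1 + b = (a + b) + 1 := by omega
    rw [e, hA (a + b), hA a, mul_assoc]
    exact mul_le_mul' le_rfl ih

theorem grspan_gmul (i j : ℕ) : 𝒜 i * 𝒜 j ≤ 𝒜 (i + j) :=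
  Submodule.mul_le.mpr (fun _ hx _ hy => SetLike.mul_mem_graded hx hy)

theorem grspan_smul_le [SetLike.GradedSMul 𝒜 ℳ] (i j : ℕ) : 𝒜 i • ℳ j ≤ ℳ (i + j) :=
  Submodule.smul_le.mpr (fun _ ha _ hm => SetLike.GradedSMul.smul_mem ha hm)

/-- If `V N ≤ ℳ N` is a family of submodules stable under the graded action and containing a set
of `A`-generators of `M`, then `V N = ℳ N`. -/
theorem grspan_le_of_stable
    (V : ℕ → Submodule R M) (hV : ∀ i N, 𝒜 i • V N ≤ V (i + N))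
    (hVℳ : ∀ N, V N ≤ ℳ N)
    (s : Set M) (hs : ∀ y ∈ s, ∃ d, y ∈ V d) (hspan : Submodule.span A s = ⊤) (N : ℕ) :
    ℳ N ≤ V N := by
  classical
  have hsmul : ∀ (a : A) (u : M), u ∈ (⨆ N, V N) → a • u ∈ (⨆ N, V N) := by
    intro a u hu
    rw [← DirectSum.sum_support_decompose 𝒜 a, Finset.sum_smul]
    refine Submodule.sum_mem _ fun i _ => ?_
    have hai : ((DirectSum.decompose 𝒜 a i : 𝒜 i) : A) ∈ 𝒜 i := Subtype.property _
    refine Submodule.iSup_induction V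
      (motive := fun u => ((DirectSum.decompose 𝒜 a i : 𝒜 i) : A) • u ∈ (⨆ N, V N)) hu ?_ ?_ ?_
    · intro N' v hv
      exact (le_iSup V (i + N')) (hV i N' (Submodule.smul_mem_smul hai hv))
    · rw [smul_zero]
      exact Submodule.zero_mem _
    · intro x y hx hy
      rw [smul_add]
      exact Submodule.add_mem _ hx hy
  let U' : Submodule A M :=
    { carrier := ((⨆ N, V N : Submodule R M) : Set M)
      add_mem' := fun ha hb => Submodule.add_mem _ ha hb
      zero_mem' := Submodule.zero_mem _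
      smul_mem' := fun a u hu => hsmul a u hu }
  have hsU : s ⊆ (U' : Set M) := by
    intro y hy
    obtain ⟨d, hd⟩ := hs y hy
    exact (le_iSup V d) hd
  have htop : ∀ x : M, x ∈ (⨆ N, V N) := by
    intro x
    have h1 : x ∈ Submodule.span A s := by
      rw [hspan]
      exact Submodule.mem_top
    exact Submodule.span_le.mpr hsU h1
  intro x hx
  obtain ⟨f, hf, hsum⟩ := (Submodule.mem_iSup_iff_exists_finsupp V x).mp (htop x)
  let pr : M →ₗ[R] M := (ℳ N).subtype ∘ₗ (DirectSum.component R ℕ (fun i => ℳ i) N) ∘ₗ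
    (DirectSum.decomposeLinearEquiv ℳ).toLinearMap
  have hpr : ∀ y, pr y = ((DirectSum.decompose ℳ y N : ℳ N) : M) := fun y => rfl
  have hx' : pr x = x := by
    rw [hpr]
    exact DirectSum.decompose_of_mem_same ℳ hx
  have hx2 : x = ∑ t ∈ f.support, pr (f t) := by
    rw [← map_sum]
    have h2 : ∑ t ∈ f.support, f t = x := hsum
    rw [h2, hx']
  rw [hx2]
  refine Submodule.sum_mem _ fun t _ => ?_
  have hft : f t ∈ ℳ t := hVℳ t (hf t)
  by_cases hd : t = N
  · subst hd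
    have h3 : pr (f t) = f t := by
      rw [hpr]
      exact DirectSum.decompose_of_mem_same ℳ hft
    rw [h3]
    exact hf t
  · have h3 : pr (f t) = 0 := by
      rw [hpr]
      exact DirectSum.decompose_of_mem_ne ℳ hft hd
    rw [h3]
    exact Submodule.zero_mem _

theorem grspan_grade_add_le [SetLike.GradedSMul 𝒜 ℳ]
    (hA : ∀ n : ℕ, 𝒜 (n + 1) = 𝒜 1 * 𝒜 n)
    (s : Set M) (n₀ : ℕ) (hs : ∀ y ∈ s, ∃ d : ℕ, d ≤ n₀ ∧ y ∈ ℳ d)
    (hspan : Submodule.span A s = ⊤) (n k : ℕ) (hn : n₀ ≤ n) :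
    ℳ (n + k) ≤ 𝒜 k • ℳ n := by
  classical
  rcases Nat.eq_zero_or_pos k with hk | hk
  · subst hk
    intro x hx
    have h := Submodule.smul_mem_smul (SetLike.one_mem_graded 𝒜) hx
    rwa [one_smul] at h
  let V : ℕ → Submodule R M := fun N => if N ≤ n then ℳ N else 𝒜 (N - n) • ℳ n
  have hV1 : ∀ N, N ≤ n → V N = ℳ N := fun N h => if_pos h
  have hV2 : ∀ N, ¬ N ≤ n → V N = 𝒜 (N - n) • ℳ n := fun N h => if_neg h
  have hVℳ : ∀ N, V N ≤ ℳ N := by
    intro N
    by_cases h : N ≤ n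
    · rw [hV1 N h]
    · rw [hV2 N h]
      exact (grspan_smul_le 𝒜 ℳ (N - n) n).trans (congrArg ℳ (by omega)).le
  have hV : ∀ i N, 𝒜 i • V N ≤ V (i + N) := by
    intro i N
    by_cases h1 : i + N ≤ n
    · rw [hV1 N (by omega), hV1 (i + N) h1]
      exact grspan_smul_le 𝒜 ℳ i N
    by_cases h2 : N ≤ n
    · rw [hV1 N h2, hV2 (i + N) h1]
      have e : i = (i + N - n) + (n - N) := by omega
      have h3 : 𝒜 i ≤ 𝒜 (i + N - n) * 𝒜 (n - N) := by
        have h4 := grspan_split 𝒜 hA (i + N - n) (n - N)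
        rwa [← e] at h4
      refine (Submodule.smul_mono_left h3).trans ?_
      rw [grspan_mul_smul]
      refine Submodule.smul_mono le_rfl ?_
      exact (grspan_smul_le 𝒜 ℳ (n - N) N).trans (congrArg ℳ (by omega)).le
    · rw [hV2 N h2, hV2 (i + N) h1, ← grspan_mul_smul]
      refine Submodule.smul_mono_left ?_
      exact (grspan_gmul 𝒜 i (N - n)).trans (congrArg 𝒜 (by omega)).le
  have hsV : ∀ y ∈ s, ∃ d, y ∈ V d := by
    intro y hy
    obtain ⟨d, hd, hyd⟩ := hs y hy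
    exact ⟨d, by rw [hV1 d (by omega)]; exact hyd⟩
  have h5 := grspan_le_of_stable 𝒜 ℳ V hV hVℳ s hsV hspan (n + k)
  rw [hV2 (n + k) (by omega), Nat.add_sub_cancel_left] at h5
  exact h5

theorem grspan_grade_add_eq [SetLike.GradedSMul 𝒜 ℳ]
    (hA : ∀ n : ℕ, 𝒜 (n + 1) = 𝒜 1 * 𝒜 n)
    (s : Set M) (n₀ : ℕ) (hs : ∀ y ∈ s, ∃ d : ℕ, d ≤ n₀ ∧ y ∈ ℳ d)
    (hspan : Submodule.span A s = ⊤) (n k : ℕ) (hn : n₀ ≤ n) :
    ℳ (n + k) = 𝒜 k • ℳ n :=
  le_antisymm (grspan_grade_add_le 𝒜 ℳ hA s n₀ hs hspan n k hn)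
    ((grspan_smul_le 𝒜 ℳ k n).trans (congrArg ℳ (Nat.add_comm k n)).le)

end

end Groth.Agent.Lib.helper7
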