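import Mathlib
import Groth.Prelude.Def_W4c2conddiscmodels

set_option autoImplicit false

namespace Groth.Agent.Lib.helper7

/-- Numerator/denominator pair of a Hirzebruch–Jung continued fraction (the empty fraction is
`1/0`, which evaluates to `0` in `ℚ`). -/
def hjND : List ℤ → ℤ × ℤ
  | [] => (1, 0)
  | b :: l => (b * (hjND l).1 - (hjND l).2, (hjND l).1)

lemma hjND_pos (L : List ℤ) (hL : ∀ x ∈ L, 2 ≤ x) :
    0 ≤ (hjND L).2 ∧ (hjND L).2 < (hjND L).1 := by
  induction L with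
  | nil => simp [hjND]
  | cons b l ih =>
    have hb : 2 ≤ b := hL b List.mem_cons_self
    obtain ⟨h1, h2⟩ := ih (fun x hx => hL x (List.mem_cons_of_mem _ hx))
    simp only [hjND]
    constructor
    · linarith
    · nlinarith [mul_nonneg (sub_nonneg.mpr hb) (le_of_lt (h1.trans_lt h2))]

lemma hjVal_eq (L : List ℤ) (hL : ∀ x ∈ L, 2 ≤ x) :
    HJFrac.hjVal L = ((hjND L).1 : ℚ) / ((hjND L).2 : ℚ) := by
  induction L with
  | nil => simp [HJFrac.hjVal, hjND]
  | cons b l ih =>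
    have hl : ∀ x ∈ l, 2 ≤ x := fun x hx => hL x (List.mem_cons_of_mem _ hx)
    obtain ⟨h1, h2⟩ := hjND_pos l hl
    have hN : ((hjND l).1 : ℚ) ≠ 0 := by exact_mod_cast (ne_of_gt (h1.trans_lt h2))
    simp only [HJFrac.hjVal, hjND, ih hl]
    rw [inv_div]
    push_cast
    field_simp

lemma hjND_coprime (L : List ℤ) : IsCoprime (hjND L).1 (hjND L).2 := by
  induction L with
  | nil => exact isCoprime_one_left
  | cons b l ih =>
    simp only [hjND]
    have h := (ih.symm.neg_left).add_mul_left_left b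
    have e : b * (hjND l).1 - (hjND l).2 = -(hjND l).2 + (hjND l).1 * b := by ring
    rw [e]
    exact h

lemma hj_wronskian : ∀ (l : ℕ) (b : ℕ → ℤ) (μ : ℕ → ℤ),
    (∀ i, 1 ≤ i → i ≤ l → b i * μ i = μ (i - 1) + μ (i + 1)) →
    μ 1 * (hjND ((List.range l).map fun i => b (i + 1))).1
      - μ 0 * (hjND ((List.range l).map fun i => b (i + 1))).2 = μ (l + 1) := by
  intro l
  induction l with
  | zero => intro b μ _; simp [hjND]
  | succ l ih =>
    intro b μ hsys
    have hL : (List.range (l + 1)).map (fun i => b (i + 1))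
        = b 1 :: (List.range l).map (fun i => b (i + 1 + 1)) := by
      rw [List.range_succ_eq_map, List.map_cons, List.map_map]
      rfl
    rw [hL]
    simp only [hjND]
    have ih' : μ (1 + 1) * (hjND ((List.range l).map fun i => b (i + 1 + 1))).1
        - μ 1 * (hjND ((List.range l).map fun i => b (i + 1 + 1))).2 = μ (l + 1 + 1) :=
      ih (fun i => b (i + 1)) (fun i => μ (i + 1)) (by
        intro i hi1 hil
        have h2 := hsys (i + 1) (by omega) (by omega)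
        have e1 : i + 1 - 1 = i - 1 + 1 := by omega
        rw [e1] at h2
        exact h2)
    have h1 : b 1 * μ 1 = μ 0 + μ (1 + 1) := hsys 1 le_rfl (by omega)
    rw [← ih']
    linear_combination (hjND ((List.range l).map fun i => b (i + 1 + 1))).1 * h1

lemma hj_num_den (L : List ℤ) (hL : ∀ x ∈ L, 2 ≤ x) (n r : ℕ) (hn : 0 < n) (hr : 0 < r)
    (hcop : Nat.Coprime r n) (hhj : (n : ℚ) / r = HJFrac.hjVal L) :
    (hjND L).1 = n ∧ (hjND L).2 = r := by
  obtain ⟨h1, h2⟩ := hjND_pos L hL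
  rw [hjVal_eq L hL] at hhj
  have hcopND := hjND_coprime L
  have hrQ : (r : ℚ) ≠ 0 := by exact_mod_cast (ne_of_gt hr)
  have hnQ : (n : ℚ) ≠ 0 := by exact_mod_cast (ne_of_gt hn)
  have hD0 : (hjND L).2 ≠ 0 := by
    intro h0
    rw [h0] at hhj
    simp only [Int.cast_zero, div_zero] at hhj
    exact (div_ne_zero hnQ hrQ) hhj
  have hDQ : ((hjND L).2 : ℚ) ≠ 0 := by exact_mod_cast hD0
  rw [div_eq_div_iff hrQ hDQ] at hhj
  have hZ : (n : ℤ) * (hjND L).2 = (hjND L).1 * (r : ℤ) := by exact_mod_cast hhj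
  have hcopZ : IsCoprime (n : ℤ) (r : ℤ) := (Nat.isCoprime_iff_coprime.mpr hcop).symm
  have hd1 : (n : ℤ) ∣ (hjND L).1 :=
    hcopZ.dvd_of_dvd_mul_right (Dvd.intro _ hZ)
  have hd2 : (hjND L).1 ∣ (n : ℤ) :=
    hcopND.dvd_of_dvd_mul_right (Dvd.intro _ hZ.symm)
  have hN : (hjND L).1 = n :=
    Int.dvd_antisymm (le_of_lt (h1.trans_lt h2)) (Int.natCast_nonneg n) hd2 hd1
  refine ⟨hN, ?_⟩
  rw [hN] at hZ
  have hn0 : (n : ℤ) ≠ 0 := by exact_mod_cast (ne_of_gt hn)
  exact mul_left_cancel₀ hn0 hZ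

lemma hj_sum : ∀ (l : ℕ) (b : ℕ → ℤ) (μ : ℕ → ℤ),
    (∀ i, 1 ≤ i → i ≤ l → b i * μ i = μ (i - 1) + μ (i + 1)) →
    (∀ i, i ≤ l + 1 → μ i ≠ 0) →
    ∑ i ∈ Finset.range (l + 1), 1 / ((μ i : ℚ) * (μ (i + 1) : ℚ))
      = ((hjND ((List.range l).map fun i => b (i + 1))).1 : ℚ) / ((μ 0 : ℚ) * (μ (l + 1) : ℚ)) := by
  intro l
  induction l with
  | zero => intro b μ _ _; simp [hjND]
  | succ l ih =>
    intro b μ hsys hne
    have hL : (List.range (l + 1)).map (fun i => b (i + 1))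
        = b 1 :: (List.range l).map (fun i => b (i + 1 + 1)) := by
      rw [List.range_succ_eq_map, List.map_cons, List.map_map]
      rfl
    have hsys' : ∀ i, 1 ≤ i → i ≤ l →
        (fun i => b (i + 1)) i * (fun i => μ (i + 1)) i
          = (fun i => μ (i + 1)) (i - 1) + (fun i => μ (i + 1)) (i + 1) := by
      intro i hi1 hil
      have h2 := hsys (i + 1) (by omega) (by omega)
      have e1 : i + 1 - 1 = i - 1 + 1 := by omega
      rw [e1] at h2
      exact h2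
    have ih' : ∑ i ∈ Finset.range (l + 1), 1 / ((μ (i + 1) : ℚ) * (μ (i + 1 + 1) : ℚ))
        = ((hjND ((List.range l).map fun i => b (i + 1 + 1))).1 : ℚ)
          / ((μ 1 : ℚ) * (μ (l + 1 + 1) : ℚ)) :=
      ih (fun i => b (i + 1)) (fun i => μ (i + 1)) hsys' (fun i hi => hne (i + 1) (by omega))
    have hW : μ (1 + 1) * (hjND ((List.range l).map fun i => b (i + 1 + 1))).1
        - μ 1 * (hjND ((List.range l).map fun i => b (i + 1 + 1))).2 = μ (l + 1 + 1) :=
      hj_wronskian l (fun i => b (i + 1)) (fun i => μ (i + 1)) hsys'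
    have h1 : b 1 * μ 1 = μ 0 + μ (1 + 1) := hsys 1 le_rfl (by omega)
    have hWq : (μ (1 + 1) : ℚ) * ((hjND ((List.range l).map fun i => b (i + 1 + 1))).1 : ℚ)
        - (μ 1 : ℚ) * ((hjND ((List.range l).map fun i => b (i + 1 + 1))).2 : ℚ)
          = (μ (l + 1 + 1) : ℚ) := by exact_mod_cast hW
    have h1q : (b 1 : ℚ) * (μ 1 : ℚ) = (μ 0 : ℚ) + (μ (1 + 1) : ℚ) := by exact_mod_cast h1
    have h0 : (μ 0 : ℚ) ≠ 0 := by exact_mod_cast hne 0 (by omega)
    have h1' : (μ 1 : ℚ) ≠ 0 := by exact_mod_cast hne 1 (by omega)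
    have hl2 : (μ (l + 1 + 1) : ℚ) ≠ 0 := by exact_mod_cast hne (l + 1 + 1) le_rfl
    rw [Finset.sum_range_succ', ih', hL]
    simp only [hjND]
    rw [div_add_div _ _ (mul_ne_zero h1' hl2) (mul_ne_zero h0 h1'),
      div_eq_div_iff (mul_ne_zero (mul_ne_zero h1' hl2) (mul_ne_zero h0 h1'))
        (mul_ne_zero h0 hl2)]
    push_cast
    linear_combination (-((μ 0 : ℚ) * (μ 1 : ℚ) * (μ (l + 1 + 1) : ℚ))) * hWq
      - ((μ 0 : ℚ) * (μ 1 : ℚ) * (μ (l + 1 + 1) : ℚ)
          * ((hjND ((List.range l).map fun i => b (i + 1 + 1))).1 : ℚ)) * h1q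

end Groth.Agent.Lib.helper7
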