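import Mathlib

open CategoryTheory AlgebraicGeometry

universe u

namespace Groth.Agent.Lib.helper7.NeronFormal

lemma pullbackCongr {X Y : Scheme.{u}} {f g : X ⟶ Y} (h : f = g) :
    Nonempty (Over.pullback f ≅ Over.pullback g) := by
  subst h; exact ⟨Iso.refl _⟩

lemma faithful_pullback_iso {X Y : Scheme.{u}} (e : X ⟶ Y) [IsIso e] :
    (Over.pullback e).Faithful := by
  obtain ⟨c⟩ := pullbackCongr (IsIso.inv_hom_id e)
  exact Functor.Faithful.of_comp_iso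
    ((Over.pullbackComp (inv e) e).symm ≪≫ c ≪≫ Over.pullbackId)

lemma full_pullback_iso {X Y : Scheme.{u}} (e : X ⟶ Y) [IsIso e] :
    (Over.pullback e).Full := by
  obtain ⟨c⟩ := pullbackCongr (IsIso.inv_hom_id e)
  haveI := faithful_pullback_iso (inv e)
  exact Functor.Full.of_comp_faithful_iso
    ((Over.pullbackComp (inv e) e).symm ≪≫ c ≪≫ Over.pullbackId)

lemma compIso {S : Scheme.{u}} {S₀ S₁ : S.Opens} (h01 : S₀ ≤ S₁) :
    Nonempty (Over.pullback S₁.ι ⋙ Over.pullback (S₁.ι ⁻¹ᵁ S₀).ι ≅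
      Over.pullback S₀.ι ⋙ Over.pullback (Scheme.Opens.isoOfLE h01).hom) := by
  obtain ⟨c⟩ := pullbackCongr (Scheme.Opens.isoOfLE_hom_ι h01).symm
  exact ⟨(Over.pullbackComp _ _).symm ≪≫ c ≪≫ Over.pullbackComp _ _⟩

section

variable {C C₁ C₁₀ C₀ : Type*} [Category C] [Category C₁] [Category C₁₀] [Category C₀]
  (R₁ : C ⥤ C₁) (R₁₀ : C₁ ⥤ C₁₀) (R₀ : C ⥤ C₀) (E : C₀ ⥤ C₁₀) (α : R₁ ⋙ R₁₀ ≅ R₀ ⋙ E)
  (Z N : C)

include α in
lemma conj_eq (g : Z ⟶ N) :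
    E.map (R₀.map g) = α.inv.app Z ≫ R₁₀.map (R₁.map g) ≫ α.hom.app N := by
  have h := α.hom.naturality g
  simp only [Functor.comp_map] at h
  rw [h, Iso.inv_hom_id_app_assoc]

include α in
lemma conj_eq' (g : Z ⟶ N) :
    R₁₀.map (R₁.map g) = α.hom.app Z ≫ E.map (R₀.map g) ≫ α.inv.app N := by
  rw [conj_eq R₁ R₁₀ R₀ E α Z N g]
  simp

include α in
lemma bij₀_of_bij_comp [E.Faithful]
    (h : Function.Bijective (fun g : Z ⟶ N => R₁₀.map (R₁.map g))) :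
    Function.Bijective (fun g : Z ⟶ N => R₀.map g) := by
  constructor
  · intro g g' hg
    have hg' : R₀.map g = R₀.map g' := hg
    apply h.1
    show R₁₀.map (R₁.map g) = R₁₀.map (R₁.map g')
    rw [conj_eq' R₁ R₁₀ R₀ E α, conj_eq' R₁ R₁₀ R₀ E α Z N g', hg']
  · intro k
    obtain ⟨g, hg⟩ := h.2 (α.hom.app Z ≫ E.map k ≫ α.inv.app N)
    have hg' : R₁₀.map (R₁.map g) = α.hom.app Z ≫ E.map k ≫ α.inv.app N := hg
    refine ⟨g, ?_⟩
    apply E.map_injective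
    rw [conj_eq R₁ R₁₀ R₀ E α, hg']
    simp

include α in
lemma bij₁_of [E.Faithful] [E.Full]
    (h0 : Function.Bijective (fun g : Z ⟶ N => R₀.map g))
    (hb : Function.Injective (fun g : R₁.obj Z ⟶ R₁.obj N => R₁₀.map g)) :
    Function.Bijective (fun g : Z ⟶ N => R₁.map g) := by
  constructor
  · intro g g' hg
    have hg' : R₁.map g = R₁.map g' := hg
    apply h0.1
    apply E.map_injective
    rw [conj_eq R₁ R₁₀ R₀ E α, conj_eq R₁ R₁₀ R₀ E α Z N g', hg']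
  · intro k
    obtain ⟨g, hg⟩ := h0.2 (E.preimage (α.inv.app Z ≫ R₁₀.map k ≫ α.hom.app N))
    have hg' : R₀.map g = E.preimage (α.inv.app Z ≫ R₁₀.map k ≫ α.hom.app N) := hg
    refine ⟨g, ?_⟩
    apply hb
    show R₁₀.map (R₁.map g) = R₁₀.map k
    rw [conj_eq' R₁ R₁₀ R₀ E α, hg', E.map_preimage]
    simp

end

end Groth.Agent.Lib.helper7.NeronFormal
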