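import Mathlib
import Groth.Prelude.Def_Frob
import Groth.Agent.Lib.helper7.UH
import Groth.Agent.S14930

set_option autoImplicit false
universe u
open CategoryTheory CategoryTheory.Limits AlgebraicGeometry

namespace Groth.Agent.Lib.helper7

theorem pf_isIso_of_etale_of_isUnivHomeo {X Y : Scheme.{u}} (f : X ⟶ Y) [Etale f]
    (h : FlatMor.IsUnivHomeo f) : IsIso f := by
  obtain ⟨h1, h2, h3⟩ := (uh_isUnivHomeo_iff f).mp h
  haveI := h1
  haveI := h2
  haveI := h3
  have hds : Surjective (pullback.diagonal f) := ((tfae_universallyInjective f).out 0 3).mp h1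
  haveI : Epi (pullback.diagonal f).base := (TopCat.epi_iff_surjective _).mpr hds.surj
  haveI : IsIso (pullback.diagonal f) := IsOpenImmersion.isIso _
  haveI : Mono f := (pullback.isIso_diagonal_iff f).mp inferInstance
  have hhomeo : IsHomeomorph f.base := h (𝟙 _) (𝟙 _) f IsPullback.of_id_snd
  haveI : QuasiCompact f := ⟨fun U hU hc ↦ hhomeo.homeomorph.isCompact_preimage.mpr hc⟩
  exact Flat.isIso_of_surjective_of_mono f

theorem pf_isPerfect_of_etale (p : ℕ) [Fact p.Prime] {P Y : Scheme.{u}} [FrobSch.IsCharP Y p]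
    (b : P ⟶ Y) [Etale b] [FrobSch.IsCharP P p] (hY : FrobSch.IsPerfect Y p) :
    FrobSch.IsPerfect P p := by
  haveI : IsIso (FrobSch.frob Y p) := hY
  obtain ⟨hUH, -, -⟩ := Groth.Agent.S14930.result p b
  haveI : Etale (FrobSch.relFrob b p ≫ pullback.snd b (FrobSch.frob Y p)) := by
    rw [FrobSch.relFrob_snd]; infer_instance
  haveI : Etale (FrobSch.relFrob b p) :=
    Etale.of_comp (FrobSch.relFrob b p) (pullback.snd b (FrobSch.frob Y p))
  haveI : IsIso (FrobSch.relFrob b p) := pf_isIso_of_etale_of_isUnivHomeo _ hUH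
  have h : FrobSch.frob P p = FrobSch.relFrob b p ≫ pullback.fst b (FrobSch.frob Y p) :=
    (FrobSch.relFrob_fst b p).symm
  show IsIso (FrobSch.frob P p)
  rw [h]
  infer_instance

theorem pf_compare (p : ℕ) [Fact p.Prime] {X Y XP YP : Scheme.{u}} [FrobSch.IsCharP XP p]
    [FrobSch.IsCharP YP p] (πX : XP ⟶ X) (πY : YP ⟶ Y) (hX : FrobSch.IsPerfection πX p)
    (hY : FrobSch.IsPerfection πY p) (f : X ⟶ Y) (fP : XP ⟶ YP) (w : fP ≫ πY = πX ≫ f)
    [FrobSch.IsCharP (pullback πY f) p] (hP : FrobSch.IsPerfect (pullback πY f) p) :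
    ∃ e : XP ⟶ pullback πY f, IsIso e ∧ e ≫ pullback.fst πY f = fP ∧
      e ≫ pullback.snd πY f = πX := by
  obtain ⟨hXP, hXu⟩ := hX
  obtain ⟨hYP, hYu⟩ := hY
  have hPu : ∀ (Z : Scheme.{u}) [FrobSch.IsCharP Z p], FrobSch.IsPerfect Z p →
      Function.Bijective (fun g : Z ⟶ pullback πY f => g ≫ pullback.snd πY f) := by
    intro Z _ hZ
    constructor
    · intro g₁ g₂ h
      have h' : g₁ ≫ pullback.snd πY f = g₂ ≫ pullback.snd πY f := h
      refine pullback.hom_ext ?_ h'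
      apply (hYu Z hZ).1
      show (g₁ ≫ pullback.fst πY f) ≫ πY = (g₂ ≫ pullback.fst πY f) ≫ πY
      rw [Category.assoc, Category.assoc, pullback.condition, ← Category.assoc,
        ← Category.assoc, h']
    · intro t
      obtain ⟨s, hs⟩ := (hYu Z hZ).2 (t ≫ f)
      have hs' : s ≫ πY = t ≫ f := hs
      exact ⟨pullback.lift s t hs', pullback.lift_snd _ _ _⟩
  obtain ⟨e₁, he₁⟩ := (hPu XP hXP).2 πX
  obtain ⟨e₂, he₂⟩ := (hXu (pullback πY f) hP).2 (pullback.snd πY f)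
  have he₁' : e₁ ≫ pullback.snd πY f = πX := he₁
  have he₂' : e₂ ≫ πX = pullback.snd πY f := he₂
  have h12 : e₁ ≫ e₂ = 𝟙 XP := by
    apply (hXu XP hXP).1
    show (e₁ ≫ e₂) ≫ πX = 𝟙 XP ≫ πX
    rw [Category.assoc, he₂', he₁', Category.id_comp]
  have h21 : e₂ ≫ e₁ = 𝟙 _ := by
    apply (hPu _ hP).1
    show (e₂ ≫ e₁) ≫ pullback.snd πY f = 𝟙 _ ≫ pullback.snd πY f
    rw [Category.assoc, he₁', he₂', Category.id_comp]
  refine ⟨e₁, ⟨⟨e₂, h12, h21⟩⟩, ?_, he₁'⟩
  apply (hYu XP hXP).1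
  show (e₁ ≫ pullback.fst πY f) ≫ πY = fP ≫ πY
  rw [Category.assoc, pullback.condition, ← Category.assoc, he₁', w]

end Groth.Agent.Lib.helper7
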