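import Mathlib

/-!
Lifting finite projective / invertible modules along a surjection with nilpotent kernel.
-/

open TensorProduct Matrix

namespace Groth.Agent.Lib.helper7

universe u

section PicNil

variable {A' A : Type u} [CommRing A'] [CommRing A] [Algebra A' A]

theorem pn_isNilpotent_of_mem (hnil : IsNilpotent (RingHom.ker (algebraMap A' A))) {x : A'}
    (hx : x ∈ RingHom.ker (algebraMap A' A)) : IsNilpotent x := by
  obtain ⟨k, hk⟩ := hnil
  refine ⟨k, ?_⟩
  have h1 : x ^ k ∈ (RingHom.ker (algebraMap A' A)) ^ k := Ideal.pow_mem_pow hx k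
  rw [hk, Ideal.zero_eq_bot, Ideal.mem_bot] at h1
  exact h1

theorem pn_le_jacobson (hnil : IsNilpotent (RingHom.ker (algebraMap A' A))) :
    RingHom.ker (algebraMap A' A) ≤ Ideal.jacobson ⊥ := by
  intro x hx
  rw [Ideal.mem_jacobson_bot]
  intro y
  exact (pn_isNilpotent_of_mem hnil (Ideal.mul_mem_right y _ hx)).isUnit_add_one

theorem pn_mem_smul_of_tmul_eq_zero (hsurj : Function.Surjective (algebraMap A' A))
    {X : Type u} [AddCommGroup X] [Module A' X] (x : X) (hx : (1 : A) ⊗ₜ[A'] x = 0) :
    x ∈ (RingHom.ker (algebraMap A' A)) • (⊤ : Submodule A' X) := by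
  have hex : Function.Exact (Submodule.subtype (RingHom.ker (algebraMap A' A)))
      (Algebra.linearMap A' A) := by
    intro a
    constructor
    · intro ha
      exact ⟨⟨a, RingHom.mem_ker.mpr ha⟩, rfl⟩
    · rintro ⟨b, rfl⟩
      show algebraMap A' A b.1 = 0
      exact RingHom.mem_ker.mp b.2
  have hex2 := rTensor_exact X hex hsurj
  have h1 : (LinearMap.rTensor X (Algebra.linearMap A' A)) ((1 : A') ⊗ₜ[A'] x) = 0 := by
    rw [LinearMap.rTensor_tmul, Algebra.linearMap_apply, map_one]
    exact hx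
  obtain ⟨z, hz⟩ := (hex2 _).mp h1
  have h2 : ∀ z : (RingHom.ker (algebraMap A' A)) ⊗[A'] X,
      TensorProduct.lid A' X
        (LinearMap.rTensor X (Submodule.subtype (RingHom.ker (algebraMap A' A))) z) ∈
        (RingHom.ker (algebraMap A' A)) • (⊤ : Submodule A' X) := by
    intro z
    induction z using TensorProduct.induction_on with
    | zero => simp
    | tmul i y =>
      rw [LinearMap.rTensor_tmul, TensorProduct.lid_tmul]
      exact Submodule.smul_mem_smul i.2 Submodule.mem_top
    | add a b ha hb =>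
      rw [map_add, map_add]
      exact Submodule.add_mem _ ha hb
  have h3 := h2 z
  rw [hz, TensorProduct.lid_tmul, one_smul] at h3
  exact h3

theorem pn_tmul_eq_zero_of_mem_smul {X : Type u} [AddCommGroup X] [Module A' X] (x : X)
    (hx : x ∈ (RingHom.ker (algebraMap A' A)) • (⊤ : Submodule A' X)) :
    (1 : A) ⊗ₜ[A'] x = 0 := by
  refine Submodule.smul_induction_on hx (fun i hi y _ => ?_) (fun a b ha hb => ?_)
  · rw [TensorProduct.tmul_smul, TensorProduct.smul_tmul', Algebra.smul_def, mul_one,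
      RingHom.mem_ker.mp hi, TensorProduct.zero_tmul]
  · rw [TensorProduct.tmul_add, ha, hb, add_zero]

theorem pn_nakIso (hsurj : Function.Surjective (algebraMap A' A))
    (hnil : IsNilpotent (RingHom.ker (algebraMap A' A)))
    (T : Type u) [AddCommGroup T] [Module A' T] [Module.Finite A' T] [Module.Projective A' T]
    (e : A ⊗[A'] T ≃ₗ[A] A) : Nonempty (T ≃ₗ[A'] A') := by
  obtain ⟨t, ht⟩ := TensorProduct.mk_surjective A' T A hsurj (e.symm 1)
  have ht' : e ((1 : A) ⊗ₜ[A'] t) = 1 := by
    have h0 : (1 : A) ⊗ₜ[A'] t = e.symm 1 := ht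
    rw [h0, LinearEquiv.apply_symm_apply]
  let ψ : A' →ₗ[A'] T := LinearMap.toSpanSingleton A' T t
  have hψ : ∀ a, ψ a = a • t := fun a => rfl
  have hkey : ∀ (a' : A') (x : T), e ((1 : A) ⊗ₜ[A'] (a' • x))
      = algebraMap A' A a' * e ((1 : A) ⊗ₜ[A'] x) := by
    intro a' x
    rw [TensorProduct.tmul_smul, ← algebraMap_smul A a' ((1 : A) ⊗ₜ[A'] x), map_smul, smul_eq_mul]
  have hsurjψ : Function.Surjective ψ := by
    rw [← LinearMap.range_eq_top, eq_top_iff]
    apply Submodule.le_of_le_smul_of_le_jacobson_bot Module.Finite.fg_top (pn_le_jacobson hnil)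
    intro x _
    obtain ⟨a', ha'⟩ := hsurj (e ((1 : A) ⊗ₜ[A'] x))
    have hy : (1 : A) ⊗ₜ[A'] (x - a' • t) = 0 := by
      apply e.injective
      rw [TensorProduct.tmul_sub, map_sub, hkey, ht', mul_one, ha', sub_self, map_zero]
    have h1 := pn_mem_smul_of_tmul_eq_zero hsurj _ hy
    have hx : x = a' • t + (x - a' • t) := by abel
    rw [hx]
    exact Submodule.add_mem_sup (LinearMap.mem_range.mpr ⟨a', rfl⟩) h1
  obtain ⟨σ, hσ⟩ := Module.projective_lifting_property ψ LinearMap.id hsurjψ
  have hc : algebraMap A' A (σ t) = 1 := by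
    have h1 : (σ t) • t = t := by
      have h0 := LinearMap.congr_fun hσ t
      rw [LinearMap.comp_apply, LinearMap.id_apply, hψ] at h0
      exact h0
    have h2 := hkey (σ t) t
    rw [h1, ht', mul_one] at h2
    exact h2.symm
  have hunit : IsUnit (σ t) := by
    have h1 : σ t - 1 ∈ RingHom.ker (algebraMap A' A) := by
      rw [RingHom.mem_ker, map_sub, hc, map_one, sub_self]
    have h2 := (pn_isNilpotent_of_mem hnil h1).isUnit_add_one
    rwa [sub_add_cancel] at h2
  have hinjψ : Function.Injective ψ := by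
    rw [injective_iff_map_eq_zero]
    intro a ha
    have h1 : a * σ t = 0 := by
      rw [← smul_eq_mul, ← map_smul, ← hψ a, ha, map_zero]
    exact (hunit.mul_left_eq_zero).mp h1
  exact ⟨(LinearEquiv.ofBijective ψ ⟨hinjψ, hsurjψ⟩).symm⟩

theorem pn_ker_mapMatrix_nilpotent (hnil : IsNilpotent (RingHom.ker (algebraMap A' A))) {n : ℕ}
    (x : Matrix (Fin n) (Fin n) A')
    (hx : x ∈ RingHom.ker ((algebraMap A' A).mapMatrix :
      Matrix (Fin n) (Fin n) A' →+* Matrix (Fin n) (Fin n) A)) :
    IsNilpotent x := by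
  have hxI : ∀ i j, x i j ∈ RingHom.ker (algebraMap A' A) := by
    intro i j
    rw [RingHom.mem_ker] at hx
    have h0 := congrFun (congrFun hx i) j
    rw [RingHom.mem_ker]
    simpa [RingHom.mapMatrix_apply, Matrix.map_apply] using h0
  have hpow : ∀ m : ℕ, ∀ i j, (x ^ m) i j ∈ (RingHom.ker (algebraMap A' A)) ^ m := by
    intro m
    induction m with
    | zero =>
      intro i j
      rw [pow_zero (RingHom.ker (algebraMap A' A)), Ideal.one_eq_top]
      trivial
    | succ m ih =>
      intro i j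
      rw [pow_succ x, pow_succ (RingHom.ker (algebraMap A' A)), Matrix.mul_apply]
      exact Ideal.sum_mem _ (fun l _ => Ideal.mul_mem_mul (ih i l) (hxI l j))
  obtain ⟨k, hk⟩ := hnil
  refine ⟨k, ?_⟩
  ext i j
  have h0 := hpow k i j
  rw [hk, Ideal.zero_eq_bot, Ideal.mem_bot] at h0
  simpa using h0

theorem pn_lift (hsurj : Function.Surjective (algebraMap A' A))
    (hnil : IsNilpotent (RingHom.ker (algebraMap A' A)))
    (L : Type u) [AddCommGroup L] [Module A L] [Module.Finite A L] [Module.Projective A L] :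
    ∃ (M : Type u) (_ : AddCommGroup M) (_ : Module A' M) (_ : Module.Finite A' M)
      (_ : Module.Projective A' M), Nonempty (A ⊗[A'] M ≃ₗ[A] L) := by
  classical
  obtain ⟨n, p, hp⟩ := Module.Finite.exists_fin' A L
  obtain ⟨i, hi⟩ := Module.projective_lifting_property p LinearMap.id hp
  have hpi : ∀ l, p (i l) = l := fun l => LinearMap.congr_fun hi l
  let P : (Fin n → A) →ₗ[A] (Fin n → A) := i ∘ₗ p
  have hP : ∀ v, P v = i (p v) := fun v => rfl
  have hPP : P ∘ₗ P = P := by
    apply LinearMap.ext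
    intro v
    rw [LinearMap.comp_apply, hP, hP, hpi]
  let Pm : Matrix (Fin n) (Fin n) A := LinearMap.toMatrix' P
  have hPm : IsIdempotentElem Pm := by
    show Pm * Pm = Pm
    rw [← LinearMap.toMatrix'_comp, hPP]
  let φ : Matrix (Fin n) (Fin n) A' →+* Matrix (Fin n) (Fin n) A := (algebraMap A' A).mapMatrix
  have hrange : Pm ∈ φ.range := by
    refine ⟨Pm.map (Function.surjInv hsurj), ?_⟩
    ext a b
    simp [φ, Function.surjInv_eq hsurj]
  obtain ⟨Q, hQ, hφQ⟩ := exists_isIdempotentElem_eq_of_ker_isNilpotent φ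
    (fun x hx => pn_ker_mapMatrix_nilpotent hnil x hx) Pm hrange hPm
  let q : (Fin n → A') →ₗ[A'] (Fin n → A') := Matrix.toLin' Q
  have hqq : ∀ v, q (q v) = q v := by
    intro v
    show Matrix.toLin' Q (Matrix.toLin' Q v) = Matrix.toLin' Q v
    rw [← LinearMap.comp_apply, ← Matrix.toLin'_mul, hQ.eq]
  let c : (Fin n → A') →ₗ[A'] (Fin n → A) := (Algebra.linearMap A' A).compLeft (Fin n)
  have hc : ∀ v a, c v a = algebraMap A' A (v a) := fun v a => rfl
  have hcq : ∀ v, c (q v) = P (c v) := by
    intro v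
    have h1 : P (c v) = Pm *ᵥ (c v) := by
      have h0 : P = Matrix.toLin' Pm := (Matrix.toLin'_toMatrix' P).symm
      conv_lhs => rw [h0]
      rw [Matrix.toLin'_apply]
    rw [h1, ← hφQ]
    ext a
    have h2 := RingHom.map_mulVec (algebraMap A' A) Q v a
    rw [hc]
    show algebraMap A' A ((Matrix.toLin' Q v) a) = ((algebraMap A' A).mapMatrix Q *ᵥ c v) a
    rw [Matrix.toLin'_apply, h2]
    rfl
  let M : Submodule A' (Fin n → A') := LinearMap.range q
  have hMfix : ∀ m : M, q m.1 = m.1 := by
    rintro ⟨_, v, rfl⟩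
    exact hqq v
  haveI : Module.Projective A' M :=
    Module.Projective.of_split M.subtype q.rangeRestrict (by
      apply LinearMap.ext
      intro m
      apply Subtype.ext
      exact hMfix m)
  haveI : Module.Finite A' M := Module.Finite.range q
  let g : M →ₗ[A'] (Fin n → A) := c ∘ₗ M.subtype
  let α : A ⊗[A'] M →ₗ[A] L := p ∘ₗ (LinearMap.liftBaseChange A g)
  have hα : ∀ (a : A) (m : M), α (a ⊗ₜ m) = a • p (c m.1) := by
    intro a m
    simp [α, g]
  have hαsurj : Function.Surjective α := by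
    intro l
    let v' : Fin n → A' := fun a => Function.surjInv hsurj (i l a)
    have hv' : c v' = i l := by
      ext a
      exact Function.surjInv_eq hsurj _
    refine ⟨(1 : A) ⊗ₜ[A'] (⟨q v', LinearMap.mem_range_self q v'⟩ : M), ?_⟩
    rw [hα, one_smul]
    show p (c (q v')) = l
    rw [hcq, hv', hP, hpi, hpi]
  have hαinj : Function.Injective α := by
    rw [injective_iff_map_eq_zero]
    intro z hz
    obtain ⟨m, rfl⟩ := TensorProduct.mk_surjective A' M A hsurj z
    have hz' : p (c m.1) = 0 := by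
      have h0 := hα 1 m
      rw [one_smul] at h0
      rw [← h0]
      exact hz
    have hcm : c m.1 = 0 := by
      have h1 : c m.1 = P (c m.1) := by rw [← hcq, hMfix]
      rw [h1, hP, hz', map_zero]
    have hmI : ∀ a, m.1 a ∈ RingHom.ker (algebraMap A' A) := by
      intro a
      rw [RingHom.mem_ker, ← hc, hcm]
      rfl
    have hmem : m ∈ (RingHom.ker (algebraMap A' A)) • (⊤ : Submodule A' M) := by
      have hsum : m = ∑ a, (m.1 a) •
          (⟨q (fun j => if a = j then 1 else 0), LinearMap.mem_range_self q _⟩ : M) := by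
        apply Subtype.ext
        rw [Submodule.coe_sum]
        simp only [Submodule.coe_smul]
        conv_lhs => rw [← hMfix m, LinearMap.pi_apply_eq_sum_univ q m.1]
      rw [hsum]
      exact Submodule.sum_mem _ (fun a _ => Submodule.smul_mem_smul (hmI a) Submodule.mem_top)
    exact pn_tmul_eq_zero_of_mem_smul m hmem
  exact ⟨M, inferInstance, inferInstance, inferInstance, inferInstance,
    ⟨LinearEquiv.ofBijective α ⟨hαinj, hαsurj⟩⟩⟩

end PicNil

end Groth.Agent.Lib.helper7
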