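import Mathlib
import Groth.Prelude.Def_ProCons

set_option autoImplicit false
open CategoryTheory AlgebraicGeometry Topology
open scoped Set.Notation
universe u

namespace Groth.Agent.Lib.helper7

/-- Constructible sets of a quasi-compact space are clopen in the constructible topology. -/
theorem isClosed_isOpen_constructibleTopology {X : Type*} [TopologicalSpace X] [CompactSpace X]
    {s : Set X} (hs : IsConstructible s) :
    IsClosed[constructibleTopology X] s ∧ IsOpen[constructibleTopology X] s := by
  induction hs using IsConstructible.empty_union_induction with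
  | open_retrocompact U hUopen hUcomp =>
    have hc : IsCompact U := hUcomp.isCompact
    refine ⟨@IsClosed.mk X (constructibleTopology X) U ?_,
      hc.isOpen_constructibleTopology_of_isOpen hUopen⟩
    exact IsCompact.isOpen_constructibleTopology_of_isClosed (by rwa [compl_compl])
      hUopen.isClosed_compl
  | union s hs t ht hs' ht' =>
    exact ⟨@IsClosed.union _ _ _ (constructibleTopology X) hs'.1 ht'.1,
      @IsOpen.union _ _ _ (constructibleTopology X) hs'.2 ht'.2⟩
  | compl s hs hs' =>
    exact ⟨@IsClosed.mk X (constructibleTopology X) sᶜ (by rw [compl_compl]; exact hs'.2), hs'.1.1⟩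

/-- In a spectral space, a point in the closure of an intersection of constructible sets is a
specialization of a point of that intersection. -/
theorem exists_specializes_of_mem_closure_sInter {X : Type*} [TopologicalSpace X] [CompactSpace X]
    [QuasiSober X] [PrespectralSpace X] [QuasiSeparatedSpace X] {S : Set (Set X)}
    (hS : ∀ T ∈ S, IsConstructible T) {y : X} (hy : y ∈ closure (⋂₀ S)) :
    ∃ z ∈ ⋂₀ S, z ⤳ y := by
  have hcomp : @CompactSpace X (constructibleTopology X) :=
    @Function.Surjective.compactSpace (WithConstructibleTopology X) X _ (constructibleTopology X)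
      WithTopology.ofTopology (WithTopology.continuous_ofTopology _) inferInstance
      (WithTopology.ofTopology_surjective _)
  let N : Set (Set X) := {U | IsOpen U ∧ IsCompact U ∧ y ∈ U}
  have hne : (⋂₀ (S ∪ N)).Nonempty := by
    refine @CompactSpace.nonempty_sInter X (constructibleTopology X) hcomp (S ∪ N) ?_ ?_
    · rintro t (ht | ht)
      · exact (isClosed_isOpen_constructibleTopology (hS t ht)).1
      · exact (isClosed_isOpen_constructibleTopology (ht.2.1.isConstructible ht.1)).1
    · intro F hF hfin
      have hV : IsOpen (⋂₀ (F ∩ N)) :=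
        (hfin.subset Set.inter_subset_left).isOpen_sInter (fun t ht => ht.2.1)
      have hyV : y ∈ ⋂₀ (F ∩ N) := fun t ht => ht.2.2.2
      obtain ⟨z, hzV, hzS⟩ := mem_closure_iff.1 hy _ hV hyV
      refine ⟨z, fun t ht => ?_⟩
      rcases hF ht with h | h
      · exact hzS t h
      · exact hzV t ⟨ht, h⟩
  obtain ⟨z, hz⟩ := hne
  refine ⟨z, fun t ht => hz t (Or.inl ht), ?_⟩
  rw [specializes_iff_forall_open]
  intro s hs hys
  obtain ⟨U, ⟨hU1, hU2⟩, hyU, hUs⟩ :=
    PrespectralSpace.isTopologicalBasis.exists_subset_of_mem_open hys hs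
  exact hUs (hz U (Or.inr ⟨hU1, hU2, hyU⟩))

/-- In a scheme, a point in the closure of a pro-constructible set is a specialization of a point
of that set. -/
theorem exists_specializes_of_mem_closure_of_isProConstructible {X : Scheme.{u}} {Z : Set X}
    (hZ : ProCons.IsProConstructible Z) {y : X} (hy : y ∈ closure Z) : ∃ z ∈ Z, z ⤳ y := by
  obtain ⟨U, hU, hyU, S, hS, hE⟩ := hZ y
  obtain ⟨W, hW, hyW, hWU⟩ :=
    exists_isAffineOpen_mem_and_subset (X := X) (x := y) (U := ⟨U, hU⟩) hyU
  have i1 : CompactSpace ↥W := isCompact_iff_compactSpace.mp hW.isCompact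
  have hWe : IsOpenEmbedding (Subtype.val : ↥W → X) := W.2.isOpenEmbedding_subtypeVal
  have i2 : QuasiSober ↥W := hWe.quasiSober
  have i3 : PrespectralSpace ↥W := hWe.prespectralSpace
  have i4 : QuasiSeparatedSpace ↥W :=
    (isQuasiSeparated_iff_quasiSeparatedSpace _ W.2).1 hW.isQuasiSeparated
  let j : ↥W → ↥U := fun w => ⟨w.1, hWU w.2⟩
  have hj : IsOpenEmbedding j := by
    have h1 : IsOpenEmbedding (Subtype.val ∘ j) := hWe
    exact IsOpenEmbedding.of_comp j hU.isOpenEmbedding_subtypeVal h1
  have hS' : ∀ T ∈ (fun T => j ⁻¹' T) '' S, IsConstructible T := by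
    rintro _ ⟨T, hT, rfl⟩
    exact ((hS T hT).preimage_of_isOpenEmbedding hj).isConstructible
  have hEq : ⋂₀ ((fun T => j ⁻¹' T) '' S) = (Subtype.val ⁻¹' Z : Set ↥W) := by
    ext w
    have h1 : j w ∈ (Subtype.val ⁻¹' Z : Set ↥U) ↔ w ∈ (Subtype.val ⁻¹' Z : Set ↥W) :=
      Iff.rfl
    rw [← h1, hE]
    simp only [Set.mem_sInter, Set.mem_image, forall_exists_index, and_imp,
      forall_apply_eq_imp_iff₂, Set.mem_preimage]
  have hy' : (⟨y, hyW⟩ : ↥W) ∈ closure (⋂₀ ((fun T => j ⁻¹' T) '' S)) := by
    rw [hEq, ← hWe.isOpenMap.preimage_closure_eq_closure_preimage continuous_subtype_val]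
    exact hy
  obtain ⟨z, hz, hzy⟩ := exists_specializes_of_mem_closure_sInter hS' hy'
  rw [hEq] at hz
  exact ⟨z.1, hz, hzy.map continuous_subtype_val⟩

/-- In a T0 prespectral quasi-separated space, a singleton is the intersection of the constructible
sets containing it. -/
theorem singleton_eq_sInter_isConstructible {X : Type*} [TopologicalSpace X] [T0Space X]
    [PrespectralSpace X] [QuasiSeparatedSpace X] (p : X) :
    ({p} : Set X) = ⋂₀ {T | IsConstructible T ∧ p ∈ T} := by
  apply Set.Subset.antisymm
  · intro q hq T hT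
    rw [Set.mem_singleton_iff] at hq
    rw [hq]
    exact hT.2
  · intro q hq
    by_contra hne
    have hne' : q ≠ p := hne
    obtain ⟨U, hU, hx⟩ := exists_isOpen_xor'_mem hne'
    rcases hx with ⟨hqU, hpU⟩ | ⟨hpU, hqU⟩
    · obtain ⟨V, ⟨hV1, hV2⟩, hqV, hVU⟩ :=
        PrespectralSpace.isTopologicalBasis.exists_subset_of_mem_open hqU hU
      have := hq Vᶜ ⟨(hV2.isConstructible hV1).compl, fun h => hpU (hVU h)⟩
      exact this hqV
    · obtain ⟨V, ⟨hV1, hV2⟩, hpV, hVU⟩ :=
        PrespectralSpace.isTopologicalBasis.exists_subset_of_mem_open hpU hU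
      exact hqU (hVU (hq V ⟨hV2.isConstructible hV1, hpV⟩))

/-- Singletons of a scheme are pro-constructible. -/
theorem isProConstructible_singleton {X : Scheme.{u}} (p : X) :
    ProCons.IsProConstructible ({p} : Set X) := by
  intro x
  obtain ⟨W, hW, hxW, -⟩ :=
    exists_isAffineOpen_mem_and_subset (X := X) (x := x) (U := ⊤) trivial
  refine ⟨(W : Set X), W.2, hxW, ?_⟩
  have hWe : IsOpenEmbedding (Subtype.val : ↥(W : Set X) → X) := W.2.isOpenEmbedding_subtypeVal
  have i3 : PrespectralSpace ↥(W : Set X) := hWe.prespectralSpace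
  have i4 : QuasiSeparatedSpace ↥(W : Set X) :=
    (isQuasiSeparated_iff_quasiSeparatedSpace _ W.2).1 hW.isQuasiSeparated
  by_cases hp : p ∈ (W : Set X)
  · refine ⟨{T | IsConstructible T ∧ (⟨p, hp⟩ : ↥(W : Set X)) ∈ T},
      fun T hT => hT.1.isLocallyConstructible, ?_⟩
    rw [← singleton_eq_sInter_isConstructible]
    ext w
    simp [Subtype.ext_iff]
  · refine ⟨{∅}, ?_, ?_⟩
    · rintro _ rfl
      exact IsLocallyConstructible.empty
    · ext w
      simp only [Set.mem_preimage, Set.mem_singleton_iff, Set.sInter_singleton,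
        Set.mem_empty_iff_false, iff_false]
      intro h
      exact hp (h ▸ w.2)

end Groth.Agent.Lib.helper7
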