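import Mathlib
import Groth.Prelude.Def_W4c2movlemaddchowShuffle

set_option autoImplicit false

open Equiv

namespace Groth.Agent.Lib.helper7.Shuffle

open W4c2movlemaddchow

theorem extRight_castAdd (a t : ℕ) (σ : Perm (Fin a)) (i : Fin a) :
    extRight a t σ (Fin.castAdd t i) = Fin.castAdd t (σ i) := by
  simp [extRight, Equiv.permCongr_apply]

theorem extRight_natAdd (a t : ℕ) (σ : Perm (Fin a)) (j : Fin t) :
    extRight a t σ (Fin.natAdd a j) = Fin.natAdd a j := by
  simp [extRight, Equiv.permCongr_apply]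

/-- Extend a permutation of `Fin b` to `Fin (r + b)`, identity on the first `r` positions. -/
def extL (r b : ℕ) (σ : Perm (Fin b)) : Perm (Fin (r + b)) :=
  finSumFinEquiv.permCongr ((Equiv.refl (Fin r)).sumCongr σ)

theorem extL_castAdd (r b : ℕ) (σ : Perm (Fin b)) (i : Fin r) :
    extL r b σ (Fin.castAdd b i) = Fin.castAdd b i := by
  simp [extL, Equiv.permCongr_apply]

theorem extL_natAdd (r b : ℕ) (σ : Perm (Fin b)) (j : Fin b) :
    extL r b σ (Fin.natAdd r j) = Fin.natAdd r (σ j) := by
  simp [extL, Equiv.permCongr_apply]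

theorem castAdd_ne_natAdd' (a t : ℕ) (i : Fin a) (j : Fin t) :
    Fin.castAdd t i ≠ Fin.natAdd a j := by
  intro h
  have h2 := congrArg Fin.val h
  simp at h2
  have := i.isLt
  omega

theorem range_first (a t : ℕ) (τ : Perm (Fin (a + t))) (x : Fin (a + t)) :
    x ∈ Set.range (fun i : Fin a => τ (Fin.castAdd t i)) ↔
      x ∉ Set.range (fun j : Fin t => τ (Fin.natAdd a j)) := by
  constructor
  · rintro ⟨i, rfl⟩ ⟨j, hj⟩
    exact castAdd_ne_natAdd' a t i j (τ.injective hj).symm
  · intro hx
    obtain ⟨y, rfl⟩ := τ.surjective x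
    induction y using Fin.addCases with
    | left i => exact ⟨i, rfl⟩
    | right j => exact absurd ⟨j, rfl⟩ hx

theorem range_last (a t : ℕ) (τ : Perm (Fin (a + t))) (x : Fin (a + t)) :
    x ∈ Set.range (fun j : Fin t => τ (Fin.natAdd a j)) ↔
      x ∉ Set.range (fun i : Fin a => τ (Fin.castAdd t i)) := by
  rw [range_first]; exact not_not.symm

theorem inj_first (a t : ℕ) (τ : Perm (Fin (a + t))) :
    Function.Injective (fun i : Fin a => τ (Fin.castAdd t i)) :=
  fun _ _ hxy => Fin.castAdd_injective _ _ (τ.injective hxy)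

theorem inj_last (a t : ℕ) (τ : Perm (Fin (a + t))) :
    Function.Injective (fun j : Fin t => τ (Fin.natAdd a j)) :=
  fun _ _ hxy => Fin.natAdd_injective _ _ (τ.injective hxy)

theorem shuffle_eq_of_last (a t : ℕ) (τ₁ τ₂ : Perm (Fin (a + t)))
    (h₁ : IsShuffle₂ a t τ₁) (h₂ : IsShuffle₂ a t τ₂)
    (h : ∀ j : Fin t, τ₁ (Fin.natAdd a j) = τ₂ (Fin.natAdd a j)) : τ₁ = τ₂ := by
  have hf₁ := h₁.1.strictMono_of_injective (inj_first a t τ₁)
  have hf₂ := h₂.1.strictMono_of_injective (inj_first a t τ₂)
  have hr : Set.range (fun i : Fin a => τ₁ (Fin.castAdd t i)) =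
      Set.range (fun i : Fin a => τ₂ (Fin.castAdd t i)) := by
    ext x
    rw [range_first, range_first]
    have : (fun j : Fin t => τ₁ (Fin.natAdd a j)) = (fun j : Fin t => τ₂ (Fin.natAdd a j)) :=
      funext h
    rw [this]
  have hfe := (StrictMono.range_inj hf₁ hf₂).mp hr
  apply Equiv.ext
  intro x
  induction x using Fin.addCases with
  | left i => exact congrFun hfe i
  | right j => exact h j

theorem shuffle_eq_of_first (a t : ℕ) (τ₁ τ₂ : Perm (Fin (a + t)))
    (h₁ : IsShuffle₂ a t τ₁) (h₂ : IsShuffle₂ a t τ₂)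
    (h : ∀ i : Fin a, τ₁ (Fin.castAdd t i) = τ₂ (Fin.castAdd t i)) : τ₁ = τ₂ := by
  have hf₁ := h₁.2.strictMono_of_injective (inj_last a t τ₁)
  have hf₂ := h₂.2.strictMono_of_injective (inj_last a t τ₂)
  have hr : Set.range (fun j : Fin t => τ₁ (Fin.natAdd a j)) =
      Set.range (fun j : Fin t => τ₂ (Fin.natAdd a j)) := by
    ext x
    rw [range_last, range_last]
    have : (fun i : Fin a => τ₁ (Fin.castAdd t i)) = (fun i : Fin a => τ₂ (Fin.castAdd t i)) :=
      funext h
    rw [this]
  have hfe := (StrictMono.range_inj hf₁ hf₂).mp hr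
  apply Equiv.ext
  intro x
  induction x using Fin.addCases with
  | left i => exact h i
  | right j => exact congrFun hfe j

theorem exists_shuffle_of_last (a t : ℕ) (ν : Perm (Fin (a + t)))
    (hν : Monotone (fun j : Fin t => ν (Fin.natAdd a j))) :
    ∃ τ : Perm (Fin (a + t)), IsShuffle₂ a t τ ∧
      ∀ j : Fin t, τ (Fin.natAdd a j) = ν (Fin.natAdd a j) := by
  classical
  have hinj := inj_last a t ν
  have hTc : (Finset.univ.image (fun j : Fin t => ν (Fin.natAdd a j))).card = t := by
    rw [Finset.card_image_of_injective _ hinj, Finset.card_univ, Fintype.card_fin]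
  have hm : ((Finset.univ.image (fun j : Fin t => ν (Fin.natAdd a j)))ᶜ).card = a := by
    rw [Finset.card_compl, hTc, Fintype.card_fin]; omega
  have hn : ((Finset.univ.image (fun j : Fin t => ν (Fin.natAdd a j)))ᶜᶜ).card = t := by
    rw [compl_compl]; exact hTc
  refine ⟨finSumFinEquiv.symm.trans (finSumEquivOfFinset hm hn), ⟨?_, ?_⟩, ?_⟩
  · intro i i' hii'
    simp only [Equiv.trans_apply, finSumFinEquiv_symm_apply_castAdd, finSumEquivOfFinset_inl]
    exact (Finset.orderEmbOfFin _ hm).monotone hii'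
  · intro j j' hjj'
    simp only [Equiv.trans_apply, finSumFinEquiv_symm_apply_natAdd, finSumEquivOfFinset_inr]
    exact (Finset.orderEmbOfFin _ hn).monotone hjj'
  · intro j
    simp only [Equiv.trans_apply, finSumFinEquiv_symm_apply_natAdd, finSumEquivOfFinset_inr]
    have hu := Finset.orderEmbOfFin_unique hn (f := fun j : Fin t => ν (Fin.natAdd a j))
      (fun x => by simp) (hν.strictMono_of_injective hinj)
    exact (congrFun hu j).symm

theorem exists_shuffle_of_first (a t : ℕ) (ν : Perm (Fin (a + t)))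
    (hν : Monotone (fun i : Fin a => ν (Fin.castAdd t i))) :
    ∃ τ : Perm (Fin (a + t)), IsShuffle₂ a t τ ∧
      ∀ i : Fin a, τ (Fin.castAdd t i) = ν (Fin.castAdd t i) := by
  classical
  have hinj := inj_first a t ν
  have hm : (Finset.univ.image (fun i : Fin a => ν (Fin.castAdd t i))).card = a := by
    rw [Finset.card_image_of_injective _ hinj, Finset.card_univ, Fintype.card_fin]
  have hn : ((Finset.univ.image (fun i : Fin a => ν (Fin.castAdd t i)))ᶜ).card = t := by
    rw [Finset.card_compl, hm, Fintype.card_fin]; omega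
  refine ⟨finSumFinEquiv.symm.trans (finSumEquivOfFinset hm hn), ⟨?_, ?_⟩, ?_⟩
  · intro i i' hii'
    simp only [Equiv.trans_apply, finSumFinEquiv_symm_apply_castAdd, finSumEquivOfFinset_inl]
    exact (Finset.orderEmbOfFin _ hm).monotone hii'
  · intro j j' hjj'
    simp only [Equiv.trans_apply, finSumFinEquiv_symm_apply_natAdd, finSumEquivOfFinset_inr]
    exact (Finset.orderEmbOfFin _ hn).monotone hjj'
  · intro i
    simp only [Equiv.trans_apply, finSumFinEquiv_symm_apply_castAdd, finSumEquivOfFinset_inl]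
    have hu := Finset.orderEmbOfFin_unique hm (f := fun i : Fin a => ν (Fin.castAdd t i))
      (fun x => by simp) (hν.strictMono_of_injective hinj)
    exact (congrFun hu i).symm

theorem exists_extRight_eq (a t : ℕ) (ρ : Perm (Fin (a + t)))
    (hρ : ∀ j : Fin t, ρ (Fin.natAdd a j) = Fin.natAdd a j) :
    ∃ σ : Perm (Fin a), extRight a t σ = ρ := by
  have h : ∀ i : Fin a, ∃ i' : Fin a, ρ (Fin.castAdd t i) = Fin.castAdd t i' := by
    intro i
    generalize hy : ρ (Fin.castAdd t i) = y
    induction y using Fin.addCases with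
    | left i' => exact ⟨i', rfl⟩
    | right j =>
      exfalso
      have h1 : ρ (Fin.castAdd t i) = ρ (Fin.natAdd a j) := by rw [hy, hρ]
      exact castAdd_ne_natAdd' a t i j (ρ.injective h1)
  choose f hf using h
  have hfi : Function.Injective f := by
    intro x y hxy
    have : ρ (Fin.castAdd t x) = ρ (Fin.castAdd t y) := by rw [hf, hf, hxy]
    exact Fin.castAdd_injective _ _ (ρ.injective this)
  refine ⟨Equiv.ofBijective f (Finite.injective_iff_bijective.mp hfi), ?_⟩
  apply Equiv.ext
  intro x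
  induction x using Fin.addCases with
  | left i => rw [extRight_castAdd, hf, Equiv.ofBijective_apply]
  | right j => rw [extRight_natAdd, hρ]

theorem exists_extL_eq (r b : ℕ) (ρ : Perm (Fin (r + b)))
    (hρ : ∀ i : Fin r, ρ (Fin.castAdd b i) = Fin.castAdd b i) :
    ∃ σ : Perm (Fin b), extL r b σ = ρ := by
  have h : ∀ j : Fin b, ∃ j' : Fin b, ρ (Fin.natAdd r j) = Fin.natAdd r j' := by
    intro j
    generalize hy : ρ (Fin.natAdd r j) = y
    induction y using Fin.addCases with
    | left i =>
      exfalso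
      have h1 : ρ (Fin.castAdd b i) = ρ (Fin.natAdd r j) := by rw [hy, hρ]
      exact castAdd_ne_natAdd' r b i j (ρ.injective h1)
    | right j' => exact ⟨j', rfl⟩
  choose f hf using h
  have hfi : Function.Injective f := by
    intro x y hxy
    have : ρ (Fin.natAdd r x) = ρ (Fin.natAdd r y) := by rw [hf, hf, hxy]
    exact Fin.natAdd_injective _ _ (ρ.injective this)
  refine ⟨Equiv.ofBijective f (Finite.injective_iff_bijective.mp hfi), ?_⟩
  apply Equiv.ext
  intro x
  induction x using Fin.addCases with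
  | left i => rw [extL_castAdd, hρ]
  | right j => rw [extL_natAdd, hf, Equiv.ofBijective_apply]

end Groth.Agent.Lib.helper7.Shuffle
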