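import Mathlib
import Groth.Agent.Lib.helper7.Shuffle

set_option autoImplicit false

open Equiv

namespace Groth.Agent.Lib.helper7.Shuffle

open W4c2movlemaddchow

/-- three-block shuffles on `Fin (r + (s + t))`. -/
def IsShuffle₃' (r s t : ℕ) (ν : Perm (Fin (r + (s + t)))) : Prop :=
  Monotone (fun i : Fin r => ν (Fin.castAdd (s + t) i)) ∧
  Monotone (fun j : Fin s => ν (Fin.natAdd r (Fin.castAdd t j))) ∧
  Monotone (fun l : Fin t => ν (Fin.natAdd r (Fin.natAdd s l)))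

theorem bijOn_left (r s t : ℕ) :
    Set.BijOn (fun p : Perm (Fin (r + (s + t))) × Perm (Fin (s + t)) => p.1 * extL r (s + t) p.2)
      ({τ | IsShuffle₂ r (s + t) τ} ×ˢ {σ | IsShuffle₂ s t σ}) {ν | IsShuffle₃' r s t ν} := by
  refine ⟨?_, ?_, ?_⟩
  · rintro ⟨τ, σ⟩ ⟨hτ, hσ⟩
    simp only [Set.mem_setOf_eq] at hτ hσ
    show IsShuffle₃' r s t (τ * extL r (s + t) σ)
    refine ⟨?_, ?_, ?_⟩
    · intro i i' h
      simp only [Perm.mul_apply, extL_castAdd]
      exact hτ.1 h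
    · intro j j' h
      simp only [Perm.mul_apply, extL_natAdd]
      exact hτ.2 (hσ.1 h)
    · intro l l' h
      simp only [Perm.mul_apply, extL_natAdd]
      exact hτ.2 (hσ.2 h)
  · rintro ⟨τ₁, σ₁⟩ ⟨hτ₁, hσ₁⟩ ⟨τ₂, σ₂⟩ ⟨hτ₂, hσ₂⟩ heq
    simp only [Set.mem_setOf_eq] at hτ₁ hσ₁ hτ₂ hσ₂
    have heq' : τ₁ * extL r (s + t) σ₁ = τ₂ * extL r (s + t) σ₂ := heq
    have hτ : τ₁ = τ₂ := by
      apply shuffle_eq_of_first _ _ _ _ hτ₁ hτ₂
      intro i
      have h1 := congrArg (fun ν : Perm (Fin (r + (s + t))) => ν (Fin.castAdd (s + t) i)) heq'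
      simpa only [Perm.mul_apply, extL_castAdd] using h1
    subst hτ
    have hext := mul_left_cancel heq'
    have hσ : σ₁ = σ₂ := by
      apply Equiv.ext; intro j
      have h1 := congrArg (fun ν : Perm (Fin (r + (s + t))) => ν (Fin.natAdd r j)) hext
      simp only [extL_natAdd] at h1
      exact Fin.natAdd_injective _ _ h1
    rw [hσ]
  · intro ν hν
    have hν' : IsShuffle₃' r s t ν := hν
    obtain ⟨τ, hτ, hτν⟩ := exists_shuffle_of_first r (s + t) ν hν'.1
    obtain ⟨σ, hσ⟩ := exists_extL_eq r (s + t) (τ⁻¹ * ν) (by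
      intro i
      rw [Perm.mul_apply, ← hτν i]; simp)
    have hprod : τ * extL r (s + t) σ = ν := by rw [hσ, mul_inv_cancel_left]
    have hsm : StrictMono (fun j : Fin (s + t) => τ (Fin.natAdd r j)) :=
      hτ.2.strictMono_of_injective (inj_last r (s + t) τ)
    refine ⟨(τ, σ), Set.mk_mem_prod hτ ⟨?_, ?_⟩, hprod⟩
    · intro j j' h
      have h1 := hν'.2.1 h
      simp only [← hprod, Perm.mul_apply, extL_natAdd] at h1
      exact hsm.le_iff_le.mp h1
    · intro l l' h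
      have h1 := hν'.2.2 h
      simp only [← hprod, Perm.mul_apply, extL_natAdd] at h1
      exact hsm.le_iff_le.mp h1

theorem conj_mul_extLeft (r s t : ℕ) (τ : Perm (Fin (r + s + t))) (σ : Perm (Fin (s + t))) :
    (finCongr (Nat.add_assoc r s t)).permCongr (τ * extLeft r s t σ) =
      (finCongr (Nat.add_assoc r s t)).permCongr τ * extL r (s + t) σ := by
  apply Equiv.ext; intro x
  simp [Equiv.permCongr_apply, extLeft, extL, Perm.mul_apply]

theorem isShuffle₃_iff (r s t : ℕ) (ν : Perm (Fin (r + s + t))) :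
    IsShuffle₃ r s t ν ↔ IsShuffle₃' r s t ((finCongr (Nat.add_assoc r s t)).permCongr ν) := by
  have c1 : ∀ i : Fin r, (finCongr (Nat.add_assoc r s t)).symm (Fin.castAdd (s + t) i) =
      Fin.castAdd t (Fin.castAdd s i) := fun i => Fin.ext (by simp)
  have c2 : ∀ j : Fin s, (finCongr (Nat.add_assoc r s t)).symm (Fin.natAdd r (Fin.castAdd t j)) =
      Fin.castAdd t (Fin.natAdd r j) := fun j => Fin.ext (by simp)
  have c3 : ∀ l : Fin t, (finCongr (Nat.add_assoc r s t)).symm (Fin.natAdd r (Fin.natAdd s l)) =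
      Fin.natAdd (r + s) l := fun l => Fin.ext (by simp; omega)
  have cm : ∀ x y : Fin (r + s + t), finCongr (Nat.add_assoc r s t) x ≤
      finCongr (Nat.add_assoc r s t) y ↔ x ≤ y := fun x y => Iff.rfl
  unfold IsShuffle₃ IsShuffle₃'
  simp only [Monotone, Equiv.permCongr_apply, c1, c2, c3, cm]

theorem bijOn_extLeft (r s t : ℕ) :
    Set.BijOn
      (fun p : Equiv.Perm (Fin (r + s + t)) × Equiv.Perm (Fin (s + t)) =>
        p.1 * W4c2movlemaddchow.extLeft r s t p.2)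
      ({τ | W4c2movlemaddchow.IsShuffle₂ r (s + t) ((finCongr (Nat.add_assoc r s t)).permCongr τ)} ×ˢ
        {σ | W4c2movlemaddchow.IsShuffle₂ s t σ})
      {ν | W4c2movlemaddchow.IsShuffle₃ r s t ν} := by
  have hM := bijOn_left r s t
  refine ⟨?_, ?_, ?_⟩
  · rintro ⟨τ, σ⟩ ⟨hτ, hσ⟩
    show IsShuffle₃ r s t (τ * extLeft r s t σ)
    rw [isShuffle₃_iff, conj_mul_extLeft]
    exact hM.mapsTo (Set.mk_mem_prod hτ hσ)
  · rintro ⟨τ₁, σ₁⟩ ⟨hτ₁, hσ₁⟩ ⟨τ₂, σ₂⟩ ⟨hτ₂, hσ₂⟩ heq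
    have heq' : τ₁ * extLeft r s t σ₁ = τ₂ * extLeft r s t σ₂ := heq
    have h2 : (finCongr (Nat.add_assoc r s t)).permCongr τ₁ * extL r (s + t) σ₁ =
        (finCongr (Nat.add_assoc r s t)).permCongr τ₂ * extL r (s + t) σ₂ := by
      rw [← conj_mul_extLeft, ← conj_mul_extLeft, heq']
    have h3 := hM.injOn (Set.mk_mem_prod hτ₁ hσ₁) (Set.mk_mem_prod hτ₂ hσ₂) h2
    have h4 := Prod.ext_iff.mp h3
    exact Prod.ext (Equiv.injective _ h4.1) h4.2
  · intro ν hν
    have hν' : IsShuffle₃' r s t ((finCongr (Nat.add_assoc r s t)).permCongr ν) :=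
      (isShuffle₃_iff r s t ν).mp hν
    obtain ⟨⟨τ', σ⟩, ⟨hτ', hσ⟩, hg⟩ := hM.surjOn hν'
    have hg' : τ' * extL r (s + t) σ = (finCongr (Nat.add_assoc r s t)).permCongr ν := hg
    refine ⟨(((finCongr (Nat.add_assoc r s t)).permCongr).symm τ', σ), Set.mk_mem_prod ?_ hσ, ?_⟩
    · show IsShuffle₂ r (s + t) ((finCongr (Nat.add_assoc r s t)).permCongr
        (((finCongr (Nat.add_assoc r s t)).permCongr).symm τ'))
      rw [Equiv.apply_symm_apply]; exact hτ'
    · show ((finCongr (Nat.add_assoc r s t)).permCongr).symm τ' * extLeft r s t σ = ν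
      apply ((finCongr (Nat.add_assoc r s t)).permCongr).injective
      rw [conj_mul_extLeft, Equiv.apply_symm_apply]; exact hg'

end Groth.Agent.Lib.helper7.Shuffle
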