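import Mathlib

set_option autoImplicit false

namespace Groth.Agent.Lib.helper7

/-- If a closed subalgebra `A` of `k⟦X⟧` contains elements of every order `≥ c`, it contains
every power series of order `≥ c`. -/
theorem tfcurv_mem_of_order_ge {k : Type*} [Field k] (A : Subalgebra k (PowerSeries k))
    (hcl : ∀ f : PowerSeries k,
      (∀ n : ℕ, ∃ g ∈ A, (n : ℕ∞) ≤ PowerSeries.order (f - g)) → f ∈ A)
    (c : ℕ) (hc : ∀ n : ℕ, c ≤ n → ∃ f ∈ A, PowerSeries.order f = n)
    (h : PowerSeries k) (hh : (c : ℕ∞) ≤ PowerSeries.order h) : h ∈ A := by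
  apply hcl
  have key : ∀ n : ℕ, ∃ a ∈ A, (∀ i < n, PowerSeries.coeff i (h - a) = 0) ∧
      (∀ i < c, PowerSeries.coeff i a = 0) := by
    intro n
    induction n with
    | zero =>
      exact ⟨0, A.zero_mem, fun i hi => absurd hi (Nat.not_lt_zero i), fun i _ => by simp⟩
    | succ n ih =>
      obtain ⟨a, haA, ha1, ha2⟩ := ih
      by_cases hn : PowerSeries.coeff n (h - a) = 0
      · refine ⟨a, haA, fun i hi => ?_, ha2⟩
        rcases Nat.lt_succ_iff_lt_or_eq.mp hi with h1 | h1
        · exact ha1 i h1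
        · rw [h1]
          exact hn
      · have hcn : c ≤ n := by
          by_contra hlt
          have hlt' : n < c := Nat.lt_of_not_le hlt
          apply hn
          rw [map_sub, ha2 n hlt',
            PowerSeries.coeff_of_lt_order n (lt_of_lt_of_le (Nat.cast_lt.mpr hlt') hh), sub_zero]
        obtain ⟨b, hbA, hb⟩ := hc n hcn
        obtain ⟨hb1, hb2⟩ := PowerSeries.order_eq_nat.mp hb
        refine ⟨a + (PowerSeries.coeff n (h - a) / PowerSeries.coeff n b) • b,
          A.add_mem haA (A.smul_mem hbA _), fun i hi => ?_, fun i hi => ?_⟩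
        · have e : h - (a + (PowerSeries.coeff n (h - a) / PowerSeries.coeff n b) • b) =
              (h - a) - (PowerSeries.coeff n (h - a) / PowerSeries.coeff n b) • b := by abel
          rw [e, map_sub, map_smul, smul_eq_mul]
          rcases Nat.lt_succ_iff_lt_or_eq.mp hi with h1 | h1
          · rw [ha1 i h1, hb2 i h1, mul_zero, sub_zero]
          · rw [h1, div_mul_cancel₀ _ hb1, sub_self]
        · rw [map_add, map_smul, ha2 i hi, hb2 i (lt_of_lt_of_le hi hcn), smul_zero, add_zero]
  intro n
  obtain ⟨a, haA, ha1, _⟩ := key n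
  exact ⟨a, haA, PowerSeries.nat_le_order _ n ha1⟩

end Groth.Agent.Lib.helper7
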