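import Mathlib

set_option autoImplicit false
open CategoryTheory MonoidalCategory CartesianMonoidalCategory
open scoped MonObj

namespace Groth.Agent.Lib.helper7.Twist

universe v u
variable {C : Type u} [Category.{v} C] [CartesianMonoidalCategory C] {G X : C} [GrpObj G]

lemma lift_snd_congr {T : C} {a a' : T ⟶ X} {b b' : T ⟶ G} (h : lift a b = lift a' b') :
    b = b' := by
  have := congrArg (· ≫ snd X G) h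
  simpa using this

lemma point_formula (Ψ : X ⊗ G ⟶ X ⊗ G) (r : X ⟶ X) (hfst : Ψ ≫ fst X G = fst X G ≫ r)
    (heq : ∀ (T : C) (x : T ⟶ X) (g h : T ⟶ G),
      lift x (g * h) ≫ Ψ ≫ snd X G = (lift x g ≫ Ψ ≫ snd X G) * h)
    (T : C) (x : T ⟶ X) (g : T ⟶ G) :
    lift x g ≫ Ψ = lift (x ≫ r) ((x ≫ (lift (𝟙 X) 1 ≫ Ψ ≫ snd X G)) * g) := by
  apply CartesianMonoidalCategory.hom_ext
  · rw [Category.assoc, hfst, lift_fst_assoc, lift_fst]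
  · rw [Category.assoc, lift_snd]
    have h1 := heq T x 1 g
    rw [one_mul] at h1
    rw [h1]
    congr 1
    have : lift x (1 : T ⟶ G) = x ≫ lift (𝟙 X) (1 : X ⟶ G) := by
      rw [comp_lift, Category.comp_id, MonObj.comp_one]
    rw [this, Category.assoc]

lemma lam_eq (ρσ : X ⟶ X) (φσ : X ⟶ G) (lamσ : X ⊗ G ⟶ X ⊗ G)
    (hlam : ∀ (T : C) (x : T ⟶ X) (g : T ⟶ G),
      lift x g ≫ lamσ = lift (x ≫ ρσ) ((x ≫ φσ)⁻¹ * g)) :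
    lamσ = lift (fst X G ≫ ρσ) ((fst X G ≫ φσ)⁻¹ * snd X G) := by
  have := hlam _ (fst X G) (snd X G)
  rwa [lift_fst_snd, Category.id_comp] at this

theorem twist_action {Γ : Type*} [Group Γ] (ρ : Γ → (X ⟶ X)) (hρ₁ : ρ 1 = 𝟙 X)
    (hρ : ∀ σ τ : Γ, ρ (σ * τ) = ρ σ ≫ ρ τ) (φ : Γ → (X ⟶ G))
    (hφ : ∀ σ τ : Γ, φ (σ * τ) = φ σ * (ρ σ ≫ φ τ)) (lam : Γ → (X ⊗ G ⟶ X ⊗ G))
    (hlam : ∀ (σ : Γ) (T : C) (x : T ⟶ X) (g : T ⟶ G),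
      lift x g ≫ lam σ = lift (x ≫ ρ σ) ((x ≫ φ σ)⁻¹ * g)) :
    lam 1 = 𝟙 (X ⊗ G) ∧ (∀ σ τ : Γ, lam (σ * τ) = lam σ ≫ lam τ) ∧
      (∀ σ : Γ, lam σ ≫ fst X G = fst X G ≫ ρ σ) ∧
      ∀ (σ : Γ) (T : C) (x : T ⟶ X) (g h : T ⟶ G),
        lift x (g * h) ≫ lam σ ≫ snd X G = (lift x g ≫ lam σ ≫ snd X G) * h := by
  have hφ1 : φ 1 = 1 := by
    have := hφ 1 1
    rw [mul_one, hρ₁, Category.id_comp] at this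
    exact left_eq_mul.mp this
  have hl := fun σ => lam_eq (ρ σ) (φ σ) (lam σ) (hlam σ)
  refine ⟨?_, ?_, ?_, ?_⟩
  · rw [hl 1, hρ₁, hφ1, Category.comp_id, MonObj.comp_one, inv_one, one_mul, lift_fst_snd]
  · intro σ τ
    conv_rhs => rw [hl σ]
    rw [hlam τ, hl (σ * τ), hρ, hφ]
    congr 1
    · rw [Category.assoc]
    · rw [MonObj.comp_mul, mul_inv_rev, mul_assoc, Category.assoc]
  · intro σ
    rw [hl σ, lift_fst]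
  · intro σ T x g h
    rw [← Category.assoc, ← Category.assoc, hlam, hlam, lift_snd, lift_snd, mul_assoc]

theorem twist_cocycle_unique {Γ : Type*} [Group Γ] (ρ : Γ → (X ⟶ X))
    (lam : Γ → (X ⊗ G ⟶ X ⊗ G))
    (hlam : ∀ σ τ : Γ, lam (σ * τ) = lam σ ≫ lam τ)
    (hfst : ∀ σ : Γ, lam σ ≫ fst X G = fst X G ≫ ρ σ)
    (hG : ∀ (σ : Γ) (T : C) (x : T ⟶ X) (g h : T ⟶ G),
      lift x (g * h) ≫ lam σ ≫ snd X G = (lift x g ≫ lam σ ≫ snd X G) * h) :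
    ∃! φ : Γ → (X ⟶ G), (∀ σ τ : Γ, φ (σ * τ) = φ σ * (ρ σ ≫ φ τ)) ∧
      ∀ (σ : Γ) (T : C) (x : T ⟶ X) (g : T ⟶ G),
        lift x g ≫ lam σ = lift (x ≫ ρ σ) ((x ≫ φ σ)⁻¹ * g) := by
  let c : Γ → (X ⟶ G) := fun σ => lift (𝟙 X) 1 ≫ lam σ ≫ snd X G
  have hpt : ∀ (σ : Γ) (T : C) (x : T ⟶ X) (g : T ⟶ G),
      lift x g ≫ lam σ = lift (x ≫ ρ σ) ((x ≫ c σ) * g) :=
    fun σ => point_formula (lam σ) (ρ σ) (hfst σ) (hG σ)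
  refine ⟨fun σ => (c σ)⁻¹, ⟨?_, ?_⟩, ?_⟩
  · intro σ τ
    have h1 : c (σ * τ) = (ρ σ ≫ c τ) * c σ := by
      have e1 := hpt (σ * τ) X (𝟙 X) 1
      have e2 : lift (𝟙 X) (1 : X ⟶ G) ≫ lam (σ * τ) =
          lift ((𝟙 X ≫ ρ σ) ≫ ρ τ) (((𝟙 X ≫ ρ σ) ≫ c τ) * ((𝟙 X ≫ c σ) * 1)) := by
        rw [hlam, ← Category.assoc, hpt σ, hpt τ]
      have h := lift_snd_congr (e1.symm.trans e2)
      simpa only [Category.id_comp, mul_one] using h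
    show (c (σ * τ))⁻¹ = (c σ)⁻¹ * (ρ σ ≫ (c τ)⁻¹)
    rw [h1, mul_inv_rev, GrpObj.comp_inv]
  · intro σ T x g
    show lift x g ≫ lam σ = lift (x ≫ ρ σ) ((x ≫ (c σ)⁻¹)⁻¹ * g)
    rw [hpt σ T x g, GrpObj.comp_inv, inv_inv]
  · rintro φ' ⟨-, h2⟩
    funext σ
    have h := congrArg (· ≫ snd X G) (h2 σ X (𝟙 X) 1)
    simp only [Category.assoc, lift_snd, Category.id_comp, mul_one] at h
    show φ' σ = (c σ)⁻¹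
    rw [show c σ = (φ' σ)⁻¹ from h, inv_inv]

theorem twist_iso_iff {Γ : Type*} [Group Γ] (ρ : Γ → (X ⟶ X)) (φ φ' : Γ → (X ⟶ G))
    (lam lam' : Γ → (X ⊗ G ⟶ X ⊗ G))
    (hlam : ∀ (σ : Γ) (T : C) (x : T ⟶ X) (g : T ⟶ G),
      lift x g ≫ lam σ = lift (x ≫ ρ σ) ((x ≫ φ σ)⁻¹ * g))
    (hlam' : ∀ (σ : Γ) (T : C) (x : T ⟶ X) (g : T ⟶ G),
      lift x g ≫ lam' σ = lift (x ≫ ρ σ) ((x ≫ φ' σ)⁻¹ * g)) :
    (∃ Φ : X ⊗ G ⟶ X ⊗ G, IsIso Φ ∧ Φ ≫ fst X G = fst X G ∧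
      (∀ (T : C) (x : T ⟶ X) (g h : T ⟶ G),
        lift x (g * h) ≫ Φ ≫ snd X G = (lift x g ≫ Φ ≫ snd X G) * h) ∧
      ∀ σ : Γ, lam σ ≫ Φ = Φ ≫ lam' σ) ↔
    ∃ ψ : X ⟶ G, ∀ σ : Γ, φ σ = ψ⁻¹ * φ' σ * (ρ σ ≫ ψ) := by
  constructor
  · rintro ⟨Φ, -, hΦfst, hΦeq, hΦlam⟩
    let ψ₀ : X ⟶ G := lift (𝟙 X) 1 ≫ Φ ≫ snd X G
    have hpt : ∀ (T : C) (x : T ⟶ X) (g : T ⟶ G),
        lift x g ≫ Φ = lift (x ≫ 𝟙 X) ((x ≫ ψ₀) * g) :=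
      point_formula Φ (𝟙 X) (by rw [hΦfst, Category.comp_id]) hΦeq
    refine ⟨ψ₀, fun σ => ?_⟩
    have e1 : lift (𝟙 X) (1 : X ⟶ G) ≫ lam σ ≫ Φ =
        lift ((𝟙 X ≫ ρ σ) ≫ 𝟙 X) (((𝟙 X ≫ ρ σ) ≫ ψ₀) * ((𝟙 X ≫ φ σ)⁻¹ * 1)) := by
      rw [← Category.assoc, hlam, hpt]
    have e2 : lift (𝟙 X) (1 : X ⟶ G) ≫ Φ ≫ lam' σ =
        lift ((𝟙 X ≫ 𝟙 X) ≫ ρ σ) (((𝟙 X ≫ 𝟙 X) ≫ φ' σ)⁻¹ * ((𝟙 X ≫ ψ₀) * 1)) := by
      rw [← Category.assoc, hpt, hlam']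
    have h := lift_snd_congr ((e1.symm.trans (by rw [hΦlam])).trans e2)
    simp only [Category.id_comp, mul_one] at h
    have h3 : (φ σ)⁻¹ = (ρ σ ≫ ψ₀)⁻¹ * ((φ' σ)⁻¹ * ψ₀) := by rw [← h]; group
    rw [← inv_inj, h3]; group
  · rintro ⟨ψ, hψ⟩
    refine ⟨lift (fst X G) ((fst X G ≫ ψ) * snd X G),
      ⟨⟨lift (fst X G) ((fst X G ≫ ψ)⁻¹ * snd X G), ?_, ?_⟩⟩, ?_, ?_, ?_⟩
    · apply CartesianMonoidalCategory.hom_ext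
      · simp
      · simp [MonObj.comp_mul, GrpObj.comp_inv]
    · apply CartesianMonoidalCategory.hom_ext
      · simp
      · simp [MonObj.comp_mul, GrpObj.comp_inv]
    · simp
    · intro T x g h
      simp [MonObj.comp_mul, mul_assoc]
    · intro σ
      rw [lam_eq (ρ σ) (φ σ) (lam σ) (hlam σ), hlam' σ, comp_lift, lift_fst, MonObj.comp_mul,
        lift_snd, lift_fst_assoc]
      congr 1
      rw [hψ σ, MonObj.comp_mul, MonObj.comp_mul, GrpObj.comp_inv, Category.assoc]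
      group

end Groth.Agent.Lib.helper7.Twist
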