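import Mathlib

/-!
Localizations of products of domains at a prime: indicator idempotents and the domain property.
-/

namespace Groth.Agent.Lib.helper7

universe u

section UltraLoc

variable {ι : Type u} (R : ι → Type u) [∀ i, CommRing (R i)]

open Classical in
/-- indicator idempotent of a subset of the index set -/
noncomputable def ul_ind (U : Set ι) : ∀ i, R i := fun i => if i ∈ U then 1 else 0

theorem ul_ind_mem {U : Set ι} {i : ι} (hi : i ∈ U) : ul_ind R U i = 1 := by
  classical
  simp [ul_ind, hi]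

theorem ul_ind_not_mem {U : Set ι} {i : ι} (hi : i ∉ U) : ul_ind R U i = 0 := by
  classical
  simp [ul_ind, hi]

theorem ul_ind_or (P : Ideal (∀ i, R i)) [P.IsPrime] (U : Set ι) :
    ul_ind R U ∉ P ∨ ul_ind R Uᶜ ∉ P := by
  by_contra hcon
  rw [not_or, not_not, not_not] at hcon
  have h1 : ul_ind R U + ul_ind R Uᶜ = 1 := by
    funext i
    by_cases hi : i ∈ U
    · rw [Pi.add_apply, ul_ind_mem R hi, ul_ind_not_mem R (show i ∉ Uᶜ from fun h => h hi)]
      simp
    · rw [Pi.add_apply, ul_ind_not_mem R hi, ul_ind_mem R (show i ∈ Uᶜ from hi)]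
      simp
  have h2 : (1 : ∀ i, R i) ∈ P := h1 ▸ P.add_mem hcon.1 hcon.2
  exact (Ideal.IsPrime.ne_top ‹P.IsPrime›) ((Ideal.eq_top_iff_one P).mpr h2)

theorem ul_isDomain [∀ i, IsDomain (R i)] (P : Ideal (∀ i, R i)) [P.IsPrime] :
    IsDomain (Localization.AtPrime P) := by
  haveI : Nontrivial (Localization.AtPrime P) := inferInstance
  haveI : NoZeroDivisors (Localization.AtPrime P) := by
    constructor
    intro x y hxy
    obtain ⟨a, s, rfl⟩ := IsLocalization.exists_mk'_eq P.primeCompl x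
    obtain ⟨b, t, rfl⟩ := IsLocalization.exists_mk'_eq P.primeCompl y
    rw [← IsLocalization.mk'_mul, IsLocalization.mk'_eq_zero_iff] at hxy
    obtain ⟨c, hc⟩ := hxy
    rcases ul_ind_or R P {i | a i = 0} with hU | hU
    · left
      rw [IsLocalization.mk'_eq_zero_iff]
      refine ⟨⟨ul_ind R {i | a i = 0}, hU⟩, ?_⟩
      funext i
      by_cases hi : i ∈ {i | a i = 0}
      · have h0 : a i = 0 := hi
        simp [Pi.mul_apply, h0]
      · simp [Pi.mul_apply, ul_ind_not_mem R hi]
    · right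
      rw [IsLocalization.mk'_eq_zero_iff]
      refine ⟨⟨ul_ind R {i | a i = 0}ᶜ * c, P.primeCompl.mul_mem hU c.2⟩, ?_⟩
      funext i
      by_cases hi : i ∈ {i | a i = 0}
      · simp [Pi.mul_apply, ul_ind_not_mem R (show i ∉ {i | a i = 0}ᶜ from fun h => h hi)]
      · have h1 : c.1 i * (a i * b i) = 0 := congrFun hc i
        have h2 : a i ≠ 0 := hi
        have h3 : c.1 i * b i = 0 := by
          have h4 : a i * (c.1 i * b i) = 0 := by rw [← h1]; ring
          exact (mul_eq_zero.mp h4).resolve_left h2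
        have e1 : ul_ind R {i | a i = 0}ᶜ i = 1 := ul_ind_mem R (show i ∈ {i | a i = 0}ᶜ from hi)
        simp only [Pi.mul_apply, Pi.zero_apply, e1, one_mul]
        exact h3
  exact NoZeroDivisors.to_isDomain _

theorem ul_exists_of_isIntegral [∀ i, IsDomain (R i)] [∀ i, IsIntegrallyClosed (R i)]
    (P : Ideal (∀ i, R i)) [P.IsPrime]
    (L : Type u) [CommRing L] [IsDomain L] [Algebra (∀ i, R i) L] [IsLocalization.AtPrime L P]
    (K : Type u) [Field K] [Algebra L K] [IsFractionRing L K] [Algebra (∀ i, R i) K]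
    [IsScalarTower (∀ i, R i) L K]
    (x : K) (hx : IsIntegral L x) : ∃ y : L, algebraMap L K y = x := by
  classical
  have hψ : Function.Injective (algebraMap L K) := IsFractionRing.injective L K
  have hf : ∀ c : (∀ i, R i), algebraMap (∀ i, R i) K c = algebraMap L K (algebraMap (∀ i, R i) L c) :=
    fun c => IsScalarTower.algebraMap_apply (∀ i, R i) L K c
  -- step 1/2 : write x as a fraction of elements coming from the product
  obtain ⟨α, β, hβ, hαβ⟩ := IsFractionRing.div_surjective (A := L) x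
  obtain ⟨⟨a₀, s₁⟩, e1⟩ := IsLocalization.surj P.primeCompl α
  obtain ⟨⟨b₀, s₂⟩, e2⟩ := IsLocalization.surj P.primeCompl β
  simp only at e1 e2
  have hβ0 : algebraMap L K β ≠ 0 := by
    intro h
    exact nonZeroDivisors.ne_zero hβ ((injective_iff_map_eq_zero _).mp hψ _ h)
  have hs1 : algebraMap (∀ i, R i) L (s₁ : ∀ i, R i) ≠ 0 :=
    (IsLocalization.map_units L s₁).ne_zero
  have hs2 : algebraMap (∀ i, R i) L (s₂ : ∀ i, R i) ≠ 0 :=
    (IsLocalization.map_units L s₂).ne_zero
  obtain ⟨a, ha⟩ : ∃ a : ∀ i, R i, a = a₀ * s₂ := ⟨_, rfl⟩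
  obtain ⟨b, hb⟩ : ∃ b : ∀ i, R i, b = b₀ * s₁ := ⟨_, rfl⟩
  have hφb : algebraMap (∀ i, R i) L b = β * algebraMap (∀ i, R i) L (s₂ : ∀ i, R i) *
      algebraMap (∀ i, R i) L (s₁ : ∀ i, R i) := by
    rw [hb, map_mul, ← e2]
  have hφa : algebraMap (∀ i, R i) L a = α * algebraMap (∀ i, R i) L (s₁ : ∀ i, R i) *
      algebraMap (∀ i, R i) L (s₂ : ∀ i, R i) := by
    rw [ha, map_mul, ← e1]
  have hbne : algebraMap (∀ i, R i) K b ≠ 0 := by
    rw [hf, hφb]
    intro h
    have h' := (injective_iff_map_eq_zero _).mp hψ _ h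
    exact mul_ne_zero (mul_ne_zero (nonZeroDivisors.ne_zero hβ) hs2) hs1 h'
  have hxb : x * algebraMap (∀ i, R i) K b = algebraMap (∀ i, R i) K a := by
    rw [hf, hf, hφb, hφa, ← hαβ, map_mul, map_mul, map_mul, map_mul]
    field_simp
  -- step 3 : integrality over the product after clearing a denominator
  obtain ⟨m, hm⟩ := IsIntegral.exists_multiple_integral_of_isLocalization P.primeCompl x hx
  obtain ⟨q, hq, hq0⟩ := hm
  have hmx : m • x = algebraMap (∀ i, R i) K (m : ∀ i, R i) * x := by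
    rw [Submonoid.smul_def, Algebra.smul_def]
  -- step 4
  have hE : algebraMap (∀ i, R i) K (Polynomial.eval ((m : ∀ i, R i) * a) (q.scaleRoots b)) = 0 := by
    have h1 := Polynomial.scaleRoots_eval₂_mul (p := q) (algebraMap (∀ i, R i) K) (m • x) b
    rw [hq0, mul_zero] at h1
    have h2 : algebraMap (∀ i, R i) K b * m • x
        = algebraMap (∀ i, R i) K ((m : ∀ i, R i) * a) := by
      rw [hmx, map_mul, ← hxb]
      ring
    rw [h2, Polynomial.eval₂_at_apply] at h1
    exact h1
  have hE' : algebraMap (∀ i, R i) L (Polynomial.eval ((m : ∀ i, R i) * a) (q.scaleRoots b)) = 0 := by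
    rw [hf] at hE
    exact (injective_iff_map_eq_zero _).mp hψ _ hE
  obtain ⟨t, ht⟩ := (IsLocalization.map_eq_zero_iff P.primeCompl L _).mp hE'
  -- step 5 : componentwise
  have hw : ∀ i, (t : ∀ i, R i) i ≠ 0 → b i ≠ 0 →
      ∃ w : R i, w * b i = (m : ∀ i, R i) i * a i := by
    intro i hti hbi
    have hEi : Polynomial.eval ((m : ∀ i, R i) i * a i)
        ((q.map (Pi.evalRingHom R i)).scaleRoots (b i)) = 0 := by
      have h1 : (t : ∀ i, R i) i *
          (Polynomial.eval ((m : ∀ i, R i) * a) (q.scaleRoots b)) i = 0 := congrFun ht i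
      have h2 := (mul_eq_zero.mp h1).resolve_left hti
      have h3 : (Pi.evalRingHom R i) (Polynomial.eval ((m : ∀ i, R i) * a) (q.scaleRoots b)) = 0 :=
        h2
      rw [← Polynomial.eval₂_at_apply, ← Polynomial.eval_map, Polynomial.map_scaleRoots] at h3
      · exact h3
      · rw [hq.leadingCoeff, map_one]
        exact one_ne_zero
    have hg : Function.Injective (algebraMap (R i) (FractionRing (R i))) :=
      IsFractionRing.injective (R i) (FractionRing (R i))
    have hgb : algebraMap (R i) (FractionRing (R i)) (b i) ≠ 0 := by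
      intro h
      exact hbi ((injective_iff_map_eq_zero _).mp hg _ h)
    have h4 := Polynomial.scaleRoots_eval₂_mul (p := q.map (Pi.evalRingHom R i))
      (algebraMap (R i) (FractionRing (R i)))
      (algebraMap (R i) (FractionRing (R i)) ((m : ∀ i, R i) i * a i) /
        algebraMap (R i) (FractionRing (R i)) (b i)) (b i)
    rw [mul_div_cancel₀ _ hgb, Polynomial.eval₂_at_apply, hEi, map_zero] at h4
    have h5 := (mul_eq_zero.mp h4.symm).resolve_left (pow_ne_zero _ hgb)
    have hint : IsIntegral (R i) (algebraMap (R i) (FractionRing (R i)) ((m : ∀ i, R i) i * a i) /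
        algebraMap (R i) (FractionRing (R i)) (b i)) :=
      ⟨q.map (Pi.evalRingHom R i), hq.map _, h5⟩
    obtain ⟨w, hw⟩ := (isIntegrallyClosed_iff (FractionRing (R i))).mp inferInstance hint
    refine ⟨w, ?_⟩
    apply hg
    rw [map_mul, hw, div_mul_cancel₀ _ hgb]
  -- step 6
  let w : ∀ i, R i := fun i =>
    if h : (t : ∀ i, R i) i ≠ 0 ∧ b i ≠ 0 then (hw i h.1 h.2).choose else 0
  have hwspec : ∀ i, (t : ∀ i, R i) i ≠ 0 → b i ≠ 0 → w i * b i = (m : ∀ i, R i) i * a i := by
    intro i h1 h2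
    have h : (t : ∀ i, R i) i ≠ 0 ∧ b i ≠ 0 := ⟨h1, h2⟩
    simp only [w, dif_pos h]
    exact (hw i h.1 h.2).choose_spec
  have hV : ul_ind R {i | b i = 0}ᶜ ∉ P := by
    rcases ul_ind_or R P {i | b i = 0} with h | h
    · exfalso
      apply hbne
      rw [hf]
      have : algebraMap (∀ i, R i) L b = 0 := by
        rw [IsLocalization.map_eq_zero_iff P.primeCompl L]
        refine ⟨⟨ul_ind R {i | b i = 0}, h⟩, ?_⟩
        funext i
        by_cases hi : i ∈ {i | b i = 0}
        · have h0 : b i = 0 := hi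
          simp [Pi.mul_apply, h0]
        · simp [Pi.mul_apply, ul_ind_not_mem R hi]
      rw [this, map_zero]
    · exact h
  have hW : ul_ind R {i | (t : ∀ i, R i) i = 0}ᶜ ∉ P := by
    rcases ul_ind_or R P {i | (t : ∀ i, R i) i = 0} with h | h
    · exfalso
      have h1 : ul_ind R {i | (t : ∀ i, R i) i = 0} * (t : ∀ i, R i) = 0 := by
        funext i
        by_cases hi : i ∈ {i | (t : ∀ i, R i) i = 0}
        · have h0 : (t : ∀ i, R i) i = 0 := hi
          simp [Pi.mul_apply, h0]
        · simp [Pi.mul_apply, ul_ind_not_mem R hi]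
      have h2 : ul_ind R {i | (t : ∀ i, R i) i = 0} * (t : ∀ i, R i) ∈ P := by
        rw [h1]; exact P.zero_mem
      rcases (Ideal.IsPrime.mem_or_mem ‹P.IsPrime› h2) with h3 | h3
      · exact h h3
      · exact t.2 h3
    · exact h
  have hc : (ul_ind R {i | b i = 0}ᶜ * ul_ind R {i | (t : ∀ i, R i) i = 0}ᶜ) * (w * b)
      = (ul_ind R {i | b i = 0}ᶜ * ul_ind R {i | (t : ∀ i, R i) i = 0}ᶜ) * ((m : ∀ i, R i) * a) := by
    funext i
    by_cases hbi : b i = 0
    · have e0 : ul_ind R {i | b i = 0}ᶜ i = 0 :=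
        ul_ind_not_mem R (show i ∉ {i | b i = 0}ᶜ from fun h => h hbi)
      simp only [Pi.mul_apply, e0, zero_mul]
    · by_cases hti : (t : ∀ i, R i) i = 0
      · have e0 : ul_ind R {i | (t : ∀ i, R i) i = 0}ᶜ i = 0 :=
          ul_ind_not_mem R (show i ∉ {i | (t : ∀ i, R i) i = 0}ᶜ from fun h => h hti)
        simp only [Pi.mul_apply, e0, mul_zero, zero_mul]
      · simp only [Pi.mul_apply]
        rw [hwspec i hti hbi]
  -- step 7
  have h5 : algebraMap (∀ i, R i) L (w * b) = algebraMap (∀ i, R i) L ((m : ∀ i, R i) * a) :=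
    (IsLocalization.eq_iff_exists P.primeCompl L).mpr
      ⟨⟨_, P.primeCompl.mul_mem hV hW⟩, hc⟩
  have hu : IsUnit (algebraMap (∀ i, R i) L (m : ∀ i, R i)) := IsLocalization.map_units L m
  have h6 : IsLocalization.mk' L w m * algebraMap (∀ i, R i) L b = algebraMap (∀ i, R i) L a := by
    apply hu.mul_left_inj.mp
    calc IsLocalization.mk' L w m * algebraMap (∀ i, R i) L b *
          algebraMap (∀ i, R i) L (m : ∀ i, R i)
        = (IsLocalization.mk' L w m * algebraMap (∀ i, R i) L (m : ∀ i, R i)) *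
          algebraMap (∀ i, R i) L b := by ring
      _ = algebraMap (∀ i, R i) L w * algebraMap (∀ i, R i) L b := by
          rw [IsLocalization.mk'_spec]
      _ = algebraMap (∀ i, R i) L (w * b) := (map_mul _ _ _).symm
      _ = algebraMap (∀ i, R i) L ((m : ∀ i, R i) * a) := h5
      _ = algebraMap (∀ i, R i) L a * algebraMap (∀ i, R i) L (m : ∀ i, R i) := by
          rw [map_mul]; ring
  refine ⟨IsLocalization.mk' L w m, ?_⟩
  have h7 : algebraMap L K (IsLocalization.mk' L w m) * algebraMap (∀ i, R i) K b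
      = x * algebraMap (∀ i, R i) K b := by
    rw [hxb, hf b, ← map_mul, h6, ← hf]
  exact mul_right_cancel₀ hbne h7

end UltraLoc

end Groth.Agent.Lib.helper7
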